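import Groth.Agent.ModPair23.CartierStage
import Groth.Agent.H8Lim.AffineProper
import Groth.Agent.H8Lim.ApproxPair
import Groth.Agent.H8Lim.AffineModel

/-!
# Modulus pairs as limits of modulus pairs of finite type
-/

set_option autoImplicit false
set_option linter.style.haveILetI false
set_option backward.isDefEq.respectTransparency.types false

universe u

open CategoryTheory CategoryTheory.Limits AlgebraicGeometry TopologicalSpace Opposite

namespace Groth.Agent.ModPair23

theorem isSTD_of_app_injective {X Y : Scheme.{u}} (f : X ⟶ Y) [QuasiCompact f]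
    (h : ∀ U : Y.Opens, Function.Injective (f.app U)) : IsSchemeTheoreticallyDominant f := by
  rw [isSchemeTheoreticallyDominant_iff, ← le_bot_iff]
  intro W s hs
  rw [Scheme.IdealSheafData.ideal_bot, Pi.bot_apply, Ideal.mem_bot]
  rw [Scheme.Hom.ker_apply, RingHom.mem_ker] at hs
  exact h W.1 (hs.trans (map_zero _).symm)

theorem app_injective_of_comp {X Y Z : Scheme.{u}} (g : X ⟶ Y) (f : Y ⟶ Z) (p : X ⟶ Z) (e : g ≫ f = p)
    (U : Z.Opens) (h : Function.Injective (p.app U)) : Function.Injective (f.app U) := by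
  subst e
  rw [Scheme.Hom.comp_app] at h
  exact fun a b hab => h (by
    show (g.app _) (f.app U a) = (g.app _) (f.app U b)
    rw [hab])

theorem exists_isLimit_finiteType_pairs {X S : Scheme.{u}} [CompactSpace S] [QuasiSeparatedSpace S]
    (IS : S.IdealSheafData) (IX : X.IdealSheafData) (hX : BlowUp.IsEffCartierIdeal IX)
    (f : X ⟶ S) [QuasiCompact f] [IsSeparated f] (hf : ModPair.IsAmbient IX IS f) :
    ∃ (I : Type u) (_ : SmallCategory I) (_ : IsCofiltered I) (D : I ⥤ Over S) (c : Cone D)
      (_ : IsLimit c) (e : c.pt ≅ Over.mk f) (J : ∀ i, (D.obj i).left.IdealSheafData),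
      (∀ i, BlowUp.IsEffCartierIdeal (J i)) ∧
      (∀ i, LocallyOfFiniteType (D.obj i).hom ∧ QuasiCompact (D.obj i).hom ∧ IsSeparated (D.obj i).hom) ∧
      (∀ i, ModPair.IsAmbient (J i) IS (D.obj i).hom) ∧
      (∀ (i j : I) (t : i ⟶ j), IsAffineHom (D.map t).left ∧ ModPair.IsMinimal (J i) (J j) (D.map t).left ∧
          IsSchemeTheoreticallyDominant (D.map t).left) ∧
      (∀ i, IX = (J i).comap (e.inv.left ≫ (c.π.app i).left)) := by
  haveI : CompactSpace X := QuasiCompact.compactSpace_of_compactSpace f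
  haveI : QuasiSeparatedSpace X := quasiSeparatedSpace_of_quasiSeparated f
  obtain ⟨Z, g, h, hg, hh, hgh⟩ := H8Lim.exists_affine_comp_proper f
  haveI := hg; haveI := hh
  haveI : CompactSpace Z := QuasiCompact.compactSpace_of_compactSpace h
  haveI : QuasiSeparatedSpace Z := quasiSeparatedSpace_of_quasiSeparated h
  let E := H8Lim.Family.diagram g
  let C := H8Lim.Family.cone g
  obtain ⟨hC⟩ := H8Lim.Family.isLimit_cone g
  haveI : ∀ {i j : (H8Lim.Family g)ᵒᵖ} (t : i ⟶ j), IsAffineHom (E.map t) :=
    fun {i j} t => H8Lim.Family.isAffineHom_map t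
  let π : ∀ i, E.obj i ⟶ Z := fun i => i.unop.alg.π
  haveI : ∀ i, IsAffineHom (π i) := fun i => i.unop.alg.isAffineHom_π
  haveI : ∀ i, LocallyOfFiniteType (π i) := fun i => H8Lim.Family.locallyOfFiniteType_π i.unop
  haveI : ∀ i, CompactSpace (E.obj i) := fun i => QuasiCompact.compactSpace_of_compactSpace (π i)
  haveI : ∀ i, QuasiSeparatedSpace (E.obj i) := fun i => quasiSeparatedSpace_of_quasiSeparated (π i)
  have hinj : ∀ i (U : (E.obj i).Opens), Function.Injective ((C.π.app i).app U) :=
    fun i U => H8Lim.Family.toModel_app_injective i.unop U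
  obtain ⟨i₀, K, hK, hKX⟩ := H8Lim.exists_stage_idealSheaf hC IX (ModPairLib.isFiniteType_of_effCartier hX)
  obtain ⟨l, q, hq⟩ := exists_effCartier_stage hC hinj K hK (by rw [hKX]; exact hX)
  have hl : BlowUp.IsEffCartierIdeal (K.comap (E.map q)) := by
    have := hq l (𝟙 l); rwa [Category.id_comp] at this
  have hlX : (K.comap (E.map q)).comap (C.π.app l) = IX := by
    rw [← Scheme.IdealSheafData.comap_comp, C.w, hKX]
  have hπh : ∀ i, C.π.app i ≫ π i ≫ h = f := fun i => by
    rw [← Category.assoc]
    exact (congrArg (· ≫ h) i.unop.toModel_π).trans hgh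
  obtain ⟨m, p, hp⟩ := exists_comap_le E C hC l (K.comap (E.map q)) (IS.comap (π l ≫ h))
    (ModPairLib.isFiniteType_of_effCartier hl) (by
      rw [hlX, ← Scheme.IdealSheafData.comap_comp, hπh]; exact hf)
  have hstr : ∀ {i j} (t : i ⟶ j), E.map t ≫ π j ≫ h = π i ≫ h := fun {i j} t => by
    rw [← Category.assoc]
    exact congrArg (· ≫ h) (((H8Lim.Family.diagramπ g).naturality t).trans (Category.comp_id _))
  let D : Over m ⥤ Over S :=
    { obj := fun i => Over.mk (π i.left ≫ h)
      map := fun {i j} t => Over.homMk (E.map t.left) (hstr t.left)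
      map_id := fun i => Over.OverMorphism.ext (E.map_id i.left)
      map_comp := fun s t => Over.OverMorphism.ext (E.map_comp s.left t.left) }
  let c : Cone D :=
    { pt := Over.mk f
      π :=
        { app := fun i => Over.homMk (C.π.app i.left) (hπh i.left)
          naturality := fun i j t => Over.OverMorphism.ext
            ((Category.id_comp _).trans (C.w t.left).symm) } }
  haveI : IsConnected (Over m) := IsCofiltered.isConnected _
  have hc : IsLimit c := by
    refine @isLimitOfReflects _ _ _ _ _ _ _ (Over.forget S) c ?_ _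
    exact (Functor.Initial.isLimitWhiskerEquiv (Over.forget m) C).symm hC
  let J : ∀ i : Over m, (D.obj i).left.IdealSheafData := fun i => K.comap (E.map ((i.hom ≫ p) ≫ q))
  refine ⟨Over m, inferInstance, inferInstance, D, c, hc, Iso.refl _, J, fun i => hq _ _, fun i => ?_,
    fun i => ?_, fun i j t => ⟨inferInstanceAs (IsAffineHom (E.map t.left)), ?_, ?_⟩, fun i => ?_⟩
  · show LocallyOfFiniteType (π i.left ≫ h) ∧ QuasiCompact (π i.left ≫ h) ∧ IsSeparated (π i.left ≫ h)
    exact ⟨inferInstance, inferInstance, inferInstance⟩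
  · show K.comap (E.map ((i.hom ≫ p) ≫ q)) ≤ IS.comap (π i.left ≫ h)
    have := Scheme.IdealSheafData.comap_mono (E.map i.hom) hp
    simp only [← Scheme.IdealSheafData.comap_comp, ← E.map_comp, ← E.map_comp_assoc] at this
    rwa [hstr, ← Category.assoc] at this
  · show K.comap (E.map ((i.hom ≫ p) ≫ q)) = (K.comap (E.map ((j.hom ≫ p) ≫ q))).comap (E.map t.left)
    rw [← Scheme.IdealSheafData.comap_comp, ← E.map_comp, ← Over.w t]
    simp only [Category.assoc]
  · exact isSTD_of_app_injective (E.map t.left) fun U =>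
      app_injective_of_comp (C.π.app i.left) _ _ (C.w t.left) U (hinj _ U)
  · show IX = (K.comap (E.map ((i.hom ≫ p) ≫ q))).comap (𝟙 X ≫ C.π.app i.left)
    rw [← Scheme.IdealSheafData.comap_comp, Category.id_comp]
    exact hKX.symm.trans (congrArg K.comap (C.w ((i.hom ≫ p) ≫ q)).symm)

end Groth.Agent.ModPair23
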