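import Groth.Agent.ModPair23.DescendAmbient
import Groth.Agent.H8Lim.ClosedIntoStage
import Groth.Agent.FSchLib.IdealSheaf

/-!
# Effective Cartier ideals along limits with injective projections
-/

set_option autoImplicit false
set_option linter.style.haveILetI false
set_option backward.isDefEq.respectTransparency.types false

universe u

open CategoryTheory CategoryTheory.Limits AlgebraicGeometry TopologicalSpace

namespace Groth.Agent.ModPair23

/-- If `K` generates the principal ideal `(f)` in `B` and the relevant elements lie in the subring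
`A`, then `K` is already principal in `A`. -/
theorem map_eq_span_of_injective {R A B : Type*} [CommRing R] [CommRing A] [CommRing B] (α : R →+* A)
    (β : A →+* B) (hβ : Function.Injective β) (G : Finset R) (f' : A) (c a : R → A)
    (hc : β f' = ∑ g ∈ G, β (c g) * β (α g))
    (ha : ∀ g ∈ G, β (a g) * β f' = β (α g)) :
    Ideal.map α (Ideal.span (G : Set R)) = Ideal.span {f'} := by
  apply le_antisymm
  · rw [Ideal.map_span, Ideal.span_le]
    rintro _ ⟨g, hg, rfl⟩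
    exact Ideal.mem_span_singleton'.2 ⟨a g, hβ (by rw [map_mul]; exact ha g hg)⟩
  · rw [Ideal.span_le, Set.singleton_subset_iff]
    have : f' = ∑ g ∈ G, c g * α g := hβ (by simp [map_sum, map_mul, hc])
    rw [this]
    exact Ideal.sum_mem _ fun g hg => Ideal.mul_mem_left _ _ (Ideal.mem_map_of_mem _ (Ideal.subset_span hg))

theorem mem_nonZeroDivisors_of_injective' {A B : Type*} [CommRing A] [CommRing B] (β : A →+* B)
    (hβ : Function.Injective β) {a : A} (h : β a ∈ nonZeroDivisors B) : a ∈ nonZeroDivisors A := by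
  rw [mem_nonZeroDivisors_iff_right]
  intro z hz
  exact hβ ((mem_nonZeroDivisors_iff_right.1 h (β z) (by rw [← map_mul, hz, map_zero])).trans (map_zero β).symm)

variable {I : Type u} [SmallCategory I] [IsCofiltered I] {E : I ⥤ Scheme.{u}} {c : Cone E}
  (hc : IsLimit c) [∀ {i j : I} (t : i ⟶ j), IsAffineHom (E.map t)]
  (hinj : ∀ (i : I) (U : (E.obj i).Opens), Function.Injective ((c.π.app i).app U))

include hc hinj in
theorem exists_principal_stage {i : I} (U : (E.obj i).affineOpens) (hV : IsAffineOpen (c.π.app i ⁻¹ᵁ U.1))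
    (K : (E.obj i).IdealSheafData) (hK : BlowUp.IsFiniteTypeIdeal K) (f : Γ(c.pt, c.π.app i ⁻¹ᵁ U.1))
    (hf : f ∈ nonZeroDivisors Γ(c.pt, c.π.app i ⁻¹ᵁ U.1))
    (h : (K.comap (c.π.app i)).ideal ⟨_, hV⟩ = Ideal.span {f}) :
    ∃ (l : I) (q : l ⟶ i), ∀ (m : I) (p : m ⟶ l), ∃ f' ∈ nonZeroDivisors Γ(E.obj m, E.map (p ≫ q) ⁻¹ᵁ U.1),
      (K.comap (E.map (p ≫ q))).ideal ⟨_, U.2.preimage (E.map (p ≫ q))⟩ = Ideal.span {f'} := by
  classical
  obtain ⟨G, hG⟩ := hK U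
  let β : Γ(E.obj i, U.1) →+* Γ(c.pt, c.π.app i ⁻¹ᵁ U.1) :=
    ((c.π.app i).appLE U.1 (c.π.app i ⁻¹ᵁ U.1) le_rfl).hom
  have hmap : Ideal.span (β '' (G : Set Γ(E.obj i, U.1))) = Ideal.span {f} := by
    rw [← Ideal.map_span, ← h, FSchLib.ideal_comap_eq_map (c.π.app i) K ⟨_, hV⟩ U le_rfl, ← hG]
  have hfmem : f ∈ Ideal.span ((G.image β : Finset _) : Set Γ(c.pt, c.π.app i ⁻¹ᵁ U.1)) := by
    rw [Finset.coe_image, hmap]
    exact Ideal.subset_span rfl
  have hg : ∀ g : Γ(E.obj i, U.1), ∃ a, g ∈ G → a * f = β g := fun g => by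
    by_cases hg : g ∈ G
    · obtain ⟨a, ha⟩ := Ideal.mem_span_singleton'.1
        (hmap.le (Ideal.subset_span ⟨g, hg, rfl⟩))
      exact ⟨a, fun _ => ha⟩
    · exact ⟨0, fun h => absurd h hg⟩
  choose a ha using hg
  obtain ⟨w, hw⟩ : ∃ w : Γ(E.obj i, U.1) → Γ(c.pt, c.π.app i ⁻¹ᵁ U.1), f = ∑ g ∈ G, w g * β g := by
    rw [Finset.coe_image] at hfmem
    change f ∈ Submodule.span _ _ at hfmem
    obtain ⟨t, ht⟩ := Finsupp.mem_span_image_iff_linearCombination _ |>.1 hfmem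
    refine ⟨fun g => t g, ?_⟩
    rw [← ht.2, Finsupp.linearCombination_apply]
    exact Finsupp.sum_of_support_subset t
      (fun g hg => (Finsupp.mem_supported _ t).1 ht.1 hg) _ (fun g _ => zero_smul _ _)
  let s : Finset Γ(c.pt, c.π.app i ⁻¹ᵁ U.1) := insert f (G.image w ∪ G.image a)
  choose j φ x hx using fun z : s => H8Lim.exists_appLE_π_eq hc U.2 (z : Γ(c.pt, c.π.app i ⁻¹ᵁ U.1))
  obtain ⟨l₀, q₀, g₀, hgk⟩ := IsCofiltered.wideCospan φ
  refine ⟨l₀, q₀, fun m p => ?_⟩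
  have hle : c.π.app i ⁻¹ᵁ U.1 = c.π.app m ⁻¹ᵁ E.map (p ≫ q₀) ⁻¹ᵁ U.1 := by
    rw [← Scheme.Hom.comp_preimage, c.w]
  let βm := ((c.π.app m).appLE (E.map (p ≫ q₀) ⁻¹ᵁ U.1) (c.π.app i ⁻¹ᵁ U.1) hle.le).hom
  let α := ((E.map (p ≫ q₀)).appLE U.1 (E.map (p ≫ q₀) ⁻¹ᵁ U.1) le_rfl).hom
  have hβm : Function.Injective βm :=
    H8Lim.appLE_of_eq (c.π.app m) hle (fun g => Function.Injective g) (hinj m _)
  have hαβ : ∀ r, βm (α r) = β r := fun r => by
    show ((E.map (p ≫ q₀)).appLE _ _ _ ≫ (c.π.app m).appLE _ _ _) r = _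
    rw [Scheme.Hom.appLE_comp_appLE]
    simp only [c.w]
    rfl
  have hlift : ∀ z ∈ s, ∃ y, βm y = z := fun z hz => by
    refine ⟨((E.map (p ≫ g₀ ⟨z, hz⟩)).appLE _ (E.map (p ≫ q₀) ⁻¹ᵁ U.1) (le_of_eq (by
      rw [← Scheme.Hom.comp_preimage, ← E.map_comp, Category.assoc, hgk]))) (x ⟨z, hz⟩), ?_⟩
    show ((E.map (p ≫ g₀ ⟨z, hz⟩)).appLE _ _ _ ≫ (c.π.app m).appLE _ _ _) (x ⟨z, hz⟩) = z
    rw [Scheme.Hom.appLE_comp_appLE]
    simp only [c.w]
    exact hx ⟨z, hz⟩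
  obtain ⟨f', hf'⟩ := hlift f (Finset.mem_insert_self _ _)
  have hw' : ∀ g, ∃ y, g ∈ G → βm y = w g := fun g => by
    by_cases hg : g ∈ G
    · obtain ⟨y, hy⟩ := hlift (w g) (Finset.mem_insert_of_mem (Finset.mem_union_left _ (Finset.mem_image_of_mem _ hg)))
      exact ⟨y, fun _ => hy⟩
    · exact ⟨0, fun h => absurd h hg⟩
  have ha' : ∀ g, ∃ y, g ∈ G → βm y = a g := fun g => by
    by_cases hg : g ∈ G
    · obtain ⟨y, hy⟩ := hlift (a g) (Finset.mem_insert_of_mem (Finset.mem_union_right _ (Finset.mem_image_of_mem _ hg)))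
      exact ⟨y, fun _ => hy⟩
    · exact ⟨0, fun h => absurd h hg⟩
  choose w' hw' using hw'
  choose a' ha' using ha'
  refine ⟨f', mem_nonZeroDivisors_of_injective' βm hβm (hf'.symm ▸ hf), ?_⟩
  rw [FSchLib.ideal_comap_eq_map (E.map (p ≫ q₀)) K ⟨_, U.2.preimage (E.map (p ≫ q₀))⟩ U le_rfl, ← hG]
  refine map_eq_span_of_injective α βm hβm G f' w' a' ?_ (fun g hg => ?_)
  · rw [hf', hw]
    exact Finset.sum_congr rfl fun g hg => by rw [hw' g hg, hαβ]
  · rw [ha' g hg, hf', hαβ]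
    exact ha g hg

include hc hinj in
/-- An effective Cartier ideal on the limit comes from effective Cartier ideals at all stages below some
stage. -/
theorem exists_effCartier_stage [∀ i, CompactSpace (E.obj i)] {i₀ : I} (K : (E.obj i₀).IdealSheafData)
    (hK : BlowUp.IsFiniteTypeIdeal K) (hC : BlowUp.IsEffCartierIdeal (K.comap (c.π.app i₀))) :
    ∃ (l : I) (q : l ⟶ i₀), ∀ (m : I) (p : m ⟶ l), BlowUp.IsEffCartierIdeal (K.comap (E.map (p ≫ q))) := by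
  classical
  have hloc : ∀ x : c.pt, ∃ (l : I) (q : l ⟶ i₀) (W : (E.obj l).Opens), c.π.app l x ∈ W ∧
      ∀ (m : I) (p : m ⟶ l), ∀ y ∈ E.map p ⁻¹ᵁ W, ∃ V : (E.obj m).affineOpens, y ∈ V.1 ∧
        ∃ f ∈ nonZeroDivisors Γ(E.obj m, V.1), (K.comap (E.map (p ≫ q))).ideal V = Ideal.span {f} := by
    intro x
    obtain ⟨A, hxA, f, hf, hfA⟩ := hC x
    obtain ⟨_, ⟨i₁, V₁, hV₁, rfl⟩, hxV, hle⟩ :=
      Opens.isBasis_iff_nbhd.mp (isBasis_preimage_isAffineOpen E c hc) hxA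
    obtain ⟨i, a₀, a₁, -⟩ : ∃ (i : I) (_ : i ⟶ i₀) (_ : i ⟶ i₁), True :=
      ⟨IsCofiltered.min i₀ i₁, IsCofiltered.minToLeft _ _, IsCofiltered.minToRight _ _, trivial⟩
    have heq : c.π.app i ⁻¹ᵁ E.map a₁ ⁻¹ᵁ V₁ = c.π.app i₁ ⁻¹ᵁ V₁ := by
      rw [← Scheme.Hom.comp_preimage, c.w]
    haveI := isAffineHom_π_app E c hc i
    let U : (E.obj i).affineOpens := ⟨E.map a₁ ⁻¹ᵁ V₁, hV₁.preimage _⟩
    have hle' : c.π.app i ⁻¹ᵁ U.1 ≤ A.1 := heq.le.trans hle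
    have hcomp : (K.comap (E.map a₀)).comap (c.π.app i) = K.comap (c.π.app i₀) := by
      rw [← Scheme.IdealSheafData.comap_comp, c.w]
    obtain ⟨l, q, hlq⟩ := exists_principal_stage hc hinj U (U.2.preimage _) (K.comap (E.map a₀))
      (fun V => by
        haveI : LocallyOfFinitePresentation K.subschemeι :=
          H8Lim.locallyOfFinitePresentation_of_ker_fg _ fun V' => by
            rw [Scheme.IdealSheafData.ker_subschemeι]; exact hK V'
        rw [Scheme.IdealSheafData.comap]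
        exact H8Lim.ker_fg_of_locallyOfFinitePresentation _ V)
      (ModPairLib.res hle' f) (ModPairLib.res_mem_nonZeroDivisors (V := ⟨_, U.2.preimage _⟩) hle' hf)
      (by rw [hcomp]; exact ModPairLib.ideal_restrict _ (V := ⟨_, U.2.preimage _⟩) hle' hfA)
    refine ⟨l, q ≫ a₀, E.map q ⁻¹ᵁ U.1, ?_, fun m p y hy => ?_⟩
    · show x ∈ c.π.app l ⁻¹ᵁ E.map q ⁻¹ᵁ U.1
      rw [← Scheme.Hom.comp_preimage, c.w, heq]
      exact hxV
    · obtain ⟨f', hf', hspan⟩ := hlq m p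
      refine ⟨⟨_, U.2.preimage (E.map (p ≫ q))⟩, ?_, f', hf', ?_⟩
      · show y ∈ E.map (p ≫ q) ⁻¹ᵁ U.1
        rw [E.map_comp, Scheme.Hom.comp_preimage]; exact hy
      · rw [← Category.assoc, E.map_comp (p ≫ q) a₀, Scheme.IdealSheafData.comap_comp]
        exact hspan
  choose l q W hxW hW using hloc
  haveI := Scheme.compactSpace_of_isLimit E c hc
  obtain ⟨t, ht⟩ := isCompact_univ.elim_finite_subcover
    (fun x => ((c.π.app (l x) ⁻¹ᵁ W x : c.pt.Opens) : Set c.pt)) (fun x => (c.π.app (l x) ⁻¹ᵁ W x).2)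
    (fun x _ => Set.mem_iUnion.2 ⟨x, hxW x⟩)
  obtain ⟨k, gk, g, hgk⟩ := IsCofiltered.wideCospan (fun x : t => q x.1)
  obtain ⟨l', r, hr⟩ := exists_map_eq_top E c hc (i := k) (⨆ x : t, E.map (g x) ⁻¹ᵁ W x.1) (by
    refine top_le_iff.1 fun z _ => ?_
    obtain ⟨x, hx, hz⟩ := Set.mem_iUnion₂.1 (ht (Set.mem_univ z))
    rw [Scheme.Hom.preimage_iSup, Opens.mem_iSup]
    exact ⟨⟨x, hx⟩, by rw [← Scheme.Hom.comp_preimage, c.w]; exact hz⟩)
  refine ⟨l', r ≫ gk, fun m p y => ?_⟩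
  have hy : E.map p y ∈ E.map r ⁻¹ᵁ (⨆ x : t, E.map (g x) ⁻¹ᵁ W x.1) := by rw [hr]; trivial
  rw [Scheme.Hom.preimage_iSup, Opens.mem_iSup] at hy
  obtain ⟨x, hx⟩ := hy
  have hx' : y ∈ E.map ((p ≫ r) ≫ g x) ⁻¹ᵁ W x.1 := by
    simpa [Functor.map_comp, Scheme.Hom.comp_preimage] using hx
  obtain ⟨V, hyV, f, hf, hfV⟩ := hW x.1 m ((p ≫ r) ≫ g x) y hx'
  refine ⟨V, hyV, f, hf, ?_⟩
  rwa [Category.assoc, hgk, Category.assoc] at hfV

end Groth.Agent.ModPair23
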