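import Groth.Agent.ModPair23.DominantLimit
import Groth.Agent.H8Lim.IdealDescent
import Groth.Agent.ModPairLib.EffCartier
import Groth.Prelude.Def_W4c6modpairsegaMP

/-!
# Descent of inclusions of ideal sheaves and of ambient morphisms along affine limits
-/

set_option autoImplicit false
set_option linter.style.haveILetI false
set_option backward.isDefEq.respectTransparency.types false

universe u

open CategoryTheory CategoryTheory.Limits AlgebraicGeometry TopologicalSpace

namespace Groth.Agent.ModPair23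

/-- An inclusion `K ≤ L` of ideal sheaves, `K` of finite type, holds at a finite stage if it holds
in the limit. -/
theorem exists_comap_le {I : Type u} [SmallCategory I] [IsCofiltered I] (E : I ⥤ Scheme.{u}) (c : Cone E)
    (hc : IsLimit c) [∀ {i j : I} (t : i ⟶ j), IsAffineHom (E.map t)]
    [∀ i, CompactSpace (E.obj i)] [∀ i, QuasiSeparatedSpace (E.obj i)] (i : I)
    (K L : (E.obj i).IdealSheafData) (hK : BlowUp.IsFiniteTypeIdeal K)
    (h : K.comap (c.π.app i) ≤ L.comap (c.π.app i)) :
    ∃ (j : I) (t : j ⟶ i), K.comap (E.map t) ≤ L.comap (E.map t) := by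
  haveI : LocallyOfFinitePresentation K.subschemeι :=
    H8Lim.locallyOfFinitePresentation_of_ker_fg _ fun U => by
      rw [Scheme.IdealSheafData.ker_subschemeι]; exact hK U
  let f₀ : L.subscheme ⟶ E.obj i := L.subschemeι
  let q := pullback.fst f₀ (c.π.app i)
  let f := pullback.snd f₀ (c.π.app i)
  have sq : IsPullback q f f₀ (c.π.app i) := IsPullback.of_hasPullback _ _
  have hf : f.ker = L.comap (c.π.app i) := by
    rw [Scheme.IdealSheafData.comap]
    exact (congrArg Scheme.Hom.ker (pullbackSymmetry_hom_comp_fst f₀ (c.π.app i)).symm).trans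
      (Scheme.Hom.ker_comp_of_isIso _ _)
  have hle : K.subschemeι.ker ≤ (q ≫ f₀).ker := by
    rw [Scheme.IdealSheafData.ker_subschemeι, sq.w, Scheme.Hom.ker_comp,
      Scheme.IdealSheafData.le_map_iff_comap_le, hf]
    exact h
  haveI : CompactSpace L.subscheme := QuasiCompact.compactSpace_of_compactSpace f₀
  haveI : QuasiSeparatedSpace L.subscheme := quasiSeparatedSpace_of_quasiSeparated f₀
  let τ : H8Lim.stage E f₀ ⟶ (Functor.const (Over i)).obj (E.obj i) :=
    { app := fun j => H8Lim.stageFst E f₀ j ≫ f₀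
      naturality := fun j k g => by
        simp only [Functor.const_obj_map]
        exact H8Lim.stageMap_fst_assoc E f₀ g f₀ }
  obtain ⟨j, g, -, hg⟩ := Scheme.exists_π_app_comp_eq_of_locallyOfFinitePresentation
    (H8Lim.stage E f₀) τ K.subschemeι (H8Lim.stageCone f₀ c q f sq) (H8Lim.isLimitStageCone f₀ q f sq hc)
    (IsClosedImmersion.lift K.subschemeι (q ≫ f₀) hle) (by
      ext j
      show H8Lim.stageProj f₀ c q f sq j ≫ H8Lim.stageFst E f₀ j ≫ f₀ = _ ≫ K.subschemeι
      rw [H8Lim.stageProj_fst_assoc]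
      exact (IsClosedImmersion.lift_fac K.subschemeι (q ≫ f₀) hle).symm)
  refine ⟨j.left, j.hom, ?_⟩
  have h1 : K ≤ (H8Lim.stageSnd E f₀ j ≫ E.map j.hom).ker := by
    rw [← (H8Lim.isPullback_stage E f₀ j).w]
    exact (Scheme.IdealSheafData.ker_subschemeι K).symm.le.trans
      ((Scheme.Hom.le_ker_comp g K.subschemeι).trans (le_of_eq (congrArg Scheme.Hom.ker hg)))
  rw [Scheme.Hom.ker_comp, Scheme.IdealSheafData.le_map_iff_comap_le] at h1
  refine h1.trans (le_of_eq ?_)
  rw [Scheme.IdealSheafData.comap]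
  exact (congrArg Scheme.Hom.ker (pullbackSymmetry_hom_comp_fst f₀ (E.map j.hom)).symm).trans
    (Scheme.Hom.ker_comp_of_isIso _ _)

theorem exists_descend_ambient {S : Scheme.{u}} [QuasiSeparatedSpace S] {I : Type u} [SmallCategory I]
    [IsCofiltered I] (D : I ⥤ Over S) (c : Cone D) (hc : IsLimit c)
    [∀ (i j : I) (t : i ⟶ j), IsAffineHom (D.map t).left]
    [∀ i, CompactSpace (D.obj i).left] [∀ i, QuasiSeparatedSpace (D.obj i).left]
    (J : ∀ i, (D.obj i).left.IdealSheafData) (hJ : ∀ i, BlowUp.IsEffCartierIdeal (J i))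
    (hmin : ∀ (i j : I) (t : i ⟶ j), ModPair.IsMinimal (J i) (J j) (D.map t).left)
    (IX : c.pt.left.IdealSheafData) (hIX : ∀ i, IX = (J i).comap (c.π.app i).left)
    (Y : Over S) [CompactSpace Y.left] [QuasiSeparatedSpace Y.left] [LocallyOfFiniteType Y.hom]
    (IY : Y.left.IdealSheafData)
    (h : (∀ (i j : I) (t : i ⟶ j), IsSchemeTheoreticallyDominant (D.map t).left) ∨
      LocallyOfFinitePresentation Y.hom)
    (φ : c.pt ⟶ Y) (hφ : ModPair.IsAmbient IX IY φ.left) :
    ∃ (i : I) (φi : D.obj i ⟶ Y), ModPair.IsAmbient (J i) IY φi.left ∧ c.π.app i ≫ φi = φ := by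
  let E := D ⋙ Over.forget S
  let C := (Over.forget S).mapCone c
  have hC : IsLimit C := isLimitOfPreserves (Over.forget S) hc
  haveI : ∀ {i j : I} (t : i ⟶ j), IsAffineHom (E.map t) := fun {i j} t => inferInstanceAs (IsAffineHom (D.map t).left)
  haveI : ∀ i, CompactSpace (E.obj i) := fun i => inferInstanceAs (CompactSpace (D.obj i).left)
  haveI : ∀ i, QuasiSeparatedSpace (E.obj i) := fun i => inferInstanceAs (QuasiSeparatedSpace (D.obj i).left)
  obtain ⟨i, φi, hi⟩ : ∃ (i : I) (φi : D.obj i ⟶ Y), c.π.app i ≫ φi = φ := by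
    rcases h with hd | hfp
    · exact (hom_colimit_bijective D c hc hd Y).1 φ
    · let τ : E ⟶ (Functor.const I).obj S :=
        { app := fun i => (D.obj i).hom
          naturality := fun i j t => by
            show (D.map t).left ≫ (D.obj j).hom = (D.obj i).hom ≫ 𝟙 S
            rw [Category.comp_id]; exact Over.w (D.map t) }
      obtain ⟨i, g, hg, hgf⟩ := Scheme.exists_π_app_comp_eq_of_locallyOfFinitePresentation E τ Y.hom C hC
        φ.left (by
          ext i
          show (c.π.app i).left ≫ (D.obj i).hom = φ.left ≫ Y.hom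
          exact (Over.w (c.π.app i)).trans (Over.w φ).symm)
      exact ⟨i, Over.homMk g hgf, Over.OverMorphism.ext hg⟩
  obtain ⟨j, t, ht⟩ := exists_comap_le E C hC i (J i) (IY.comap φi.left)
    (ModPairLib.isFiniteType_of_effCartier (hJ i)) (by
      show (J i).comap (c.π.app i).left ≤ (IY.comap φi.left).comap (c.π.app i).left
      rw [← hIX i, ← Scheme.IdealSheafData.comap_comp, ← Over.comp_left, hi]
      exact hφ)
  refine ⟨j, D.map t ≫ φi, ?_, ?_⟩
  · show J j ≤ IY.comap ((D.map t).left ≫ φi.left)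
    rw [hmin j i t, Scheme.IdealSheafData.comap_comp]
    exact ht
  · rw [← Category.assoc, c.w, hi]

end Groth.Agent.ModPair23
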