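import Groth.Agent.ModPair23.DescendBlowup
import Groth.Agent.ModPair23.DescendAmbient
import Groth.Agent.ModPair23.CartierStage
import Groth.Agent.H8Lim.IdealDescent
import Groth.Agent.SDiv28.BlowUp
import Groth.Prelude.Def_CurvBase
import Mathlib.CategoryTheory.Filtered.Final

/-!
# Finitely presented approximation of modulus pairs with locally principal moduli
-/

set_option autoImplicit false
set_option linter.style.haveILetI false
set_option backward.isDefEq.respectTransparency.types false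

universe u

open CategoryTheory CategoryTheory.Limits AlgebraicGeometry TopologicalSpace

namespace Groth.Agent.ModPair23

variable {I : Type u} [SmallCategory I] [IsCofiltered I] {E : I ⥤ Scheme.{u}} {c : Cone E}
  (hc : IsLimit c) [∀ {i j : I} (t : i ⟶ j), IsAffineHom (E.map t)]
  [∀ i, CompactSpace (E.obj i)] [∀ i, QuasiSeparatedSpace (E.obj i)]

include hc in
theorem exists_principal_stage' {i : I} (U : (E.obj i).affineOpens) (hV : IsAffineOpen (c.π.app i ⁻¹ᵁ U.1))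
    (K : (E.obj i).IdealSheafData) (hK : BlowUp.IsFiniteTypeIdeal K) (f : Γ(c.pt, c.π.app i ⁻¹ᵁ U.1))
    (h : (K.comap (c.π.app i)).ideal ⟨_, hV⟩ = Ideal.span {f}) :
    ∃ (l : I) (q : l ⟶ i), ∀ (m : I) (p : m ⟶ l), ∃ f' : Γ(E.obj m, E.map (p ≫ q) ⁻¹ᵁ U.1),
      (K.comap (E.map (p ≫ q))).ideal ⟨_, U.2.preimage (E.map (p ≫ q))⟩ = Ideal.span {f'} := by
  classical
  obtain ⟨G, hG⟩ := hK U
  let β : Γ(E.obj i, U.1) →+* Γ(c.pt, c.π.app i ⁻¹ᵁ U.1) :=
    ((c.π.app i).appLE U.1 (c.π.app i ⁻¹ᵁ U.1) le_rfl).hom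
  have hmap : Ideal.span (β '' (G : Set Γ(E.obj i, U.1))) = Ideal.span {f} := by
    rw [← Ideal.map_span, ← h, FSchLib.ideal_comap_eq_map (c.π.app i) K ⟨_, hV⟩ U le_rfl, ← hG]
  have hg : ∀ g : Γ(E.obj i, U.1), ∃ a, g ∈ G → a * f = β g := fun g => by
    by_cases hg : g ∈ G
    · obtain ⟨a, ha⟩ := Ideal.mem_span_singleton'.1 (hmap.le (Ideal.subset_span ⟨g, hg, rfl⟩))
      exact ⟨a, fun _ => ha⟩
    · exact ⟨0, fun h => absurd h hg⟩
  choose a ha using hg
  obtain ⟨w, hw⟩ : ∃ w : Γ(E.obj i, U.1) → Γ(c.pt, c.π.app i ⁻¹ᵁ U.1), f = ∑ g ∈ G, w g * β g := by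
    have hfmem : f ∈ Submodule.span _ (β '' (G : Set Γ(E.obj i, U.1))) := hmap.ge (Ideal.subset_span rfl)
    obtain ⟨t, ht⟩ := Finsupp.mem_span_image_iff_linearCombination _ |>.1 hfmem
    refine ⟨fun g => t g, ?_⟩
    rw [← ht.2, Finsupp.linearCombination_apply]
    exact Finsupp.sum_of_support_subset t
      (fun g hg => (Finsupp.mem_supported _ t).1 ht.1 hg) _ (fun g _ => zero_smul _ _)
  let s : Finset Γ(c.pt, c.π.app i ⁻¹ᵁ U.1) := insert f (G.image w ∪ G.image a)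
  choose j φ x hx using fun z : s => H8Lim.exists_appLE_π_eq hc U.2 (z : Γ(c.pt, c.π.app i ⁻¹ᵁ U.1))
  obtain ⟨l₀, q₀, g₀, hgk⟩ := IsCofiltered.wideCospan φ
  let U₀ := E.map q₀ ⁻¹ᵁ U.1
  have hle : c.π.app i ⁻¹ᵁ U.1 = c.π.app l₀ ⁻¹ᵁ U₀ := by rw [← Scheme.Hom.comp_preimage, c.w]
  let β₀ := ((c.π.app l₀).appLE U₀ (c.π.app i ⁻¹ᵁ U.1) hle.le).hom
  let α₀ := ((E.map q₀).appLE U.1 U₀ le_rfl).hom
  have hαβ : ∀ r, β₀ (α₀ r) = β r := fun r => by
    show ((E.map q₀).appLE _ _ _ ≫ (c.π.app l₀).appLE _ _ _) r = _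
    rw [Scheme.Hom.appLE_comp_appLE]
    simp only [c.w]
    rfl
  have hlift : ∀ z, ∃ y, z ∈ s → β₀ y = z := fun z => by
    by_cases hz : z ∈ s
    · refine ⟨((E.map (g₀ ⟨z, hz⟩)).appLE _ U₀ (le_of_eq (by
        rw [← Scheme.Hom.comp_preimage, ← E.map_comp, hgk]))) (x ⟨z, hz⟩), fun _ => ?_⟩
      show ((E.map (g₀ ⟨z, hz⟩)).appLE _ _ _ ≫ (c.π.app l₀).appLE _ _ _) (x ⟨z, hz⟩) = z
      rw [Scheme.Hom.appLE_comp_appLE]
      simp only [c.w]
      exact hx ⟨z, hz⟩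
    · exact ⟨0, fun h => absurd h hz⟩
  choose L hL using hlift
  have hzero : ∀ d : Γ(E.obj l₀, U₀), β₀ d = 0 → ∃ (j : I) (t : j ⟶ l₀), (E.map t).app U₀ d = 0 := fun d hd => by
    refine exists_app_map_eq_zero_of_isLimit E c hc (i := l₀) (U := U₀) (U.2.preimage (E.map q₀)).isCompact d ?_
    rw [← Scheme.Hom.appLE_eq_app, ← Scheme.Hom.appLE_map (c.π.app l₀) hle.le (homOfLE hle.ge).op, CommRingCat.comp_apply]
    exact (congrArg _ hd).trans (map_zero _)
  have hw0 : ∀ g ∈ G, β₀ (L (w g)) = w g := fun g hg =>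
    hL _ (Finset.mem_insert_of_mem (Finset.mem_union_left _ (Finset.mem_image_of_mem _ hg)))
  let d : Option G → Γ(E.obj l₀, U₀) := fun o => o.elim (L f - ∑ g ∈ G, L (w g) * α₀ g)
    fun g => L (a g.1) * L f - α₀ g.1
  have hd : ∀ o, β₀ (d o) = 0 := by
    rintro (_ | ⟨g, hg⟩)
    · show β₀ (L f - ∑ g ∈ G, L (w g) * α₀ g) = 0
      rw [map_sub, hL f (Finset.mem_insert_self _ _), map_sum, sub_eq_zero]
      exact hw.trans (Finset.sum_congr rfl fun g hg => by rw [map_mul, hw0 g hg, hαβ])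
    · show β₀ (L (a g) * L f - α₀ g) = 0
      rw [map_sub, map_mul, hL f (Finset.mem_insert_self _ _),
        hL _ (Finset.mem_insert_of_mem (Finset.mem_union_right _ (Finset.mem_image_of_mem _ hg))), hαβ, ha g hg,
        sub_self]
  choose j₁ t₁ ht₁ using fun o => hzero (d o) (hd o)
  obtain ⟨l₁, r, g₁, hg₁⟩ := IsCofiltered.wideCospan t₁
  refine ⟨l₁, r ≫ q₀, fun m p => ?_⟩
  have hle₂ : E.map (p ≫ r ≫ q₀) ⁻¹ᵁ U.1 ≤ E.map (p ≫ r) ⁻¹ᵁ U₀ := by
    rw [← Scheme.Hom.comp_preimage, ← E.map_comp, Category.assoc]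
  let ρ := ((E.map (p ≫ r)).appLE U₀ (E.map (p ≫ r ≫ q₀) ⁻¹ᵁ U.1) hle₂).hom
  let α := ((E.map (p ≫ r ≫ q₀)).appLE U.1 (E.map (p ≫ r ≫ q₀) ⁻¹ᵁ U.1) le_rfl).hom
  have hρα : ∀ y, ρ (α₀ y) = α y := fun y => by
    show ((E.map q₀).appLE _ _ _ ≫ (E.map (p ≫ r)).appLE _ _ _) y = _
    rw [Scheme.Hom.appLE_comp_appLE]
    simp only [← E.map_comp, Category.assoc]
    rfl
  have hρd : ∀ o, ρ (d o) = 0 := fun o => by
    have hle₃ : E.map (p ≫ r ≫ q₀) ⁻¹ᵁ U.1 ≤ E.map (p ≫ g₁ o) ⁻¹ᵁ E.map (t₁ o) ⁻¹ᵁ U₀ := by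
      rw [← Scheme.Hom.comp_preimage, ← Scheme.Hom.comp_preimage, ← E.map_comp, ← E.map_comp]
      simp only [Category.assoc]
      rw [← Category.assoc (g₁ o), hg₁ o]
    have : ρ (d o) = ((E.map (t₁ o)).appLE U₀ _ le_rfl ≫ (E.map (p ≫ g₁ o)).appLE _ _ hle₃) (d o) := by
      rw [Scheme.Hom.appLE_comp_appLE]
      simp only [← E.map_comp, Category.assoc, hg₁ o]
      rfl
    rw [this, CommRingCat.comp_apply, show (E.map (t₁ o)).appLE U₀ _ le_rfl = (E.map (t₁ o)).app U₀ from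
      Scheme.Hom.appLE_eq_app _, ht₁ o, map_zero]
  refine ⟨ρ (L f), ?_⟩
  rw [FSchLib.ideal_comap_eq_map (E.map (p ≫ r ≫ q₀)) K ⟨_, U.2.preimage (E.map (p ≫ r ≫ q₀))⟩ U le_rfl, ← hG]
  refine map_eq_span_of_injective α (RingHom.id _) Function.injective_id G (ρ (L f)) (fun g => ρ (L (w g)))
    (fun g => ρ (L (a g))) ?_ (fun g hg => ?_)
  · simp only [RingHom.id_apply]
    have := hρd none
    simp only [d, Option.elim, map_sub, map_sum, map_mul, sub_eq_zero, hρα] at this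
    exact this
  · simp only [RingHom.id_apply]
    have := hρd (some ⟨g, hg⟩)
    simp only [d, Option.elim, map_sub, map_mul, sub_eq_zero, hρα] at this
    exact this

theorem isFiniteTypeIdeal_comap {X Y : Scheme.{u}} (f : X ⟶ Y) {K : Y.IdealSheafData}
    (hK : BlowUp.IsFiniteTypeIdeal K) : BlowUp.IsFiniteTypeIdeal (K.comap f) := fun V => by
  haveI : LocallyOfFinitePresentation K.subschemeι :=
    H8Lim.locallyOfFinitePresentation_of_ker_fg _ fun V' => by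
      rw [Scheme.IdealSheafData.ker_subschemeι]; exact hK V'
  rw [Scheme.IdealSheafData.comap]
  exact H8Lim.ker_fg_of_locallyOfFinitePresentation _ V

include hc in
/-- A locally principal ideal on the limit comes from locally principal ideals at all late stages. -/
theorem exists_principal_all {i₀ : I} (K : (E.obj i₀).IdealSheafData) (hK : BlowUp.IsFiniteTypeIdeal K)
    (hC : BlowUp.IsEffCartierIdeal (K.comap (c.π.app i₀))) :
    ∃ (l : I) (q : l ⟶ i₀), ∀ (m : I) (p : m ⟶ l), Curv2.IsLocPrincipal (K.comap (E.map (p ≫ q))) := by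
  classical
  have hloc : ∀ x : c.pt, ∃ (l : I) (q : l ⟶ i₀) (W : (E.obj l).Opens), c.π.app l x ∈ W ∧
      ∀ (m : I) (p : m ⟶ l), ∀ y ∈ E.map p ⁻¹ᵁ W, ∃ V : (E.obj m).affineOpens, y ∈ V.1 ∧
        ∃ f : Γ(E.obj m, V.1), (K.comap (E.map (p ≫ q))).ideal V = Ideal.span {f} := by
    intro x
    obtain ⟨A, hxA, f, -, hfA⟩ := hC x
    obtain ⟨_, ⟨i₁, V₁, hV₁, rfl⟩, hxV, hle⟩ :=
      Opens.isBasis_iff_nbhd.mp (isBasis_preimage_isAffineOpen E c hc) hxA
    obtain ⟨i, a₀, a₁, -⟩ : ∃ (i : I) (_ : i ⟶ i₀) (_ : i ⟶ i₁), True :=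
      ⟨IsCofiltered.min i₀ i₁, IsCofiltered.minToLeft _ _, IsCofiltered.minToRight _ _, trivial⟩
    have heq : c.π.app i ⁻¹ᵁ E.map a₁ ⁻¹ᵁ V₁ = c.π.app i₁ ⁻¹ᵁ V₁ := by
      rw [← Scheme.Hom.comp_preimage, c.w]
    haveI := isAffineHom_π_app E c hc i
    let U : (E.obj i).affineOpens := ⟨E.map a₁ ⁻¹ᵁ V₁, hV₁.preimage _⟩
    have hle' : c.π.app i ⁻¹ᵁ U.1 ≤ A.1 := heq.le.trans hle
    have hcomp : (K.comap (E.map a₀)).comap (c.π.app i) = K.comap (c.π.app i₀) := by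
      rw [← Scheme.IdealSheafData.comap_comp, c.w]
    obtain ⟨l, q, hlq⟩ := exists_principal_stage' hc U (U.2.preimage _) (K.comap (E.map a₀))
      (isFiniteTypeIdeal_comap _ hK) (ModPairLib.res hle' f)
      (by rw [hcomp]; exact ModPairLib.ideal_restrict _ (V := ⟨_, U.2.preimage _⟩) hle' hfA)
    refine ⟨l, q ≫ a₀, E.map q ⁻¹ᵁ U.1, ?_, fun m p y hy => ?_⟩
    · show x ∈ c.π.app l ⁻¹ᵁ E.map q ⁻¹ᵁ U.1
      rw [← Scheme.Hom.comp_preimage, c.w, heq]
      exact hxV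
    · obtain ⟨f', hspan⟩ := hlq m p
      refine ⟨⟨_, U.2.preimage (E.map (p ≫ q))⟩, ?_, f', ?_⟩
      · show y ∈ E.map (p ≫ q) ⁻¹ᵁ U.1
        rw [E.map_comp, Scheme.Hom.comp_preimage]; exact hy
      · rw [← Category.assoc, E.map_comp (p ≫ q) a₀, Scheme.IdealSheafData.comap_comp]
        exact hspan
  choose l q W hxW hW using hloc
  haveI := Scheme.compactSpace_of_isLimit E c hc
  obtain ⟨t, ht⟩ := isCompact_univ.elim_finite_subcover
    (fun x => ((c.π.app (l x) ⁻¹ᵁ W x : c.pt.Opens) : Set c.pt)) (fun x => (c.π.app (l x) ⁻¹ᵁ W x).2)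
    (fun x _ => Set.mem_iUnion.2 ⟨x, hxW x⟩)
  obtain ⟨k, gk, g, hgk⟩ := IsCofiltered.wideCospan (fun x : t => q x.1)
  obtain ⟨l', r, hr⟩ := exists_map_eq_top E c hc (i := k) (⨆ x : t, E.map (g x) ⁻¹ᵁ W x.1) (by
    refine top_le_iff.1 fun z _ => ?_
    obtain ⟨x, hx, hz⟩ := Set.mem_iUnion₂.1 (ht (Set.mem_univ z))
    rw [Scheme.Hom.preimage_iSup, Opens.mem_iSup]
    exact ⟨⟨x, hx⟩, by rw [← Scheme.Hom.comp_preimage, c.w]; exact hz⟩)
  refine ⟨l', r ≫ gk, fun m p y _ => ?_⟩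
  have hy : E.map p y ∈ E.map r ⁻¹ᵁ (⨆ x : t, E.map (g x) ⁻¹ᵁ W x.1) := by rw [hr]; trivial
  rw [Scheme.Hom.preimage_iSup, Opens.mem_iSup] at hy
  obtain ⟨x, hx⟩ := hy
  obtain ⟨V, hyV, f, hfV⟩ := hW x.1 m (p ≫ r ≫ g x) y (by
    rw [E.map_comp p, E.map_comp r, Scheme.Hom.comp_preimage, Scheme.Hom.comp_preimage]
    exact hx)
  refine ⟨V, hyV, f, ?_⟩
  rw [← hfV]
  simp only [Category.assoc, hgk x]

include hc in
/-- An isomorphism over a qc open in the limit of a closed immersion system is one at late stages. -/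
theorem exists_stage_isIso_over {S : Scheme.{u}} [QuasiSeparatedSpace S] (t : E ⟶ (Functor.const I).obj S)
    (s : c.pt ⟶ S) (hs : ∀ i, c.π.app i ≫ t.app i = s)
    (hcl : ∀ {i j : I} (f : i ⟶ j), IsClosedImmersion (E.map f)) (hπ : ∀ i, IsClosedImmersion (c.π.app i))
    (hlft : ∀ i, LocallyOfFiniteType (t.app i)) (U : S.Opens) (hU : IsCompact (U : Set S)) [IsIso (s ∣_ U)] :
    ∃ k, ∀ j, (j ⟶ k) → IsIso (t.app j ∣_ U) := by
  haveI : CompactSpace U.toScheme := isCompact_iff_compactSpace.1 hU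
  let 𝒰 := U.toScheme.affineCover.finiteSubcover
  let W : 𝒰.I₀ → S.Opens := fun k => U.ι ''ᵁ (𝒰.f k).opensRange
  have hW : ∀ k, ∃ i, ∀ j, (j ⟶ i) → IsClosedImmersion (t.app j ∣_ W k) := fun k => by
    haveI : IsAffine (𝒰.X k) := inferInstanceAs (IsAffine (Spec _))
    have : IsIso (s ∣_ W k) := by
      have h1 : IsIso (s ∣_ U ∣_ (𝒰.f k).opensRange) := inferInstance
      exact ((MorphismProperty.isomorphisms Scheme.{u}).arrow_mk_iso_iff
        (morphismRestrictRestrict s U (𝒰.f k).opensRange)).1 h1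
    exact H8Lim.exists_forall_isClosedImmersion_restrict t hc hs
      ((isAffineOpen_opensRange (𝒰.f k)).image_of_isOpenImmersion _) hcl hlft
  obtain ⟨k, hk⟩ := H8Lim.exists_forall_of_finite (fun k j => IsClosedImmersion (t.app j ∣_ W k)) hW
  refine ⟨k, fun j g => ?_⟩
  haveI : IsClosedImmersion (t.app j ∣_ U) :=
    IsZariskiLocalAtTarget.of_iSup_eq_top (P := @IsClosedImmersion) (fun k => (𝒰.f k).opensRange)
      𝒰.isOpenCover_opensRange fun k =>
        (MorphismProperty.arrow_mk_iso_iff (P := @IsClosedImmersion)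
          (morphismRestrictRestrict (t.app j) U (𝒰.f k).opensRange)).2 (hk j g k)
  have : IsIso ((c.π.app j ∣_ (t.app j ⁻¹ᵁ U)) ≫ t.app j ∣_ U) := by
    rw [← morphismRestrict_comp]
    have key : ∀ f : c.pt ⟶ S, f = s → IsIso (f ∣_ U) := by rintro f rfl; infer_instance
    exact key _ (hs j)
  exact isIso_of_isClosedImmersion_comp (c.π.app j ∣_ (t.app j ⁻¹ᵁ U)) _

include hc in
/-- A locally principal modulus on a late stage. -/
theorem exists_good_stage {S : Scheme.{u}} (t : E ⟶ (Functor.const I).obj S)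
    (s : c.pt ⟶ S) (hs : ∀ i, c.π.app i ≫ t.app i = s) (IX : c.pt.IdealSheafData) (IY : S.IdealSheafData)
    (hX : BlowUp.IsEffCartierIdeal IX) (hY : BlowUp.IsEffCartierIdeal IY) (hf : IX ≤ IY.comap s) :
    ∃ (k : I) (K : (E.obj k).IdealSheafData), K.comap (c.π.app k) = IX ∧ ∀ (j : I) (r : j ⟶ k),
      Curv2.IsLocPrincipal (K.comap (E.map r)) ∧ K.comap (E.map r) ≤ IY.comap (t.app j) ∧
        (IX = IY.comap s → K.comap (E.map r) = IY.comap (t.app j)) := by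
  classical
  obtain ⟨i₁, K, hK, hKX⟩ := H8Lim.exists_stage_idealSheaf hc IX (fun V => ModPairLib.isFiniteType_of_effCartier hX V)
  obtain ⟨i₂, q₂, h₂⟩ := exists_principal_all hc K hK (hKX.symm ▸ hX)
  let K₂ := K.comap (E.map q₂)
  have hK₂X : K₂.comap (c.π.app i₂) = IX := by
    rw [← Scheme.IdealSheafData.comap_comp, c.w, hKX]
  let L₂ := IY.comap (t.app i₂)
  have hL₂ : L₂.comap (c.π.app i₂) = IY.comap s := by
    rw [← Scheme.IdealSheafData.comap_comp, hs]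
  obtain ⟨i₃, q₃, h₃⟩ := exists_comap_le E c hc i₂ K₂ L₂ (isFiniteTypeIdeal_comap _ hK) (by rw [hK₂X, hL₂]; exact hf)
  obtain ⟨i₄, q₄, h₄⟩ : ∃ (i₄ : I) (q₄ : i₄ ⟶ i₂), IX = IY.comap s →
      L₂.comap (E.map q₄) ≤ K₂.comap (E.map q₄) := by
    by_cases hm : IX = IY.comap s
    · obtain ⟨j, q, h⟩ := exists_comap_le E c hc i₂ L₂ K₂
        (isFiniteTypeIdeal_comap _ (ModPairLib.isFiniteType_of_effCartier hY)) (by rw [hK₂X, hL₂, hm])
      exact ⟨j, q, fun _ => h⟩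
    · exact ⟨i₂, 𝟙 _, fun h => absurd h hm⟩
  obtain ⟨k, a₃, a₄, ha⟩ := IsCofiltered.cospan q₃ q₄
  refine ⟨k, K₂.comap (E.map (a₃ ≫ q₃)), by rw [← Scheme.IdealSheafData.comap_comp, c.w, hK₂X], fun j r => ?_⟩
  have hr : (K₂.comap (E.map (a₃ ≫ q₃))).comap (E.map r) = K₂.comap (E.map (r ≫ a₃ ≫ q₃)) := by
    rw [← Scheme.IdealSheafData.comap_comp, ← E.map_comp]
  have hL : IY.comap (t.app j) = L₂.comap (E.map (r ≫ a₃ ≫ q₃)) := by
    rw [← Scheme.IdealSheafData.comap_comp]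
    exact congrArg (fun g : E.obj j ⟶ S => IY.comap g) ((t.naturality (r ≫ a₃ ≫ q₃)).trans (Category.comp_id _)).symm
  rw [hr, hL]
  refine ⟨?_, ?_, fun hm => le_antisymm ?_ ?_⟩
  · rw [← Scheme.IdealSheafData.comap_comp, ← E.map_comp]
    exact h₂ j _
  · simp only [E.map_comp, Scheme.IdealSheafData.comap_comp]
    exact Scheme.IdealSheafData.comap_mono _ (Scheme.IdealSheafData.comap_mono _ h₃)
  · simp only [E.map_comp, Scheme.IdealSheafData.comap_comp]
    exact Scheme.IdealSheafData.comap_mono _ (Scheme.IdealSheafData.comap_mono _ h₃)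
  · simp only [ha, E.map_comp, Scheme.IdealSheafData.comap_comp]
    exact Scheme.IdealSheafData.comap_mono _ (Scheme.IdealSheafData.comap_mono _ (h₄ hm))

/-- Finitely presented approximation of a modulus pair over another. -/
theorem exists_approx_locPrincipal {X Y : Scheme.{u}}
    [CompactSpace X] [QuasiSeparatedSpace X] [CompactSpace Y] [QuasiSeparatedSpace Y]
    (IX : X.IdealSheafData) (IY : Y.IdealSheafData) (hX : BlowUp.IsEffCartierIdeal IX)
    (hY : BlowUp.IsEffCartierIdeal IY) (f : X ⟶ Y) (hf : ModPair.IsAmbient IX IY f)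
    [LocallyOfFiniteType f] :
    ∃ (I : Type u) (_ : SmallCategory I) (_ : IsCofiltered I) (D : I ⥤ Over Y) (c : Cone D)
      (_ : IsLimit c) (e : c.pt ≅ Over.mk f) (J : ∀ i, (D.obj i).left.IdealSheafData),
      (∀ i, LocallyOfFinitePresentation (D.obj i).hom ∧ QuasiCompact (D.obj i).hom ∧
          QuasiSeparated (D.obj i).hom) ∧
        (∀ (i j : I) (t : i ⟶ j), IsClosedImmersion (D.map t).left) ∧
        (∀ i, IsClosedImmersion (c.π.app i).left) ∧
        (∀ i, Curv2.IsLocPrincipal (J i)) ∧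
        (∀ i, IX = (J i).comap (e.inv.left ≫ (c.π.app i).left)) ∧
        (∀ (i j : I) (t : i ⟶ j), J i = (J j).comap (D.map t).left) ∧
        (∀ i, ModPair.IsAmbient (J i) IY (D.obj i).hom) ∧
        (ModPair.IsMinimal IX IY f → ∀ i, ModPair.IsMinimal (J i) IY (D.obj i).hom) ∧
        (IsProper f → ∀ i, IsProper (D.obj i).hom) ∧
        (ModPair.IsMinimal IX IY f → IsIso (f ∣_ ModPair.interior IY) →
          ∀ i, IsIso ((D.obj i).hom ∣_ ModPair.interior IY)) := by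
  classical
  obtain ⟨I, _, _, _, D, c, hc, hD, htr, hsep, hπ, ⟨e⟩⟩ := H8Lim.exists_limit_closedImmersion_transitions f
  haveI : IsConnected Iᵒᵖ := IsCofiltered.isConnected _
  let E := D ⋙ Over.forget Y
  let cE : Cone E := (Over.forget Y).mapCone c
  have hE : IsLimit cE := isLimitOfPreserves (Over.forget Y) hc
  haveI hclT : ∀ {i j : Iᵒᵖ} (t : i ⟶ j), IsClosedImmersion (E.map t) := fun {i j} t => htr i j t
  haveI : ∀ i, CompactSpace (E.obj i) := fun i => (hD i).2.2.2.1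
  haveI : ∀ i, QuasiSeparatedSpace (E.obj i) := fun i => (hD i).2.2.2.2
  let τ : E ⟶ (Functor.const _).obj Y :=
    { app := fun i => (D.obj i).hom
      naturality := fun i j φ => (Over.w (D.map φ)).trans (Category.comp_id _).symm }
  have hs : ∀ j, cE.π.app j ≫ τ.app j = c.pt.hom := fun j => Over.w (c.π.app j)
  haveI : IsIso e.hom.left := inferInstanceAs (IsIso ((Over.forget Y).map e.hom))
  have hes : e.hom.left ≫ f = c.pt.hom := Over.w e.hom
  let IX' : cE.pt.IdealSheafData := IX.comap e.hom.left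
  have hX' : BlowUp.IsEffCartierIdeal IX' := SDiv28.isEffCartier_comap_of_flat hX e.hom.left
  obtain ⟨i₂, K₂, hK₂X, hgood⟩ := exists_good_stage hE τ c.pt.hom hs IX' IY hX' hY (by
    let eh : cE.pt ⟶ X := e.hom.left
    show IX.comap eh ≤ IY.comap c.pt.hom
    rw [← hes]
    show IX.comap eh ≤ IY.comap (eh ≫ f)
    rw [Scheme.IdealSheafData.comap_comp]
    exact Scheme.IdealSheafData.comap_mono _ hf)
  obtain ⟨i₅, h₅⟩ : ∃ i₅ : Iᵒᵖ, IsProper f → IsProper (D.obj i₅).hom := by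
    by_cases hp : IsProper f
    · haveI : IsProper c.pt.hom := hes ▸ (MorphismProperty.comp_mem _ _ _ (inferInstance : IsProper e.hom.left) hp : IsProper (e.hom.left ≫ f))
      haveI : IsSeparated (τ.app i₂) := hsep inferInstance i₂
      haveI : LocallyOfFiniteType (τ.app i₂) := by
        haveI := (hD i₂).1; exact inferInstanceAs (LocallyOfFiniteType (D.obj i₂).hom)
      haveI : QuasiCompact (τ.app i₂) := (hD i₂).2.1
      haveI : ∀ j, IsClosedImmersion (cE.π.app j) := hπ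
      obtain ⟨j, -, hj⟩ := @H8Lim.exists_isProper_stage _ _ _ E cE hE _ _ Y _ τ c.pt.hom hs ‹IsProper c.pt.hom› i₂ (τ.app i₂) rfl _ _ _
      exact ⟨j, fun _ => hj⟩
    · exact ⟨i₂, fun h => absurd h hp⟩
  haveI : IsAffineHom (ModPair.interior IY).ι := ModPairLib.isAffineHom_interior hY
  have hUc : IsCompact (ModPair.interior IY : Set Y) :=
    isCompact_iff_compactSpace.2 (QuasiCompact.compactSpace_of_compactSpace (ModPair.interior IY).ι)
  obtain ⟨i₆, h₆⟩ : ∃ i₆ : Iᵒᵖ, IsIso (f ∣_ ModPair.interior IY) →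
      ∀ j, (j ⟶ i₆) → IsIso ((D.obj j).hom ∣_ ModPair.interior IY) := by
    by_cases hi : IsIso (f ∣_ ModPair.interior IY)
    · haveI : IsIso (c.pt.hom ∣_ ModPair.interior IY) := by
        rw [← hes, morphismRestrict_comp]
        exact @IsIso.comp_isIso _ _ _ _ _ _ _ (inferInstance : IsIso (e.hom.left ∣_ _)) hi
      obtain ⟨k, hk⟩ := @exists_stage_isIso_over _ _ _ E cE hE _ _ _ Y _ τ c.pt.hom hs (fun {i j} t => htr i j t) hπ
        (fun i => haveI := (hD i).1; inferInstanceAs (LocallyOfFiniteType (D.obj i).hom)) (ModPair.interior IY) hUc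
        ‹IsIso (c.pt.hom ∣_ ModPair.interior IY)›
      exact ⟨k, fun _ => hk⟩
    · exact ⟨i₂, fun h => absurd h hi⟩
  obtain ⟨k, b₁, b₅, b₆, -⟩ : ∃ (k : Iᵒᵖ) (_ : k ⟶ i₂) (_ : k ⟶ i₅) (_ : k ⟶ i₆), True :=
    ⟨IsCofiltered.min i₂ (IsCofiltered.min i₅ i₆), IsCofiltered.minToLeft _ _,
      IsCofiltered.minToRight _ _ ≫ IsCofiltered.minToLeft _ _,
      IsCofiltered.minToRight _ _ ≫ IsCofiltered.minToRight _ _, trivial⟩
  refine ⟨Over k, inferInstance, inferInstance, Over.forget k ⋙ D, c.whisker (Over.forget k),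
    (Functor.Initial.isLimitWhiskerEquiv (Over.forget k) c).symm hc, e, fun j => K₂.comap (E.map (j.hom ≫ b₁)),
    fun j => ⟨(hD j.left).1, (hD j.left).2.1, (hD j.left).2.2.1⟩, fun a b t => htr _ _ t.left, fun j => hπ j.left,
    fun j => (hgood j.left (j.hom ≫ b₁)).1, fun j => ?_, fun a b t => ?_,
    fun j => (hgood j.left (j.hom ≫ b₁)).2.1,
    fun hm j => (hgood j.left (j.hom ≫ b₁)).2.2 ?_, fun hp j => ?_,
    fun _ hi j => h₆ hi j.left (j.hom ≫ b₆)⟩
  · let p : cE.pt ⟶ E.obj j.left := cE.π.app j.left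
    let e' : X ⟶ cE.pt := e.inv.left
    show IX = (K₂.comap (E.map (j.hom ≫ b₁))).comap (e' ≫ p)
    rw [← Scheme.IdealSheafData.comap_comp, Category.assoc, show p ≫ E.map (j.hom ≫ b₁) = cE.π.app i₂ from cE.w _,
      Scheme.IdealSheafData.comap_comp, hK₂X]
    show IX = (IX.comap e.hom.left).comap e.inv.left
    rw [← Scheme.IdealSheafData.comap_comp,
      show e.inv.left ≫ e.hom.left = 𝟙 _ from congrArg CommaMorphism.left e.inv_hom_id]
    exact (Scheme.IdealSheafData.comap_id IX).symm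
  · show K₂.comap (E.map (a.hom ≫ b₁)) = (K₂.comap (E.map (b.hom ≫ b₁))).comap (E.map t.left)
    rw [← Scheme.IdealSheafData.comap_comp, ← E.map_comp, ← Category.assoc, Over.w t]
  · show IX.comap e.hom.left = IY.comap c.pt.hom
    refine (congrArg (fun L => Scheme.IdealSheafData.comap L e.hom.left) hm).trans ?_
    show (IY.comap f).comap e.hom.left = _
    rw [← Scheme.IdealSheafData.comap_comp, hes]
  · show IsProper (D.obj j.left).hom
    rw [← Over.w (D.map (j.hom ≫ b₅))]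
    exact MorphismProperty.comp_mem @IsProper _ _ (haveI := htr _ _ (j.hom ≫ b₅); inferInstance : IsProper (D.map (j.hom ≫ b₅)).left) (h₅ hp)

end Groth.Agent.ModPair23
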