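import Groth.Agent.ModPair23.DescendBlowup
import Groth.Agent.ModPair23.DescendAmbient
import Groth.Agent.ModPairLib.AdmBlowup

/-!
# Pull-backs of an admissible blow-up along a system of modulus pairs
-/

set_option autoImplicit false
set_option linter.style.haveILetI false
set_option backward.isDefEq.respectTransparency.types false

universe u

open CategoryTheory CategoryTheory.Limits AlgebraicGeometry TopologicalSpace ModPair

namespace Groth.Agent.ModPair23

open Groth.Agent.ModPairLib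

/-- A cofiltered system of qcqs modulus pairs with affine minimal transitions and its limit. -/
structure IsSys {I : Type u} [SmallCategory I] (D : I ⥤ Pair.{u}) (c : Cone D) : Prop where
  nonempty_isLimit : Nonempty (IsLimit (Pair.forget.mapCone c))
  affine : ∀ {i j : I} (t : i ⟶ j), IsAffineHom (D.map t).hom
  min : ∀ {i j : I} (t : i ⟶ j), IsMinimal (D.obj i).mod (D.obj j).mod (D.map t).hom
  minπ : ∀ i, IsMinimal c.pt.mod (D.obj i).mod (c.π.app i).hom
  compact : ∀ i, CompactSpace (D.obj i).total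
  qs : ∀ i, QuasiSeparatedSpace (D.obj i).total

/-- The transition maps are scheme-theoretically dominant. -/
abbrev IsDomSys {I : Type u} [SmallCategory I] (D : I ⥤ Pair.{u}) : Prop :=
  ∀ (i j : I) (t : i ⟶ j), IsSchemeTheoreticallyDominant (D.map t).hom

theorem IsSys.whisker {I J : Type u} [SmallCategory I] [SmallCategory J] {D : I ⥤ Pair.{u}} {c : Cone D}
    (h : IsSys D c) (F : J ⥤ I) [F.Initial] : IsSys (F ⋙ D) (c.whisker F) :=
  ⟨⟨(Functor.Initial.isLimitWhiskerEquiv F _).symm h.nonempty_isLimit.some⟩,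
    fun t => h.affine (F.map t), fun t => h.min (F.map t), fun j => h.minπ (F.obj j),
    fun j => h.compact (F.obj j), fun j => h.qs (F.obj j)⟩

section Product

variable {A A' A'' B T : Pair.{u}} (b : A ⟶ B) (b' : A' ⟶ B) (b'' : A'' ⟶ B) (s : T ⟶ B)

/-- The ambient product of `A` with a blow-up `T` of `B`. -/
@[reducible] noncomputable def bp : Pair.{u} :=
  ⟨mprod b.hom s.hom A.mod T.mod, A.mod.comap (mprodι b.hom s.hom A.mod T.mod ≫ pullback.fst b.hom s.hom),
    isEffCartier_comap_mprod_fst A.isEffCartier T.isEffCartier⟩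

/-- The projection to `A`. -/
noncomputable def bpFst : bp b s ⟶ A :=
  ⟨mprodι b.hom s.hom A.mod T.mod ≫ pullback.fst b.hom s.hom, le_rfl⟩

/-- The projection to `T`. -/
noncomputable def bpSnd (hs : IsMinimal T.mod B.mod s.hom) : bp b s ⟶ T :=
  ⟨mprodι b.hom s.hom A.mod T.mod ≫ pullback.snd b.hom s.hom, by
    show _ ≤ T.mod.comap _
    refine le_of_le_of_eq (Scheme.IdealSheafData.comap_mono _ b.cond) ?_
    refine Eq.trans ?_ (congrArg (fun K => Scheme.IdealSheafData.comap K (mprodι b.hom s.hom A.mod T.mod ≫ pullback.snd b.hom s.hom)) hs).symm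
    dsimp only
    rw [← Scheme.IdealSheafData.comap_comp, ← Scheme.IdealSheafData.comap_comp, Category.assoc,
      Category.assoc, pullback.condition]⟩

theorem bp_condition (hs : IsMinimal T.mod B.mod s.hom) : bpSnd b s hs ≫ s = bpFst b s ≫ b :=
  Pair.Hom.ext (show (_ ≫ _) ≫ _ = (_ ≫ _) ≫ _ by rw [Category.assoc, Category.assoc, pullback.condition])

theorem prodInterior_eq (hs : IsMinimal T.mod B.mod s.hom) :
    prodInterior b.hom s.hom A.mod T.mod = pullback.fst b.hom s.hom ⁻¹ᵁ interior A.mod := by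
  refine inf_of_le_left ?_
  rw [show T.mod = B.mod.comap s.hom from hs, interior_comap, ← Scheme.Hom.comp_preimage,
    ← pullback.condition, Scheme.Hom.comp_preimage]
  exact Scheme.Hom.preimage_mono _ (interior_comp b.cond)

theorem admBlowup_bpFst (hs : Pair.admBlowup s) : Pair.admBlowup (bpFst b s) := by
  obtain ⟨hmin, hprop, hiso⟩ := hs
  haveI := hprop
  haveI : IsAffineHom (prodInterior b.hom s.hom A.mod T.mod).ι :=
    isAffineHom_prodInterior A.isEffCartier T.isEffCartier
  refine ⟨rfl, MorphismProperty.comp_mem @IsProper _ _ inferInstance inferInstance, ?_⟩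
  show IsIso ((mprodι b.hom s.hom A.mod T.mod ≫ pullback.fst b.hom s.hom) ∣_ interior A.mod)
  rw [morphismRestrict_comp]
  have h1 : IsIso (mprodι b.hom s.hom A.mod T.mod ∣_ pullback.fst b.hom s.hom ⁻¹ᵁ interior A.mod) := by
    rw [← prodInterior_eq b s hmin]
    exact isIso_closure_restrict _
  have h2 : IsIso (pullback.fst b.hom s.hom ∣_ interior A.mod) := by
    rw [← pullbackSymmetry_hom_comp_snd b.hom s.hom, morphismRestrict_comp]
    exact @IsIso.comp_isIso _ _ _ _ _ _ _ (inferInstance : @IsIso Scheme.{u} _ ((pullbackSymmetry b.hom s.hom).hom ⁻¹ᵁ pullback.snd s.hom b.hom ⁻¹ᵁ interior A.mod).toScheme _ ((pullbackSymmetry b.hom s.hom).hom ∣_ _))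
      (isIso_restrict_of_le s.hom b.hom (interior B.mod) (interior A.mod) (interior_comp b.cond) hiso)
  exact @IsIso.comp_isIso _ _ _ _ _ _ _ h1 h2

/-- Functoriality in `A`. -/
theorem exists_bpMap (hs : IsMinimal T.mod B.mod s.hom) (a : A' ⟶ A) (ha : a ≫ b = b') :
    ∃ m : bp b' s ⟶ bp b s, m ≫ bpFst b s = bpFst b' s ≫ a ∧
      m.hom ≫ mprodι b.hom s.hom A.mod T.mod ≫ pullback.snd b.hom s.hom =
        mprodι b'.hom s.hom A'.mod T.mod ≫ pullback.snd b'.hom s.hom := by
  subst ha
  let μ' := mprodι (a ≫ b).hom s.hom A'.mod T.mod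
  obtain ⟨m, hm⟩ := exists_lift_mprod (f := b.hom) (g := s.hom) (I := A.mod) (J := T.mod)
    (pullback.lift (μ' ≫ pullback.fst _ _ ≫ a.hom) (μ' ≫ pullback.snd _ _) (by
      simp only [Category.assoc]
      exact congrArg (μ' ≫ ·) (pullback.condition (f := a.hom ≫ b.hom) (g := s.hom))))
    (isDenseOpen_interior (bp (a ≫ b) s).isEffCartier) (by
      rw [prodInterior_eq b s hs, ← Scheme.Hom.comp_preimage, pullback.lift_fst, ← Category.assoc,
        Scheme.Hom.comp_preimage _ a.hom]
      exact (interior_comap _ _).le.trans (Scheme.Hom.preimage_mono _ (interior_comp a.cond)))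
  refine ⟨⟨m, ?_⟩, Pair.Hom.ext ?_, ?_⟩
  · show _ ≤ (A.mod.comap (mprodι b.hom s.hom A.mod T.mod ≫ pullback.fst b.hom s.hom)).comap m
    rw [← Scheme.IdealSheafData.comap_comp, ← Category.assoc, hm, pullback.lift_fst, ← Category.assoc,
      Scheme.IdealSheafData.comap_comp]
    exact Scheme.IdealSheafData.comap_mono _ a.cond
  · show m ≫ _ ≫ _ = (_ ≫ _) ≫ _
    rw [← Category.assoc, hm, pullback.lift_fst, Category.assoc]
  · show m ≫ _ ≫ _ = _
    rw [← Category.assoc, hm, pullback.lift_snd]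

theorem bp_hom_ext {W : Scheme.{u}} {f g : W ⟶ (bp b s).total} (h1 : f ≫ (bpFst b s).hom = g ≫ (bpFst b s).hom)
    (h2 : f ≫ mprodι b.hom s.hom A.mod T.mod ≫ pullback.snd b.hom s.hom =
      g ≫ mprodι b.hom s.hom A.mod T.mod ≫ pullback.snd b.hom s.hom) : f = g := by
  rw [← cancel_mono (mprodι b.hom s.hom A.mod T.mod)]
  apply pullback.hom_ext <;> simpa only [bpFst, Category.assoc] using ‹_›

theorem bp_ext (hs : IsMinimal T.mod B.mod s.hom) {W : Pair.{u}} {f g : W ⟶ bp b s}
    (h1 : f ≫ bpFst b s = g ≫ bpFst b s) (h2 : f ≫ bpSnd b s hs = g ≫ bpSnd b s hs) : f = g :=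
  Pair.Hom.ext (bp_hom_ext b s (congrArg Pair.Hom.hom h1) (congrArg Pair.Hom.hom h2))

/-- The map between products. -/
noncomputable def bpMap (hs : IsMinimal T.mod B.mod s.hom) (a : A' ⟶ A) (ha : a ≫ b = b') : bp b' s ⟶ bp b s :=
  (exists_bpMap b b' s hs a ha).choose

theorem bpMap_fst (hs : IsMinimal T.mod B.mod s.hom) (a : A' ⟶ A) (ha : a ≫ b = b') :
    bpMap b b' s hs a ha ≫ bpFst b s = bpFst b' s ≫ a :=
  (exists_bpMap b b' s hs a ha).choose_spec.1

theorem bpMap_snd (hs : IsMinimal T.mod B.mod s.hom) (a : A' ⟶ A) (ha : a ≫ b = b') :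
    bpMap b b' s hs a ha ≫ bpSnd b s hs = bpSnd b' s hs :=
  Pair.Hom.ext (exists_bpMap b b' s hs a ha).choose_spec.2

theorem isAffineHom_bpMap (hs : IsMinimal T.mod B.mod s.hom) (a : A' ⟶ A) (ha : a ≫ b = b')
    [IsAffineHom a.hom] : IsAffineHom (bpMap b b' s hs a ha).hom := by
  subst ha
  let p : pullback (a ≫ b).hom s.hom ⟶ pullback b.hom s.hom :=
    pullback.lift (pullback.fst _ _ ≫ a.hom) (pullback.snd _ _)
      (by rw [Category.assoc]; exact pullback.condition (f := a.hom ≫ b.hom) (g := s.hom))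
  haveI : IsAffineHom p := by
    have : IsPullback p (pullback.fst (a ≫ b).hom s.hom) (pullback.fst b.hom s.hom) a.hom := by
      refine IsPullback.of_right ?_ (pullback.lift_fst _ _ _) (IsPullback.of_hasPullback b.hom s.hom).flip
      rw [pullback.lift_snd]
      exact (IsPullback.of_hasPullback (a.hom ≫ b.hom) s.hom).flip
    exact MorphismProperty.of_isPullback this.flip ‹IsAffineHom a.hom›
  have e : (bpMap b (a ≫ b) s hs a rfl).hom ≫ mprodι b.hom s.hom A.mod T.mod =
      mprodι (a ≫ b).hom s.hom A'.mod T.mod ≫ p := by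
    have h1 := congrArg Pair.Hom.hom (bpMap_fst b (a ≫ b) s hs a rfl)
    have h2 := congrArg Pair.Hom.hom (bpMap_snd b (a ≫ b) s hs a rfl)
    apply pullback.hom_ext
    · rw [Category.assoc, Category.assoc, pullback.lift_fst, ← Category.assoc (mprodι _ _ _ _)]
      exact h1
    · rw [Category.assoc, Category.assoc, pullback.lift_snd]
      exact h2
  haveI : IsAffineHom ((bpMap b (a ≫ b) s hs a rfl).hom ≫ mprodι b.hom s.hom A.mod T.mod) := by
    rw [e]; infer_instance
  exact MorphismProperty.of_postcomp (W := @IsAffineHom) (W' := @IsSeparated)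
    _ (mprodι b.hom s.hom A.mod T.mod) inferInstance inferInstance

theorem bpMap_minimal (hs : IsMinimal T.mod B.mod s.hom) (a : A' ⟶ A) (ha : a ≫ b = b')
    (hmin : IsMinimal A'.mod A.mod a.hom) :
    IsMinimal (bp b' s).mod (bp b s).mod (bpMap b b' s hs a ha).hom := by
  show A'.mod.comap (bpFst b' s).hom = (A.mod.comap (bpFst b s).hom).comap _
  rw [hmin, ← Scheme.IdealSheafData.comap_comp, ← Scheme.IdealSheafData.comap_comp]
  exact congrArg (A.mod.comap ·) (congrArg Pair.Hom.hom (bpMap_fst b b' s hs a ha)).symm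

theorem isSTD_restrict {X Y : Scheme.{u}} (f : X ⟶ Y) [QuasiCompact f] [IsSchemeTheoreticallyDominant f]
    (U : Y.Opens) : IsSchemeTheoreticallyDominant (f ∣_ U) :=
  IsSchemeTheoreticallyDominant.of_isPullback (isPullback_morphismRestrict f U).flip

theorem isSTD_bpMap (hs : Pair.admBlowup s) (a : A' ⟶ A) (ha : a ≫ b = b')
    (hmin : IsMinimal A'.mod A.mod a.hom) [IsAffineHom a.hom] [IsSchemeTheoreticallyDominant a.hom] :
    IsSchemeTheoreticallyDominant (bpMap b b' s hs.1 a ha).hom := by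
  let m := (bpMap b b' s hs.1 a ha).hom
  have hf : m ≫ (bpFst b s).hom = (bpFst b' s).hom ≫ a.hom :=
    congrArg Pair.Hom.hom (bpMap_fst b b' s hs.1 a ha)
  haveI := (admBlowup_bpFst b s hs).2.2
  haveI := (admBlowup_bpFst b' s hs).2.2
  haveI := isAffineHom_bpMap b b' s hs.1 a ha
  let V := interior A.mod
  have hV : interior A'.mod = a.hom ⁻¹ᵁ V := by rw [hmin, interior_comap]
  haveI : IsIso ((bpFst b' s).hom ∣_ a.hom ⁻¹ᵁ V) := hV ▸ (admBlowup_bpFst b' s hs).2.2
  have h1 : IsSchemeTheoreticallyDominant (((bpFst b' s).hom ∣_ a.hom ⁻¹ᵁ V) ≫ a.hom ∣_ V) := by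
    haveI := isSTD_restrict a.hom V
    infer_instance
  rw [← morphismRestrict_comp] at h1
  have key : ∀ f : (bp b' s).total ⟶ A.total, f = (bpFst b' s).hom ≫ a.hom →
      IsSchemeTheoreticallyDominant (f ∣_ V) := by rintro f rfl; exact h1
  have h2 := key _ hf
  rw [morphismRestrict_comp] at h2
  let U := (bpFst b s).hom ⁻¹ᵁ V
  have h3 : IsSchemeTheoreticallyDominant (m ∣_ U) := by
    have : m ∣_ U = (m ∣_ U ≫ (bpFst b s).hom ∣_ V) ≫ inv ((bpFst b s).hom ∣_ V) := by simp
    rw [this]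
    exact MorphismProperty.comp_mem @IsSchemeTheoreticallyDominant _ _ h2 inferInstance
  have hd : IsDenseOpen U := by
    show IsDenseOpen ((bpFst b s).hom ⁻¹ᵁ interior A.mod)
    rw [← interior_comap]
    exact isDenseOpen_interior (bp b s).isEffCartier
  haveI := hd.isSTD
  have h4 : IsSchemeTheoreticallyDominant ((m ⁻¹ᵁ U).ι ≫ m) := by
    rw [← morphismRestrict_ι]
    infer_instance
  rw [isSchemeTheoreticallyDominant_iff, ← le_bot_iff, ← ((m ⁻¹ᵁ U).ι ≫ m).ker_eq_bot]
  exact Scheme.Hom.le_ker_comp _ _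

end Product

section System

variable {I : Type u} [SmallCategory I] {D : I ⥤ Pair.{u}} {c : Cone D} {B T : Pair.{u}}
  (b : D ⟶ (Functor.const I).obj B) (b₀ : c.pt ⟶ B) (hb₀ : ∀ i, c.π.app i ≫ b.app i = b₀)
  (s : T ⟶ B) (hs : IsMinimal T.mod B.mod s.hom)

theorem app_comp {i j : I} (t : i ⟶ j) : D.map t ≫ b.app j = b.app i :=
  (b.naturality t).trans (Category.comp_id _)

/-- The system of ambient products. -/
noncomputable def bpSys : I ⥤ Pair.{u} where
  obj i := bp (b.app i) s
  map {i j} t := bpMap (b.app j) (b.app i) s hs (D.map t) (app_comp b t)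
  map_id i := by
    refine bp_ext (b.app i) s hs ?_ ?_
    · rw [bpMap_fst, D.map_id, Category.comp_id, Category.id_comp]
    · rw [bpMap_snd, Category.id_comp]
  map_comp {i j k} t t' := by
    refine bp_ext (b.app k) s hs ?_ ?_
    · rw [bpMap_fst, Category.assoc, bpMap_fst, ← Category.assoc (bpMap _ _ _ _ _ _), bpMap_fst, Category.assoc, D.map_comp]
    · rw [bpMap_snd, Category.assoc, bpMap_snd, bpMap_snd]

/-- Its cone over the limit. -/
noncomputable def bpCone : Cone (bpSys b s hs) where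
  pt := bp b₀ s
  π :=
    { app := fun i => bpMap (b.app i) b₀ s hs (c.π.app i) (hb₀ i)
      naturality := fun i j t => by
        refine (Category.id_comp _).trans ?_
        refine bp_ext (b.app j) s hs ?_ ?_
        · show _ = (_ ≫ bpMap (b.app j) (b.app i) s hs (D.map t) (app_comp b t)) ≫ _
          rw [bpMap_fst, Category.assoc, bpMap_fst, ← Category.assoc (bpMap _ _ _ _ _ _), bpMap_fst, Category.assoc, c.w]
        · show _ = (_ ≫ bpMap (b.app j) (b.app i) s hs (D.map t) (app_comp b t)) ≫ _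
          rw [bpMap_snd, Category.assoc, bpMap_snd, bpMap_snd] }

theorem isSys_bpSys [IsCofiltered I] (hD : IsSys D c) (hs' : IsProper s.hom) :
    IsSys (bpSys b s hs) (bpCone b b₀ hb₀ s hs) := by
  haveI := hs'
  haveI := hD.compact; haveI := hD.qs
  haveI haff : ∀ {i j : I} (t : i ⟶ j), IsAffineHom ((bpSys b s hs).map t).hom := fun {i j} t =>
    haveI := hD.affine t; isAffineHom_bpMap (b.app j) (b.app i) s hs (D.map t) (app_comp b t)
  have hprop : ∀ i, @IsProper (bp (b.app i) s).total (D.obj i).total (bpFst (b.app i) s).hom := fun i =>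
    haveI : IsAffineHom (prodInterior (b.app i).hom s.hom (D.obj i).mod T.mod).ι :=
      isAffineHom_prodInterior (D.obj i).isEffCartier T.isEffCartier
    MorphismProperty.comp_mem @IsProper _ _ inferInstance inferInstance
  have hmin : ∀ {i j : I} (t : i ⟶ j), IsMinimal ((bpSys b s hs).obj i).mod ((bpSys b s hs).obj j).mod
      ((bpSys b s hs).map t).hom := fun {i j} t => bpMap_minimal (b.app j) (b.app i) s hs (D.map t) (app_comp b t) (hD.min t)
  refine ⟨?_, haff, hmin, fun i => bpMap_minimal (b.app i) b₀ s hs (c.π.app i) (hb₀ i) (hD.minπ i),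
    fun i => by haveI := hprop i; haveI := hD.compact i; have := QuasiCompact.compactSpace_of_compactSpace (bpFst (b.app i) s).hom; exact this,
    fun i => by haveI := hprop i; haveI := hD.qs i; have := quasiSeparatedSpace_of_quasiSeparated (bpFst (b.app i) s).hom; exact this⟩
  let E := bpSys b s hs ⋙ Pair.forget
  haveI : ∀ {i j : I} (t : i ⟶ j), IsAffineHom (E.map t) := fun t => haff t
  haveI : IsConnected I := IsCofiltered.isConnected _
  haveI : HasLimit E := H8Lim.hasLimit_of_affine_transition E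
  let L := limit E
  have hL : IsLimit (limit.cone E) := limit.isLimit E
  let π' : ∀ i, L ⟶ (bp (b.app i) s).total := fun i => limit.π E i
  have hπw : ∀ {i j : I} (t : i ⟶ j), π' i ≫ (bpMap (b.app j) (b.app i) s hs (D.map t) (app_comp b t)).hom = π' j :=
    fun t => limit.w E t
  obtain ⟨hC⟩ := hD.nonempty_isLimit
  let κ : Cone (D ⋙ Pair.forget) :=
    { pt := L
      π := { app := fun i => π' i ≫ (bpFst (b.app i) s).hom
             naturality := fun i j t => by
              refine (Category.id_comp _).trans ?_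
              show π' j ≫ _ = (π' i ≫ _) ≫ (D.map t).hom
              rw [← hπw t, Category.assoc, Category.assoc]
              exact congrArg (π' i ≫ ·) (congrArg Pair.Hom.hom (bpMap_fst _ _ _ _ _ _)) } }
  let l : L ⟶ c.pt.total := hC.lift κ
  have hl : ∀ i, l ≫ (c.π.app i).hom = π' i ≫ (bpFst (b.app i) s).hom := fun i => hC.fac κ i
  obtain ⟨i₀⟩ := IsCofiltered.nonempty (C := I)
  let u : L ⟶ T.total := π' i₀ ≫ (bpSnd (b.app i₀) s hs).hom
  have hu : ∀ i, π' i ≫ (bpSnd (b.app i) s hs).hom = u := fun i => by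
    obtain ⟨k, t, t₀, -⟩ : ∃ (k : I) (_ : k ⟶ i) (_ : k ⟶ i₀), True :=
      ⟨IsCofiltered.min i i₀, IsCofiltered.minToLeft _ _, IsCofiltered.minToRight _ _, trivial⟩
    simp only [u, ← hπw t, ← hπw t₀, Category.assoc]
    exact congrArg (π' k ≫ ·) ((congrArg Pair.Hom.hom (bpMap_snd _ _ _ _ _ _)).trans
      (congrArg Pair.Hom.hom (bpMap_snd _ _ _ _ _ _)).symm)
  have hw : l ≫ b₀.hom = u ≫ s.hom := by
    rw [← hb₀ i₀]
    show l ≫ (c.π.app i₀).hom ≫ (b.app i₀).hom = _
    rw [← Category.assoc, hl, Category.assoc, Category.assoc]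
    exact congrArg (π' i₀ ≫ ·) (congrArg Pair.Hom.hom (bp_condition _ s hs)).symm
  have heff : BlowUp.IsEffCartierIdeal (c.pt.mod.comap l) := by
    rw [show c.pt.mod = (D.obj i₀).mod.comap (c.π.app i₀).hom from hD.minπ i₀,
      ← Scheme.IdealSheafData.comap_comp, hl, Scheme.IdealSheafData.comap_comp]
    exact S18744.result E (limit.cone E) hL (fun i => ((bpSys b s hs).obj i).mod)
      (fun i => ((bpSys b s hs).obj i).isEffCartier) (fun i j t => hmin t) i₀
  haveI : IsAffineHom (interior (c.pt.mod.comap l)).ι := isAffineHom_interior heff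
  obtain ⟨v, hv⟩ := exists_lift_mprod (f := b₀.hom) (g := s.hom) (I := c.pt.mod) (J := T.mod)
    (pullback.lift l u hw) (isDenseOpen_interior heff) (by
      rw [prodInterior_eq b₀ s hs, ← Scheme.Hom.comp_preimage, pullback.lift_fst]
      exact (interior_comap _ _).le)
  have hv1 : v ≫ (bpFst b₀ s).hom = l := by
    show v ≫ _ ≫ _ = l
    rw [← Category.assoc, hv, pullback.lift_fst]
  have hv2 : v ≫ (bpSnd b₀ s hs).hom = u := by
    show v ≫ _ ≫ _ = u
    rw [← Category.assoc, hv, pullback.lift_snd]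
  let C := Pair.forget.mapCone (bpCone b b₀ hb₀ s hs)
  let w : (bp b₀ s).total ⟶ L := hL.lift C
  have hwπ : ∀ i, w ≫ π' i = (bpMap (b.app i) b₀ s hs (c.π.app i) (hb₀ i)).hom := fun i => hL.fac C i
  have h1 : v ≫ w = 𝟙 L := hL.hom_ext fun i => by
    refine bp_hom_ext _ _ ?_ ?_
    · show ((v ≫ w) ≫ π' i) ≫ _ = (𝟙 L ≫ π' i) ≫ _
      rw [Category.assoc v, hwπ, Category.id_comp, Category.assoc]
      refine (congrArg (v ≫ ·) (congrArg Pair.Hom.hom (bpMap_fst _ _ _ _ _ _))).trans ?_
      show v ≫ _ ≫ _ = _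
      rw [← Category.assoc, hv1, hl]
    · show ((v ≫ w) ≫ π' i) ≫ _ = (𝟙 L ≫ π' i) ≫ _
      rw [Category.assoc v, hwπ, Category.id_comp, Category.assoc]
      refine (congrArg (v ≫ ·) (congrArg Pair.Hom.hom (bpMap_snd _ _ _ _ _ _))).trans ?_
      exact hv2.trans (hu i).symm
  have h2 : w ≫ v = 𝟙 (bp b₀ s).total := by
    refine bp_hom_ext b₀ s ?_ ?_
    · rw [Category.id_comp, Category.assoc, hv1]
      refine hC.hom_ext fun i => ?_
      show (w ≫ l) ≫ (c.π.app i).hom = _
      rw [Category.assoc, hl, ← Category.assoc, hwπ]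
      exact congrArg Pair.Hom.hom (bpMap_fst _ _ _ _ _ _)
    · show (w ≫ v) ≫ (bpSnd b₀ s hs).hom = 𝟙 (bp b₀ s).total ≫ (bpSnd b₀ s hs).hom
      rw [Category.id_comp, Category.assoc, hv2, ← hu i₀, ← Category.assoc, hwπ]
      exact congrArg Pair.Hom.hom (bpMap_snd _ _ _ _ _ _)
  exact ⟨hL.ofIsoLimit (Cone.ext ⟨v, w, h1, h2⟩ fun i => by
    show π' i = v ≫ (bpMap (b.app i) b₀ s hs (c.π.app i) (hb₀ i)).hom
    rw [← hwπ, ← Category.assoc, h1, Category.id_comp])⟩

theorem isDomSys_bpSys (hD : IsSys D c) (hd : IsDomSys D) (hs' : Pair.admBlowup s) :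
    IsDomSys (bpSys b s hs'.1) := fun i j t => by
  haveI := hD.affine t
  haveI := hd i j t
  exact isSTD_bpMap (b.app j) (b.app i) s hs' (D.map t) (app_comp b t) (hD.min t)

end System

end Groth.Agent.ModPair23
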