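import Groth.Agent.H8Lim.SchemeDescent
import Groth.Agent.H8Lim.FlatDescent
import Groth.Agent.LimSmooth.Scheme

/-!
# Descent of finitely presented flat / étale coverings along limits
-/

set_option autoImplicit false
set_option linter.style.haveILetI false
set_option backward.isDefEq.respectTransparency.types false

universe u

open CategoryTheory CategoryTheory.Limits AlgebraicGeometry TopologicalSpace

namespace Groth.Agent.ModPair23

variable {P : MorphismProperty Scheme.{u}} [P.IsStableUnderBaseChange] [P.IsStableUnderComposition]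
  [IsZariskiLocalAtSource P]

variable {I : Type u} [SmallCategory I] [IsCofiltered I] {D : I ⥤ Scheme.{u}} {c : Cone D}
  [∀ (i j : I) (t : i ⟶ j), IsAffineHom (D.map t)] [∀ i, CompactSpace (D.obj i)]

/-- A finitely presented morphism to a stage has `P` at a later stage if its base change to the
limit has `P`. -/
theorem exists_stage_prop (hc : IsLimit c) (hA : LimSmooth.AffineSpreads P)
    (hιP : ∀ {A B : Scheme.{u}} (ι : A ⟶ B) [IsOpenImmersion ι], P ι)
    {K : I} {X₀ : Scheme.{u}} (h : X₀ ⟶ D.obj K) [LocallyOfFinitePresentation h] [QuasiCompact h]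
    {X : Scheme.{u}} {f : X ⟶ c.pt} {q : X ⟶ X₀} (sq : IsPullback q f h (c.π.app K)) (hP : P f) :
    ∃ (m : I) (φ : m ⟶ K), P (pullback.snd h (D.map φ)) := by
  haveI : CompactSpace X₀ := QuasiCompact.compactSpace_of_compactSpace h
  have hY : IsPullback (c.π.app K) (𝟙 c.pt) (𝟙 (D.obj K)) (c.π.app K) := IsPullback.id_vert _
  obtain ⟨m, φ, Xm, Ym, fm, gm, pY, pX, hYm, hXm, hfm⟩ := LimSmooth.exists_stage hc hY sq hA hιP hP
  haveI : IsIso gm := hYm.isIso_snd_of_isIso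
  refine ⟨m, φ, H8Lim.prop_snd_of_isPullback (P := P) (a := h) (x := pX) (y := fm ≫ gm) ?_ (P.comp_mem _ _ hfm (hιP gm))⟩
  have := hXm.paste_vert hYm
  rwa [Category.comp_id] at this

theorem exists_descend_cover (hc : IsLimit c) [∀ i, QuasiSeparatedSpace (D.obj i)] (hA : LimSmooth.AffineSpreads P)
    (hιP : ∀ {A B : Scheme.{u}} (ι : A ⟶ B) [IsOpenImmersion ι], P ι) (hflat : P ≤ @Flat) (i₀ : I)
    {ι : Type u} (U : ι → Scheme.{u}) (u : ∀ a, U a ⟶ c.pt) (hu : ∀ a, P (u a))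
    [∀ a, LocallyOfFinitePresentation (u a)] [∀ a, QuasiCompact (u a)] [∀ a, QuasiSeparated (u a)]
    (hcov : ∀ x : c.pt, ∃ (a : ι) (y : U a), (u a).base y = x) :
    ∃ (i : I) (_ : i ⟶ i₀) (n : ℕ) (V : Fin n → Scheme.{u}) (v : ∀ j, V j ⟶ D.obj i) (a : Fin n → ι)
      (e : ∀ j, U (a j) ⟶ V j),
      (∀ j, P (v j) ∧ LocallyOfFinitePresentation (v j) ∧ QuasiCompact (v j) ∧ QuasiSeparated (v j)) ∧
      (∀ x : D.obj i, ∃ (j : Fin n) (y : V j), (v j).base y = x) ∧
      ∀ j, IsPullback (e j) (u (a j)) (v j) (c.π.app i) := by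
  classical
  haveI : ∀ {i j : I} (t : i ⟶ j), IsAffineHom (D.map t) := fun t => inferInstance
  haveI : CompactSpace c.pt := Scheme.compactSpace_of_isLimit D c hc
  haveI : ∀ a, UniversallyOpen (u a) := fun a => by
    haveI := hflat _ (hu a); infer_instance
  obtain ⟨s, hs⟩ := isCompact_univ.elim_finite_subcover (fun a => Set.range (u a).base)
    (fun a => (u a).isOpenMap.isOpen_range) fun x _ => Set.mem_iUnion.2 (hcov x)
  let a : Fin s.card → ι := fun j => (s.equivFin.symm j).1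
  have hmodel : ∀ j, ∃ (K : I) (Z : Scheme.{u}) (h : Z ⟶ D.obj K) (q : U (a j) ⟶ Z),
      LocallyOfFinitePresentation h ∧ QuasiCompact h ∧ QuasiSeparated h ∧
        IsPullback q (u (a j)) h (c.π.app K) := fun j => H8Lim.exists_stage_scheme hc (u (a j))
  choose K Z h q h1 h2 h3 hsq using hmodel
  haveI := h1; haveI := h2; haveI := h3
  have hstage : ∀ j, ∃ (m : I) (φ : m ⟶ K j), P (pullback.snd (h j) (D.map φ)) :=
    fun j => exists_stage_prop hc hA hιP (h j) (hsq j) (hu _)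
  choose m φ hP using hstage
  obtain ⟨M, hM⟩ := IsCofiltered.inf_objs_exists (insert i₀ (Finset.univ.image m))
  let τ : ∀ j, M ⟶ m j := fun j => (hM (by simp : m j ∈ _)).some
  have hpull : ∀ j {N : I} (ψ : N ⟶ M), P (pullback.snd (h j) (D.map (ψ ≫ τ j ≫ φ j))) := fun j N ψ =>
    H8Lim.prop_snd_congr (D.map_comp _ _).symm (H8Lim.prop_snd_comp
      (H8Lim.prop_snd_congr (D.map_comp _ _).symm (H8Lim.prop_snd_comp (hP j) (D.map (τ j)))) (D.map ψ))
  let W : Fin s.card → (D.obj M).Opens := fun j =>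
    haveI := hflat _ (hpull j (𝟙 M))
    ⟨Set.range (pullback.snd (h j) (D.map (𝟙 M ≫ τ j ≫ φ j))).base,
      (pullback.snd (h j) (D.map (𝟙 M ≫ τ j ≫ φ j))).isOpenMap.isOpen_range⟩
  obtain ⟨N, ψ, hψ⟩ := exists_map_eq_top D c hc (i := M) (⨆ j, W j) (by
    refine top_le_iff.1 fun x _ => ?_
    obtain ⟨b, hb, y, hy⟩ := Set.mem_iUnion₂.1 (hs (Set.mem_univ x))
    obtain ⟨j, hj⟩ : ∃ j, a j = b := ⟨s.equivFin ⟨b, hb⟩, by simp [a]⟩
    subst hj
    rw [Scheme.Hom.preimage_iSup, Opens.mem_iSup]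
    refine ⟨j, ?_⟩
    show c.π.app M x ∈ Set.range (pullback.snd (h j) (D.map (𝟙 M ≫ τ j ≫ φ j))).base
    rw [Scheme.Pullback.range_snd, Set.mem_preimage, ← Scheme.Hom.comp_apply, c.w]
    exact ⟨q j y, by rw [← Scheme.Hom.comp_apply, (hsq j).w, Scheme.Hom.comp_apply, hy]⟩)
  refine ⟨N, ψ ≫ (hM (by simp : i₀ ∈ _)).some, s.card, fun j => pullback (h j) (D.map (ψ ≫ τ j ≫ φ j)),
    fun j => pullback.snd _ _, a,
    fun j => pullback.lift (q j) (u (a j) ≫ c.π.app N) (by rw [Category.assoc, c.w, (hsq j).w]),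
    fun j => ⟨hpull j ψ, inferInstance, inferInstance, inferInstance⟩, fun x => ?_,
    fun j => H8Lim.isPullback_later (hsq j) _ _⟩
  have hx : D.map ψ x ∈ ⨆ j, W j := hψ.ge (trivial : x ∈ (⊤ : (D.obj N).Opens))
  obtain ⟨j, hj⟩ := Opens.mem_iSup.1 hx
  refine ⟨j, ?_⟩
  change D.map ψ x ∈ Set.range (pullback.snd (h j) (D.map (𝟙 M ≫ τ j ≫ φ j))).base at hj
  rw [Scheme.Pullback.range_snd, Set.mem_preimage, ← Scheme.Hom.comp_apply, ← D.map_comp,
    Category.id_comp] at hj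
  show x ∈ Set.range (pullback.snd (h j) (D.map (ψ ≫ τ j ≫ φ j))).base
  rw [Scheme.Pullback.range_snd]
  exact hj

/-- The variant with only one compact quasi-separated stage. -/
theorem exists_descend_cover' {I : Type u} [SmallCategory I] [IsCofiltered I] {D : I ⥤ Scheme.{u}} {c : Cone D}
    (hc : IsLimit c) [∀ (i j : I) (t : i ⟶ j), IsAffineHom (D.map t)] (hA : LimSmooth.AffineSpreads P)
    (hιP : ∀ {A B : Scheme.{u}} (ι : A ⟶ B) [IsOpenImmersion ι], P ι) (hflat : P ≤ @Flat) (i₀ : I)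
    [CompactSpace (D.obj i₀)] [QuasiSeparatedSpace (D.obj i₀)]
    {ι : Type u} (U : ι → Scheme.{u}) (u : ∀ a, U a ⟶ c.pt) (hu : ∀ a, P (u a))
    [∀ a, LocallyOfFinitePresentation (u a)] [∀ a, QuasiCompact (u a)] [∀ a, QuasiSeparated (u a)]
    (hcov : ∀ x : c.pt, ∃ (a : ι) (y : U a), (u a).base y = x) :
    ∃ (i : I) (n : ℕ) (V : Fin n → Scheme.{u}) (v : ∀ j, V j ⟶ D.obj i) (a : Fin n → ι)
      (e : ∀ j, U (a j) ⟶ V j),
      (∀ j, P (v j) ∧ LocallyOfFinitePresentation (v j) ∧ QuasiCompact (v j) ∧ QuasiSeparated (v j)) ∧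
      (∀ x : D.obj i, ∃ (j : Fin n) (y : V j), (v j).base y = x) ∧
      ∀ j, IsPullback (e j) (u (a j)) (v j) (c.π.app i) := by
  let E := Over.forget i₀ ⋙ D
  let C : Cone E := c.whisker (Over.forget i₀)
  have hC : IsLimit C := (Functor.Initial.isLimitWhiskerEquiv (Over.forget i₀) c).symm hc
  haveI : ∀ (i j : Over i₀) (t : i ⟶ j), IsAffineHom (E.map t) := fun i j t => inferInstanceAs (IsAffineHom (D.map t.left))
  haveI : ∀ i, CompactSpace (E.obj i) := fun i => QuasiCompact.compactSpace_of_compactSpace (D.map i.hom)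
  haveI : ∀ i, QuasiSeparatedSpace (E.obj i) := fun i => quasiSeparatedSpace_of_quasiSeparated (D.map i.hom)
  obtain ⟨i, -, n, V, v, a, e, h1, h2, h3⟩ := exists_descend_cover (c := C) hC hA hιP hflat (Over.mk (𝟙 i₀)) U u hu hcov
  exact ⟨i.left, n, V, v, a, e, h1, h2, h3⟩

end Groth.Agent.ModPair23
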