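import Groth.Agent.ModPairLib.MProd
import Groth.Agent.H8Lim.ApproxClosed
import Groth.Agent.H8Lim.ProperStage
import Groth.Agent.H8Lim.Absolute
import Groth.Agent.H8Lim.SchemeDescent
import Groth.Agent.H8Lim.DescentMore
import Groth.Agent.H8Lim.DescentProper
import Groth.Agent.S18744

/-!
# Abstract admissible blow-ups descend along limits of modulus pairs
-/

set_option autoImplicit false
set_option linter.style.haveILetI false
set_option backward.isDefEq.respectTransparency.types false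

universe u

open CategoryTheory CategoryTheory.Limits AlgebraicGeometry TopologicalSpace

namespace Groth.Agent.ModPair23

open Groth.Agent.ModPairLib

/-- A morphism which lands in a closed subscheme on a dense open lands in it. -/
theorem exists_lift_of_dense {Y Z W : Scheme.{u}} (ι : Y ⟶ Z) [IsClosedImmersion ι] (c : W ⟶ Z)
    {U : W.Opens} [QuasiCompact U.ι] (hU : IsDenseOpen U) (k : U.toScheme ⟶ Y) (hk : k ≫ ι = U.ι ≫ c) :
    ∃ c' : W ⟶ Y, c' ≫ ι = c := by
  refine ⟨IsClosedImmersion.lift ι c ?_, IsClosedImmersion.lift_fac _ _ _⟩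
  calc ι.ker ≤ (k ≫ ι).ker := Scheme.Hom.le_ker_comp _ _
    _ = (U.ι ≫ c).ker := by rw [hk]
    _ = c.ker := by
      have := hU.isSTD
      rw [Scheme.Hom.ker_comp, U.ι.ker_eq_bot, Scheme.IdealSheafData.map_bot]

theorem isIso_of_isClosedImmersion_comp {A B C : Scheme.{u}} (a : A ⟶ B) (b : B ⟶ C) [IsClosedImmersion b]
    [IsIso (a ≫ b)] : IsIso b := by
  refine IsClosedImmersion.isIso_iff_ker_eq_bot.2 (le_bot_iff.1 ?_)
  exact (Scheme.Hom.le_ker_comp a b).trans (a ≫ b).ker_eq_bot.le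

/-- Restriction of a pullback square over an open. -/
theorem isPullback_restrict {A B C E : Scheme.{u}} {q : A ⟶ B} {g : A ⟶ C} {h : B ⟶ E} {π : C ⟶ E}
    (sq : IsPullback q g h π) (U : E.Opens) :
    IsPullback (q.resLE (h ⁻¹ᵁ U) (g ⁻¹ᵁ π ⁻¹ᵁ U)
      (by rw [← Scheme.Hom.comp_preimage, ← sq.w, Scheme.Hom.comp_preimage]))
      (g ∣_ π ⁻¹ᵁ U) (h ∣_ U) (π ∣_ U) := by
  refine IsPullback.of_right ?_ ?_ (isPullback_morphismRestrict h U).flip
  · rw [Scheme.Hom.resLE_comp_ι, morphismRestrict_ι]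
    exact (isPullback_morphismRestrict g (π ⁻¹ᵁ U)).flip.paste_horiz sq
  · rw [← cancel_mono U.ι]
    simp only [Category.assoc, morphismRestrict_ι, morphismRestrict_ι_assoc, Scheme.Hom.resLE_comp_ι_assoc, sq.w]

/-- A proper morphism which is an isomorphism over a qc open is closed in a finitely presented one. -/
theorem exists_fp_proper_iso {X Y : Scheme.{u}} [CompactSpace X] [QuasiSeparatedSpace X] (U : X.Opens)
    (hU : IsCompact (U : Set X)) (s : Y ⟶ X) [IsProper s] [IsIso (s ∣_ U)] :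
    ∃ (Z : Scheme.{u}) (g : Z ⟶ X) (ι : Y ⟶ Z), IsClosedImmersion ι ∧ ι ≫ g = s ∧
      LocallyOfFinitePresentation g ∧ IsProper g ∧ IsIso (g ∣_ U) := by
  haveI : CompactSpace Y := QuasiCompact.compactSpace_of_compactSpace s
  haveI : QuasiSeparatedSpace Y := quasiSeparatedSpace_of_quasiSeparated s
  obtain ⟨I, _, _, _, D, c, hc, hD, htr, hsep, hπ, ⟨e⟩⟩ :=
    H8Lim.exists_limit_closedImmersion_transitions s
  let E := D ⋙ Over.forget X
  let cE : Cone E := (Over.forget X).mapCone c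
  haveI : IsConnected Iᵒᵖ := IsCofiltered.isConnected _
  have hE : IsLimit cE := isLimitOfPreserves (Over.forget X) hc
  haveI : ∀ {i j : Iᵒᵖ} (t : i ⟶ j), IsClosedImmersion (E.map t) := fun {i j} t => htr i j t
  haveI : ∀ j, IsClosedImmersion (cE.π.app j) := hπ
  haveI : ∀ i, CompactSpace (E.obj i) := fun i => (hD i).2.2.2.1
  haveI : ∀ i, QuasiSeparatedSpace (E.obj i) := fun i => (hD i).2.2.2.2
  let t : E ⟶ (Functor.const _).obj X :=
    { app := fun i => (D.obj i).hom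
      naturality := fun i j φ => (Over.w (D.map φ)).trans (Category.comp_id _).symm }
  have hs : ∀ j, cE.π.app j ≫ t.app j = c.pt.hom := fun j => Over.w (c.π.app j)
  haveI : IsIso e.hom.left := inferInstanceAs (IsIso ((Over.forget X).map e.hom))
  have hes : e.hom.left ≫ s = c.pt.hom := Over.w e.hom
  haveI : IsProper c.pt.hom := hes ▸ (MorphismProperty.comp_mem _ _ _ (inferInstance : IsProper e.hom.left) ‹IsProper s› : IsProper (e.hom.left ≫ s))
  obtain ⟨i₀⟩ := IsCofiltered.nonempty (C := Iᵒᵖ)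
  haveI := (hD i₀).1; haveI := (hD i₀).2.1
  haveI := hsep inferInstance i₀
  haveI : IsSeparated (t.app i₀) := hsep inferInstance i₀
  haveI : LocallyOfFiniteType (t.app i₀) := inferInstanceAs (LocallyOfFiniteType (D.obj i₀).hom)
  haveI : QuasiCompact (t.app i₀) := inferInstanceAs (QuasiCompact (D.obj i₀).hom)
  obtain ⟨j₁, -, hj₁⟩ := @H8Lim.exists_isProper_stage _ _ _ E cE hE _ _ X _ t c.pt.hom hs ‹IsProper c.pt.hom› i₀ (t.app i₀) rfl _ _ _
  haveI : IsIso (c.pt.hom ∣_ U) := by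
    rw [← hes, morphismRestrict_comp]
    exact @IsIso.comp_isIso _ _ _ _ _ _ _ (inferInstance : IsIso (e.hom.left ∣_ _)) ‹IsIso (s ∣_ U)›
  haveI : CompactSpace U.toScheme := isCompact_iff_compactSpace.1 hU
  let 𝒰 := U.toScheme.affineCover.finiteSubcover
  let W : 𝒰.I₀ → X.Opens := fun k => U.ι ''ᵁ (𝒰.f k).opensRange
  have hW : ∀ k, ∃ i, ∀ j, (j ⟶ i) → IsClosedImmersion (t.app j ∣_ W k) := fun k => by
    haveI : IsAffine (𝒰.X k) := inferInstanceAs (IsAffine (Spec _))
    have hle : W k ≤ U := by rintro _ ⟨z, -, rfl⟩; exact z.2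
    have : IsIso (c.pt.hom ∣_ W k) := by
      have h1 : IsIso (c.pt.hom ∣_ U ∣_ (𝒰.f k).opensRange) := inferInstance
      exact ((MorphismProperty.isomorphisms Scheme.{u}).arrow_mk_iso_iff
        (morphismRestrictRestrict c.pt.hom U (𝒰.f k).opensRange)).1 h1
    haveI : @IsClosedImmersion (c.pt.hom ⁻¹ᵁ W k).toScheme (W k).toScheme (c.pt.hom ∣_ W k) := inferInstance
    exact @H8Lim.exists_forall_isClosedImmersion_restrict _ _ _ E X t cE hE _ c.pt.hom hs _ _ _ (W k)
      ((isAffineOpen_opensRange (𝒰.f k)).image_of_isOpenImmersion _) ‹_› (fun {i j} f => inferInstance)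
      fun i => haveI := (hD i).1; inferInstanceAs (LocallyOfFiniteType (D.obj i).hom)
  obtain ⟨j₂, hj₂⟩ := H8Lim.exists_forall_of_finite (fun k j => IsClosedImmersion (t.app j ∣_ W k)) hW
  let j := IsCofiltered.min j₁ j₂
  have hcl : IsClosedImmersion (t.app j ∣_ U) :=
    IsZariskiLocalAtTarget.of_iSup_eq_top (P := @IsClosedImmersion) (fun k => (𝒰.f k).opensRange)
      𝒰.isOpenCover_opensRange fun k =>
        (MorphismProperty.arrow_mk_iso_iff (P := @IsClosedImmersion)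
          (morphismRestrictRestrict (t.app j) U (𝒰.f k).opensRange)).2 (hj₂ j (IsCofiltered.minToRight _ _) k)
  haveI : IsProper (t.app j) := by
    rw [← show E.map (IsCofiltered.minToLeft j₁ j₂) ≫ t.app j₁ = t.app j from Over.w (D.map _)]
    haveI := hj₁
    infer_instance
  let p : Y ⟶ (D.obj j).left := e.inv.left ≫ (c.π.app j).left
  let g : (D.obj j).left ⟶ X := (D.obj j).hom
  haveI : IsProper g := ‹IsProper (t.app j)›
  haveI : IsClosedImmersion p := by
    haveI : IsIso e.inv.left := inferInstanceAs (IsIso ((Over.forget X).map e.inv))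
    haveI : IsClosedImmersion (c.π.app j).left := hπ j
    exact MorphismProperty.comp_mem _ _ _ (inferInstance : IsClosedImmersion e.inv.left) (inferInstance : IsClosedImmersion (c.π.app j).left)
  have hfac : p ≫ g = s := by
    simp only [p, g, Category.assoc]
    rw [Over.w]; exact Over.w e.inv
  refine ⟨_, g, p, inferInstance, hfac, (hD j).1, inferInstance, ?_⟩
  haveI : IsClosedImmersion (g ∣_ U) := hcl
  have : IsIso ((p ∣_ (g ⁻¹ᵁ U)) ≫ g ∣_ U) := by
    rw [← morphismRestrict_comp]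
    have key : ∀ f : Y ⟶ X, f = s → IsIso (f ∣_ U) := by rintro f rfl; infer_instance
    exact key _ hfac
  exact isIso_of_isClosedImmersion_comp (p ∣_ (g ⁻¹ᵁ U)) _

variable {I : Type u} [SmallCategory I] [IsCofiltered I] {D : I ⥤ Scheme.{u}} {c : Cone D}
  [∀ {i j : I} (t : i ⟶ j), IsAffineHom (D.map t)] [∀ i, CompactSpace (D.obj i)]

theorem exists_stage_isProper (hc : IsLimit c) {K : I} {Z₀ : Scheme.{u}} (h : Z₀ ⟶ D.obj K)
    [LocallyOfFiniteType h] [QuasiCompact h] [QuasiSeparated h] {Z : Scheme.{u}} {g : Z ⟶ c.pt} {q : Z ⟶ Z₀}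
    (sq : IsPullback q g h (c.π.app K)) [IsProper g] :
    ∃ (m : I) (φ : m ⟶ K), IsProper (pullback.snd h (D.map φ)) := by
  have hY : IsPullback (c.π.app K) (𝟙 c.pt) (𝟙 (D.obj K)) (c.π.app K) := IsPullback.id_vert _
  obtain ⟨m, φ, Xm, Ym, fm, gm, pY, pX, hYm, hXm, hfm⟩ :=
    H8Lim.descends_isProper.exists_stage hc hY sq ‹LocallyOfFiniteType h› ‹IsProper g›
  haveI : IsIso gm := hYm.isIso_snd_of_isIso
  refine ⟨m, φ, H8Lim.prop_snd_of_isPullback (P := @IsProper) (a := h) (x := pX) (y := fm ≫ gm) ?_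
    (MorphismProperty.comp_mem _ _ _ hfm inferInstance)⟩
  have := hXm.paste_vert hYm
  rwa [Category.comp_id] at this

theorem exists_stage_isIso_restrict (hc : IsLimit c) {K : I} {Z₀ : Scheme.{u}} (h : Z₀ ⟶ D.obj K)
    [LocallyOfFinitePresentation h] [QuasiCompact h] [QuasiSeparated h] {Z : Scheme.{u}} {g : Z ⟶ c.pt} {q : Z ⟶ Z₀}
    (sq : IsPullback q g h (c.π.app K)) (U : (D.obj K).Opens) (hU : IsCompact (U : Set (D.obj K)))
    [IsIso (g ∣_ c.π.app K ⁻¹ᵁ U)] :
    ∃ (m : I) (φ : m ⟶ K), ∀ (n : I) (ψ : n ⟶ m),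
      IsIso (pullback.snd h (D.map (ψ ≫ φ)) ∣_ D.map (ψ ≫ φ) ⁻¹ᵁ U) := by
  haveI : CompactSpace U.toScheme := isCompact_iff_compactSpace.1 hU
  have hY : IsPullback (c.π.app K ∣_ U) (c.π.app K ⁻¹ᵁ U).ι U.ι (c.π.app K) :=
    isPullback_morphismRestrict _ U
  have hX := isPullback_restrict sq U
  obtain ⟨m, φ, Xm, Ym, fm, gm, pY, pX, hYm, hXm, hfm⟩ :=
    H8Lim.descends_isIso.exists_stage hc hY hX (inferInstanceAs (LocallyOfFinitePresentation (h ∣_ U)))
      ‹IsIso (g ∣_ c.π.app K ⁻¹ᵁ U)›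
  refine ⟨m, φ, fun n ψ => ?_⟩
  let V := D.map (ψ ≫ φ) ⁻¹ᵁ U
  let hn := pullback.snd h (D.map (ψ ≫ φ))
  let e : V.toScheme ⟶ Ym := hYm.lift (D.map (ψ ≫ φ) ∣_ U) (V.ι ≫ D.map ψ) (by
    rw [Category.assoc, ← D.map_comp]; exact morphismRestrict_ι _ _)
  have he : e ≫ pY = D.map (ψ ≫ φ) ∣_ U := hYm.lift_fst _ _ _
  have big := isPullback_restrict (IsPullback.of_hasPullback h (D.map (ψ ≫ φ))) U
  rw [← he] at big
  let a := hXm.lift ((pullback.fst h (D.map (ψ ≫ φ))).resLE _ _ (by rw [← Scheme.Hom.comp_preimage, ← pullback.condition, Scheme.Hom.comp_preimage])) (hn ∣_ V ≫ e) (by rw [Category.assoc]; exact big.w)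
  have : IsPullback a (hn ∣_ V) fm e :=
    IsPullback.of_right (by rw [hXm.lift_fst]; exact big) (hXm.lift_snd _ _ _) hXm
  exact MorphismProperty.of_isPullback (P := MorphismProperty.isomorphisms Scheme.{u}) this hfm

/-- Abstract admissible blow-ups of a limit of modulus pairs descend. -/
theorem exists_descend_admBlowup {I : Type u} [SmallCategory I] [IsCofiltered I] (D : I ⥤ Scheme.{u})
    (c : Cone D) (hc : IsLimit c) [∀ (i j : I) (t : i ⟶ j), IsAffineHom (D.map t)]
    [∀ i, CompactSpace (D.obj i)] [∀ i, QuasiSeparatedSpace (D.obj i)]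
    (J : ∀ i, (D.obj i).IdealSheafData) (hJ : ∀ i, BlowUp.IsEffCartierIdeal (J i))
    (hmin : ∀ (i j : I) (t : i ⟶ j), ModPair.IsMinimal (J i) (J j) (D.map t))
    (IX : c.pt.IdealSheafData) (hIX : ∀ i, IX = (J i).comap (c.π.app i))
    {Y : Scheme.{u}} (s : Y ⟶ c.pt) (hY : BlowUp.IsEffCartierIdeal (IX.comap s))
    (hs : ModPair.IsAdmBlowup (IX.comap s) IX s) :
    ∃ (i : I) (Yi : Scheme.{u}) (IYi : Yi.IdealSheafData) (si : Yi ⟶ D.obj i),
      BlowUp.IsEffCartierIdeal IYi ∧ ModPair.IsAdmBlowup IYi (J i) si ∧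
        ∃ e : Y ≅ ModPair.mprod (c.π.app i) si IX IYi,
          e.hom ≫ ModPair.mprodι (c.π.app i) si IX IYi ≫ pullback.fst (c.π.app i) si = s := by
  classical
  haveI : ∀ {i j : I} (t : i ⟶ j), IsAffineHom (D.map t) := fun t => inferInstance
  haveI : CompactSpace c.pt := Scheme.compactSpace_of_isLimit D c hc
  obtain ⟨i₀⟩ := IsCofiltered.nonempty (C := I)
  haveI : IsAffineHom (c.π.app i₀) := isAffineHom_π_app D c hc i₀
  haveI : QuasiSeparatedSpace c.pt := quasiSeparatedSpace_of_quasiSeparated (c.π.app i₀)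
  obtain ⟨-, hprop, hiso⟩ := hs
  haveI := hprop
  have hX : BlowUp.IsEffCartierIdeal (IX.comap s) := hY
  have hUX : ∀ i, c.π.app i ⁻¹ᵁ ModPair.interior (J i) = ModPair.interior IX := fun i => by
    rw [hIX i, interior_comap]
  haveI hJa : ∀ i, IsAffineHom (ModPair.interior (J i)).ι := fun i => isAffineHom_interior (hJ i)
  have hJc : ∀ i, IsCompact (ModPair.interior (J i) : Set (D.obj i)) := fun i =>
    isCompact_iff_compactSpace.2 (QuasiCompact.compactSpace_of_compactSpace (ModPair.interior (J i)).ι)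
  haveI : IsAffineHom (ModPair.interior IX).ι := hUX i₀ ▸ isAffineHom_preimage (c.π.app i₀) _
  have hUc : IsCompact (ModPair.interior IX : Set c.pt) :=
    isCompact_iff_compactSpace.2 (QuasiCompact.compactSpace_of_compactSpace (ModPair.interior IX).ι)
  haveI := hiso
  obtain ⟨Z, g, ι, hι, hιg, hgfp, hgp, hgiso⟩ := exists_fp_proper_iso (ModPair.interior IX) hUc s
  haveI := hι; haveI := hgfp; haveI := hgp; haveI := hgiso
  obtain ⟨K, Z₀, h, q, hfp, hqc, hqs, sq⟩ := H8Lim.exists_stage_scheme hc g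
  haveI := hfp; haveI := hqc; haveI := hqs
  haveI : IsIso (g ∣_ c.π.app K ⁻¹ᵁ ModPair.interior (J K)) := by rw [hUX K]; exact hgiso
  obtain ⟨m₂, φ₂, hm₂⟩ := exists_stage_isIso_restrict hc h sq (ModPair.interior (J K)) (hJc K)
  obtain ⟨m₁, φ₁, hm₁⟩ := exists_stage_isProper hc h sq
  obtain ⟨m, ψ₁, ψ₂, hψ⟩ : ∃ (m : I) (ψ₁ : m ⟶ m₁) (ψ₂ : m ⟶ m₂), ψ₁ ≫ φ₁ = ψ₂ ≫ φ₂ := by
    obtain ⟨m, a, b, hab⟩ := IsCofiltered.cospan φ₁ φ₂
    exact ⟨m, a, b, hab⟩
  let φ := ψ₂ ≫ φ₂
  let hm := pullback.snd h (D.map φ)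
  haveI : IsProper hm := by
    haveI := hm₁
    let a : pullback h (D.map φ) ⟶ pullback h (D.map φ₁) :=
      pullback.lift (pullback.fst _ _) (pullback.snd _ _ ≫ D.map ψ₁)
        (by rw [Category.assoc, ← D.map_comp, hψ, pullback.condition])
    have : IsPullback a hm (pullback.snd h (D.map φ₁)) (D.map ψ₁) := by
      refine IsPullback.of_right ?_ (pullback.lift_snd _ _ _) (IsPullback.of_hasPullback h (D.map φ₁))
      rw [pullback.lift_fst, ← D.map_comp, hψ]
      exact IsPullback.of_hasPullback h (D.map φ)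
    exact MorphismProperty.of_isPullback (P := @IsProper) this inferInstance
  have hVm : D.map φ ⁻¹ᵁ ModPair.interior (J K) = ModPair.interior (J m) := by
    rw [show J m = (J K).comap (D.map φ) from hmin m K φ, interior_comap]
  haveI hisoM : IsIso (hm ∣_ ModPair.interior (J m)) := hVm ▸ hm₂ m ψ₂
  let U := hm ⁻¹ᵁ ModPair.interior (J m)
  haveI : IsAffineHom U.ι := isAffineHom_preimage hm _
  let si : U.ι.image ⟶ D.obj m := U.ι.imageι ≫ hm
  have hIYi : BlowUp.IsEffCartierIdeal ((J m).comap si) :=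
    isEffCartier_comap_of_dense (hJ m) si (isDenseOpen_closure U)
  have hadm : ModPair.IsAdmBlowup ((J m).comap si) (J m) si := by
    refine ⟨rfl, MorphismProperty.comp_mem @IsProper _ _ inferInstance inferInstance, ?_⟩
    rw [morphismRestrict_comp]
    exact @IsIso.comp_isIso _ _ _ _ _ _ _ (isIso_closure_restrict U) hisoM
  refine ⟨m, _, (J m).comap si, si, hIYi, hadm, ?_⟩
  haveI : IsAffineHom (ModPair.interior (IX.comap s)).ι := isAffineHom_interior hX
  have hYd := isDenseOpen_interior hX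
  -- the map `Y ⟶ U.ι.image`
  let qm : Z ⟶ pullback h (D.map φ) := pullback.lift q (g ≫ c.π.app m)
    (by rw [Category.assoc, c.w]; exact sq.w)
  have sqm : IsPullback qm g hm (c.π.app m) := by
    refine IsPullback.of_right ?_ (pullback.lift_snd _ _ _) (IsPullback.of_hasPullback h (D.map φ))
    rw [pullback.lift_fst, c.w]
    exact sq
  have hland : ∀ {T : Scheme.{u}} (b : T ⟶ c.pt) (V : T.Opens), V ≤ b ⁻¹ᵁ ModPair.interior IX →
      V ≤ b ⁻¹ᵁ c.π.app m ⁻¹ᵁ ModPair.interior (J m) := fun b V hV => by rwa [hUX m]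
  obtain ⟨y₂, hy₂⟩ : ∃ y₂ : Y ⟶ U.ι.image, y₂ ≫ U.ι.imageι = ι ≫ qm := by
    refine exists_lift_of_dense _ _ hYd
      (IsOpenImmersion.lift U.ι ((ModPair.interior (IX.comap s)).ι ≫ ι ≫ qm) ?_ ≫ U.ι.toImage) ?_
    · rw [Scheme.Opens.range_ι]
      rintro _ ⟨z, rfl⟩
      show hm (qm (ι z.1)) ∈ ModPair.interior (J m)
      rw [← Scheme.Hom.comp_apply qm, sqm.w, ← Scheme.Hom.comp_apply ι, ← Category.assoc, hιg]
      exact hland s (ModPair.interior (IX.comap s)) (interior_comap IX s).le z.2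
    · rw [Category.assoc, Scheme.Hom.toImage_imageι, IsOpenImmersion.lift_fac]
  have hw : s ≫ c.π.app m = y₂ ≫ si := by
    rw [← Category.assoc y₂, hy₂, Category.assoc, sqm.w, ← Category.assoc ι, hιg]
  let y : Y ⟶ pullback (c.π.app m) si := pullback.lift s y₂ hw
  obtain ⟨E, hE⟩ : ∃ E : Y ⟶ ModPair.mprod (c.π.app m) si IX ((J m).comap si),
      E ≫ ModPair.mprodι (c.π.app m) si IX ((J m).comap si) = y := by
    refine exists_lift_mprod y hYd fun z hz => ?_
    have h1 : s z ∈ ModPair.interior IX := (interior_comap IX s).le hz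
    refine ⟨show (pullback.fst (c.π.app m) si : _ ⟶ _) (y z) ∈ ModPair.interior IX from ?_,
      show (pullback.snd (c.π.app m) si : _ ⟶ _) (y z) ∈ ModPair.interior ((J m).comap si) from ?_⟩
    · rwa [← Scheme.Hom.comp_apply, pullback.lift_fst]
    · rw [← Scheme.Hom.comp_apply, pullback.lift_snd, interior_comap]
      show si (y₂ z) ∈ ModPair.interior (J m)
      rw [← Scheme.Hom.comp_apply, ← hw]
      exact hland s _ le_rfl h1
  -- the map back
  let μ := ModPair.mprodι (c.π.app m) si IX ((J m).comap si)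
  let b := μ ≫ pullback.fst _ _
  let cz := sqm.lift (μ ≫ pullback.snd _ _ ≫ U.ι.imageι) b (by
    simp only [b, Category.assoc, pullback.condition]; rfl)
  have hXeff : BlowUp.IsEffCartierIdeal IX := hIX i₀ ▸ S18744.result D c hc J hJ hmin i₀
  let W₀ := b ⁻¹ᵁ ModPair.interior IX
  haveI : IsAffineHom W₀.ι := isAffineHom_preimage b _
  have hW₀ : IsDenseOpen W₀ := by
    show IsDenseOpen ((μ ≫ pullback.fst _ _) ⁻¹ᵁ ModPair.interior IX)
    exact (isDenseOpen_mprod hXeff hIYi).mono (Scheme.Hom.preimage_mono _ inf_le_left)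
  obtain ⟨k₂, hk₂⟩ : ∃ k₂ : W₀.toScheme ⟶ Y, k₂ ≫ ι = W₀.ι ≫ cz := by
    refine ⟨b ∣_ ModPair.interior IX ≫ inv (s ∣_ ModPair.interior IX) ≫ (s ⁻¹ᵁ ModPair.interior IX).ι, ?_⟩
    let a := IsOpenImmersion.lift (g ⁻¹ᵁ ModPair.interior IX).ι (W₀.ι ≫ cz) (by
      rw [Scheme.Opens.range_ι]
      rintro _ ⟨z, rfl⟩
      show g (cz z.1) ∈ ModPair.interior IX
      rw [← Scheme.Hom.comp_apply, sqm.lift_snd]
      exact z.2)
    let a' := b ∣_ ModPair.interior IX ≫ inv (s ∣_ ModPair.interior IX) ≫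
      ι.resLE (g ⁻¹ᵁ ModPair.interior IX) (s ⁻¹ᵁ ModPair.interior IX)
        (by rw [← Scheme.Hom.comp_preimage, hιg])
    have key : a' = a := by
      rw [← cancel_mono (g ∣_ ModPair.interior IX), ← cancel_mono (ModPair.interior IX).ι]
      simp only [a, a', Category.assoc, morphismRestrict_ι, Scheme.Hom.resLE_comp_ι_assoc, hιg,
        IsOpenImmersion.lift_fac_assoc, sqm.lift_snd, cz]
      rw [← morphismRestrict_ι s, IsIso.inv_hom_id_assoc, morphismRestrict_ι]
    have := congrArg (· ≫ (g ⁻¹ᵁ ModPair.interior IX).ι) key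
    simp only [a, a', Category.assoc, Scheme.Hom.resLE_comp_ι, IsOpenImmersion.lift_fac] at this ⊢
    exact this
  obtain ⟨E', hE'⟩ := exists_lift_of_dense ι cz hW₀ k₂ hk₂
  have hE's : E' ≫ s = b := by rw [← hιg, ← Category.assoc, hE', sqm.lift_snd]
  refine ⟨⟨E, E', ?_, ?_⟩, ?_⟩
  · rw [← cancel_mono ι, Category.assoc, hE', Category.id_comp]
    apply sqm.hom_ext
    · rw [Category.assoc, sqm.lift_fst, ← Category.assoc E, hE, ← Category.assoc y, pullback.lift_snd, hy₂]
    · rw [Category.assoc, sqm.lift_snd]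
      simp only [b, μ]
      rw [← Category.assoc E, hE, pullback.lift_fst, hιg]
  · rw [← cancel_mono μ, Category.assoc, hE, Category.id_comp]
    apply pullback.hom_ext
    · rw [Category.assoc, pullback.lift_fst, hE's]
    · rw [Category.assoc, pullback.lift_snd, ← cancel_mono U.ι.imageι, Category.assoc, Category.assoc, hy₂,
        ← Category.assoc E', hE', sqm.lift_fst]
  · show E ≫ ModPair.mprodι _ _ _ _ ≫ _ = s
    rw [← Category.assoc, hE, pullback.lift_fst]

end Groth.Agent.ModPair23
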