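import Groth.Agent.S2078
import Mathlib.AlgebraicGeometry.AffineTransitionLimit
import Mathlib.AlgebraicGeometry.Morphisms.SchemeTheoreticallyDominant

/-!
# Morphisms out of limits with dominant transitions
-/

set_option autoImplicit false
set_option linter.style.haveILetI false
set_option backward.isDefEq.respectTransparency.types false

universe u

open CategoryTheory CategoryTheory.Limits AlgebraicGeometry TopologicalSpace

namespace Groth.Agent.ModPair23

theorem isSTD_π {I : Type u} [SmallCategory I] [IsCofiltered I] (E : I ⥤ Scheme.{u}) (c : Cone E) (hc : IsLimit c)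
    [∀ {i j : I} (t : i ⟶ j), IsAffineHom (E.map t)] (h : ∀ (i j : I) (t : i ⟶ j), IsSchemeTheoreticallyDominant (E.map t))
    [∀ i, CompactSpace (E.obj i)] [∀ i, QuasiSeparatedSpace (E.obj i)] (i : I) :
    IsSchemeTheoreticallyDominant (c.π.app i) := by
  haveI := isAffineHom_π_app _ _ hc i
  rw [isSchemeTheoreticallyDominant_iff, ← le_bot_iff]
  intro W s hs
  rw [Scheme.IdealSheafData.ideal_bot, Pi.bot_apply, Ideal.mem_bot]
  rw [Scheme.Hom.ker_apply, RingHom.mem_ker] at hs
  obtain ⟨j, t, ht⟩ := exists_app_map_eq_zero_of_isLimit E c hc (U := W.1) W.2.isCompact s hs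
  haveI := h j i t
  exact (E.map t).app_injective W.1 (ht.trans (map_zero _).symm)

theorem hom_colimit_bijective {S : Scheme.{u}} [QuasiSeparatedSpace S] {I : Type u} [SmallCategory I]
    [IsCofiltered I] (D : I ⥤ Over S) (c : Cone D) (hc : IsLimit c)
    [∀ (i j : I) (t : i ⟶ j), IsAffineHom (D.map t).left]
    (hdom : ∀ (i j : I) (t : i ⟶ j), IsSchemeTheoreticallyDominant (D.map t).left)
    [∀ i, CompactSpace (D.obj i).left] [∀ i, QuasiSeparatedSpace (D.obj i).left]
    (Y : Over S) [CompactSpace Y.left] [QuasiSeparatedSpace Y.left] [LocallyOfFiniteType Y.hom] :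
    (∀ φ : c.pt ⟶ Y, ∃ (i : I) (φi : D.obj i ⟶ Y), c.π.app i ≫ φi = φ) ∧
      ∀ (i : I) (φ ψ : D.obj i ⟶ Y), c.π.app i ≫ φ = c.π.app i ≫ ψ →
        ∃ (j : I) (t : j ⟶ i), D.map t ≫ φ = D.map t ≫ ψ := by
  let E := D ⋙ Over.forget S
  let C := (Over.forget S).mapCone c
  have hC : IsLimit C := isLimitOfPreserves (Over.forget S) hc
  haveI : ∀ {i j : I} (t : i ⟶ j), IsAffineHom (E.map t) := fun {i j} t => inferInstanceAs (IsAffineHom (D.map t).left)
  haveI : ∀ i, CompactSpace (E.obj i) := fun i => inferInstanceAs (CompactSpace (D.obj i).left)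
  haveI : ∀ i, QuasiSeparatedSpace (E.obj i) := fun i => inferInstanceAs (QuasiSeparatedSpace (D.obj i).left)
  let τ : E ⟶ (Functor.const I).obj S :=
    { app := fun i => (D.obj i).hom
      naturality := fun i j t => by
        show (D.map t).left ≫ (D.obj j).hom = (D.obj i).hom ≫ 𝟙 S
        rw [Category.comp_id]; exact Over.w (D.map t) }
  refine ⟨fun φ => ?_, fun i φ ψ h => ?_⟩
  · obtain ⟨Y', f', j, hf', -, -, hj, hjf⟩ := S2078.result Y.hom
    haveI := hf'; haveI := hj
    obtain ⟨i, g, hg, hgf⟩ := Scheme.exists_π_app_comp_eq_of_locallyOfFinitePresentation E τ f' C hC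
      (φ.left ≫ j) (by
        ext i
        show (c.π.app i).left ≫ (D.obj i).hom = (φ.left ≫ j) ≫ f'
        rw [Category.assoc, hjf, Over.w φ]
        exact Over.w (c.π.app i))
    haveI := isSTD_π E C hC (fun a b t => hdom a b t) i
    haveI : IsAffineHom (C.π.app i) := isAffineHom_π_app _ _ hC i
    have hker : j.ker ≤ g.ker := by
      refine (Scheme.Hom.le_ker_comp φ.left j).trans
        (le_of_eq ((congrArg Scheme.Hom.ker hg).symm.trans ?_))
      rw [Scheme.Hom.ker_comp, Scheme.Hom.ker_eq_bot (C.π.app i), Scheme.IdealSheafData.map_bot]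
    refine ⟨i, Over.homMk (IsClosedImmersion.lift j g hker) ?_, Over.OverMorphism.ext ?_⟩
    · rw [← hjf]
      exact (IsClosedImmersion.lift_fac_assoc j g hker f').trans hgf
    · show (c.π.app i).left ≫ IsClosedImmersion.lift j g hker = φ.left
      rw [← cancel_mono j, Category.assoc, IsClosedImmersion.lift_fac]
      exact hg
  · obtain ⟨k, t, ht⟩ := Scheme.exists_hom_comp_eq_comp_of_locallyOfFiniteType E τ Y.hom C hC φ.left ψ.left
      (Over.w φ).symm (Over.w ψ).symm (congrArg CommaMorphism.left h)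
    exact ⟨k, t, Over.OverMorphism.ext ht⟩

end Groth.Agent.ModPair23
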