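import Groth.Agent.ModPair23.ValLocal
import Groth.Agent.HenselLib.EtRetr
import Groth.Agent.HenselLib.WLocAtPoint
import Groth.Agent.ProEtWC.LiftHom
import Groth.Agent.Et18.NeronSections

/-!
# Modulus pairs local for étale coverings
-/

set_option autoImplicit false
set_option linter.style.haveILetI false
set_option backward.isDefEq.respectTransparency.types false

universe u

open CategoryTheory CategoryTheory.Limits AlgebraicGeometry TopologicalSpace ModPair Polynomial

namespace Groth.Agent.ModPair23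

/-- Every morphism out of `P` factors through a member of every étale covering. -/
abbrev EtLocal (P : ModPair.Pair.{u}) : Prop :=
  ∀ (X : ModPair.Pair.{u}) (ι : Type u) (U : ι → ModPair.Pair.{u}) (v : ∀ i, U i ⟶ X),
    (∀ i, ModPair.IsMinimal (U i).mod X.mod (v i).hom ∧ Etale (v i).hom ∧
      QuasiCompact (v i).hom ∧ QuasiSeparated (v i).hom) →
    (∀ x : X.total, ∃ (i : ι) (y : (U i).total), (v i).hom.base y = x) →
    ∀ g : P ⟶ X, ∃ (i : ι) (h : P ⟶ U i), h ≫ v i = g

theorem EtLocal.zarLocal {P : ModPair.Pair.{u}} (h : EtLocal P) : ZarLocal P :=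
  fun X ι U v hv hc g => h X ι U v (fun i => by
    haveI := (hv i).2.1
    exact ⟨(hv i).1, inferInstance, (hv i).2.2, inferInstance⟩) hc g

theorem strictlyHenselian_of_etLocal {P : ModPair.Pair.{u}} [IsAffine P.total] [IsLocalRing Γ(P.total, ⊤)]
    (h : EtLocal P) : EtCoh.IsStrictlyHenselianLocalRing Γ(P.total, ⊤) := by
  have hr : ProEtW.HasEtaleRetractions Γ(P.total, ⊤) := by
    intro B _ _ hff het
    let e := P.total.isoSpec
    let b : Spec (CommRingCat.of B) ⟶ Spec Γ(P.total, ⊤) := Spec.map (CommRingCat.ofHom (algebraMap Γ(P.total, ⊤) B))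
    haveI : Etale b := by
      rw [HasRingHomProperty.Spec_iff (P := @Etale)]
      exact RingHom.etale_algebraMap.mpr het
    let U : ModPair.Pair.{u} := ⟨Spec (CommRingCat.of B), P.mod.comap (b ≫ e.inv),
      SDiv28.isEffCartier_comap_of_flat P.isEffCartier (b ≫ e.inv)⟩
    let v : U ⟶ P := ⟨b ≫ e.inv, le_rfl⟩
    obtain ⟨-, k, hk⟩ := h P PUnit.{u + 1} (fun _ => U) (fun _ => v)
      (fun _ => ⟨rfl, inferInstanceAs (Etale (b ≫ e.inv)),
        quasiCompact_of_compactSpace (b ≫ e.inv), inferInstanceAs (QuasiSeparated (b ≫ e.inv))⟩)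
      (fun x => by
        obtain ⟨y, hy⟩ := PrimeSpectrum.comap_surjective_of_faithfullyFlat (A := Γ(P.total, ⊤)) (B := B) (e.hom x)
        refine ⟨PUnit.unit, y, ?_⟩
        show e.inv (b y) = x
        rw [show b y = e.hom x from hy, ← Scheme.Hom.comp_apply, e.hom_inv_id]
        rfl)
      (𝟙 P)
    have hk' : k.hom ≫ b ≫ e.inv = 𝟙 _ := congrArg ModPair.Pair.Hom.hom hk
    obtain ⟨φ, hφ⟩ := Spec.map_surjective (e.inv ≫ k.hom)
    have : CommRingCat.ofHom (algebraMap Γ(P.total, ⊤) B) ≫ φ = 𝟙 _ := Spec.map_injective (by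
      rw [Spec.map_comp, hφ, Spec.map_id, ← cancel_mono e.inv, Category.assoc, Category.assoc, hk']
      exact (Category.comp_id _).trans (Category.id_comp _).symm)
    exact ⟨{ φ.hom with commutes' := fun a => ConcreteCategory.congr_hom this a }⟩
  exact HenselLib.WLoc.strictlyHenselian_of_equiv
    (IsLocalization.atUnits Γ(P.total, ⊤) (IsLocalRing.maximalIdeal Γ(P.total, ⊤)).primeCompl
      (S := Localization.AtPrime (IsLocalRing.maximalIdeal Γ(P.total, ⊤)))
      (fun x hx => IsLocalRing.notMem_maximalIdeal.1 hx)).symm.toRingEquiv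
    (let h' := HenselLib.EtRetr.strictlyHenselian_atPrime hr _; ⟨h'.1, h'.2⟩)

theorem henselian_away {A : Type u} [CommRing A] [HenselianLocalRing A] (f : A) (hfn : f ∈ nonZeroDivisors A)
    (q : Ideal A) [q.IsPrime] (hfq : f ∉ q) (H : ∀ a ∉ q, ∃ n : ℕ, a ∣ f ^ n)
    (hbij : Set.BijOn (algebraMap A (Localization.AtPrime q)) (q : Set A)
      (IsLocalRing.maximalIdeal (Localization.AtPrime q) : Set (Localization.AtPrime q)))
    (B : Type u) [CommRing B] [Algebra A B] [IsLocalization.Away f B] [IsLocalRing B] :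
    HenselianLocalRing B := by
  let φ := algebraMap A B
  have hunit : ∀ a ∉ q, IsUnit (φ a) := fun a ha => by
    obtain ⟨n, c, hc⟩ := H a ha
    refine isUnit_of_mul_isUnit_left (y := φ c) ?_
    rw [← map_mul, ← hc, map_pow]
    exact (IsLocalization.Away.algebraMap_isUnit f).pow n
  have hM : ∀ x ∈ IsLocalRing.maximalIdeal B, ∃ z ∈ q, φ z = x := fun x hx => by
    obtain ⟨a, ⟨_, n, rfl⟩, rfl⟩ := IsLocalization.exists_mk'_eq (Submonoid.powers f) x
    have ha : a ∈ q := by
      by_contra ha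
      refine (IsLocalRing.notMem_maximalIdeal.2 (hunit a ha)) ?_
      rw [← IsLocalization.mk'_spec B a (⟨f ^ n, n, rfl⟩ : Submonoid.powers f)]
      exact Ideal.mul_mem_right _ _ hx
    obtain ⟨z, hzq, hz⟩ := hbij.surjOn ((IsLocalization.AtPrime.mk'_mem_maximal_iff (Localization.AtPrime q) q a
      ⟨f ^ n, fun h => hfq (‹q.IsPrime›.mem_of_pow_mem n h)⟩).2 ha)
    rw [eq_comm, IsLocalization.mk'_eq_iff_eq_mul, ← map_mul, IsLocalization.eq_iff_exists q.primeCompl] at hz
    obtain ⟨⟨c, hc⟩, hcz⟩ := hz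
    obtain ⟨m, d, hd⟩ := H c hc
    refine ⟨z, hzq, ?_⟩
    rw [eq_comm, IsLocalization.mk'_eq_iff_eq_mul, ← map_mul]
    congr 1
    refine (mul_cancel_left_mem_nonZeroDivisors (pow_mem hfn m)).1 ?_
    rw [hd, mul_right_comm c d a, mul_right_comm c d, show c * a = c * (z * f ^ n) from hcz]
  have hqm : ∀ z ∈ q, z ∈ IsLocalRing.maximalIdeal A := fun z hz =>
    IsLocalRing.le_maximalIdeal (‹q.IsPrime›.ne_top) hz
  refine { is_henselian := fun g hg a₀ h1 h2 => ?_ }
  set h := Polynomial.taylor a₀ g with hh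
  obtain ⟨u', hu'⟩ := h2
  have hc0 : h.coeff 0 = g.eval a₀ := by rw [hh, Polynomial.taylor_coeff_zero]
  have hc1 : h.coeff 1 = (u' : B) := by rw [hh, Polynomial.taylor_coeff_one, hu']
  set t : B := h.coeff 0 * (↑u'⁻¹ : B) with ht
  have htu : t * (u' : B) = h.coeff 0 := by rw [ht, mul_assoc, Units.inv_mul, mul_one]
  have htM : t ∈ IsLocalRing.maximalIdeal B := Ideal.mul_mem_right _ _ (hc0 ▸ h1)
  set n := h.natDegree
  choose d hdq hd using fun i : ℕ => hM (h.coeff (i + 2) * t ^ (i + 1) * (↑u'⁻¹ : B))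
    (Ideal.mul_mem_right _ _ (Ideal.mul_mem_left _ _ (Ideal.pow_mem_of_mem _ htM _ i.succ_pos)))
  let S : A[X] := ∑ i ∈ Finset.range (n + 1), Polynomial.C (d i) * X ^ (n - i)
  let P : A[X] := X ^ (n + 2) + (X ^ (n + 1) + S)
  have hP : P.Monic := by
    refine Polynomial.monic_X_pow_add (lt_of_le_of_lt (Polynomial.degree_add_le _ _) (max_lt ?_ ?_))
    · rw [Polynomial.degree_X_pow]; exact_mod_cast Nat.lt_succ_self (n + 1)
    · refine lt_of_le_of_lt (Polynomial.degree_sum_le _ _) ((Finset.sup_lt_iff ?_).2 fun i _ => ?_)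
      · exact WithBot.bot_lt_coe _
      · refine lt_of_le_of_lt (Polynomial.degree_C_mul_X_pow_le _ _) ?_
        exact_mod_cast (by omega : n - i < n + 2)
  have hSm : ∀ x : A, S.eval x ∈ IsLocalRing.maximalIdeal A := fun x => by
    rw [Polynomial.eval_finsetSum]
    refine Ideal.sum_mem _ fun i _ => ?_
    rw [Polynomial.eval_mul, Polynomial.eval_C]
    exact Ideal.mul_mem_right _ _ (hqm _ (hdq i))
  have hSdm : ∀ x : A, S.derivative.eval x ∈ IsLocalRing.maximalIdeal A := fun x => by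
    rw [Polynomial.derivative_sum, Polynomial.eval_finsetSum]
    refine Ideal.sum_mem _ fun i _ => ?_
    rw [Polynomial.derivative_C_mul, Polynomial.eval_mul, Polynomial.eval_C]
    exact Ideal.mul_mem_right _ _ (hqm _ (hdq i))
  obtain ⟨v, hv, hv1⟩ := HenselianLocalRing.is_henselian P hP (-1) (by
    simp only [P, Polynomial.eval_add, Polynomial.eval_pow, Polynomial.eval_X]
    rw [← add_assoc, show (-1 : A) ^ (n + 2) + (-1) ^ (n + 1) = 0 from by ring, zero_add]
    exact hSm _) (by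
    simp only [P, Polynomial.derivative_add, Polynomial.eval_add, Polynomial.derivative_X_pow,
      Polynomial.eval_mul, Polynomial.eval_pow, Polynomial.eval_X, Polynomial.eval_C]
    by_contra hcon
    have h3 := Ideal.sub_mem _ ((IsLocalRing.mem_maximalIdeal _).2 hcon) (hSdm (-1))
    refine (IsLocalRing.notMem_maximalIdeal (x := (-1 : A) ^ (n + 1))).2 ((isUnit_one.neg).pow (n + 1)) ?_
    convert h3 using 1
    simp only [show n + 2 - 1 = n + 1 from rfl, show n + 1 - 1 = n from rfl]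
    push_cast
    ring)
  have hvu : IsUnit v := by
    refine IsLocalRing.notMem_maximalIdeal.1 fun hv0 => (IsLocalRing.notMem_maximalIdeal (x := (1 : A))).2 isUnit_one ?_
    convert Ideal.sub_mem _ hv1 hv0 using 1
    ring
  obtain ⟨w, hw⟩ := hvu.exists_right_inv
  have key : (1 : A) + w + ∑ i ∈ Finset.range (n + 1), d i * w ^ (i + 2) = 0 := by
    have h0 : v ^ (n + 2) + (v ^ (n + 1) + ∑ i ∈ Finset.range (n + 1), d i * v ^ (n - i)) = 0 := by
      have := hv.eq_zero
      simpa [P, S, Polynomial.eval_finsetSum] using this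
    have hwv : (w ^ (n + 2)) * v ^ (n + 2) = 1 := by rw [← mul_pow, mul_comm w, hw, one_pow]
    have h1' : w ^ (n + 2) * v ^ (n + 1) = w := by
      rw [pow_succ', mul_assoc, ← mul_pow, mul_comm w v, hw, one_pow, mul_one]
    have h2' : ∀ i ∈ Finset.range (n + 1), w ^ (n + 2) * (d i * v ^ (n - i)) = d i * w ^ (i + 2) := fun i hi => by
      rw [show n + 2 = (n - i) + (i + 2) from by rw [Finset.mem_range] at hi; omega, pow_add]
      calc w ^ (n - i) * w ^ (i + 2) * (d i * v ^ (n - i))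
          = (v * w) ^ (n - i) * (d i * w ^ (i + 2)) := by ring
        _ = _ := by rw [hw, one_pow, one_mul]
    rw [← mul_zero (w ^ (n + 2)), ← h0, mul_add, mul_add, hwv, h1', Finset.mul_sum, Finset.sum_congr rfl h2',
      add_assoc]
  refine ⟨t * φ w + a₀, ?_, ?_⟩
  · have he : h.eval (t * φ w) = 0 := by
      rw [Polynomial.eval_eq_sum_range' (show h.natDegree < n + 3 by omega),
        Finset.sum_range_succ' _ (n + 2), Finset.sum_range_succ' _ (n + 1)]
      have hi : ∀ i, h.coeff (i + 1 + 1) * (t * φ w) ^ (i + 1 + 1) = h.coeff 0 * φ (d i * w ^ (i + 2)) := fun i => by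
        rw [map_mul, map_pow, hd, ← htu]
        calc h.coeff (i + 2) * (t * φ w) ^ (i + 2)
            = h.coeff (i + 2) * (t * φ w) ^ (i + 2) * ((u' : B) * (↑u'⁻¹ : B)) := by rw [Units.mul_inv, mul_one]
          _ = _ := by ring
      rw [Finset.sum_congr rfl fun i _ => hi i, ← Finset.mul_sum, ← map_sum, zero_add, pow_one, pow_zero, mul_one, hc1,
        ← mul_assoc, mul_comm (u' : B) t, htu]
      calc _ = h.coeff 0 * φ (1 + w + ∑ i ∈ Finset.range (n + 1), d i * w ^ (i + 2)) := by
            rw [map_add, map_add, map_one]; ring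
        _ = 0 := by rw [key, map_zero, mul_zero]
    rwa [hh, Polynomial.taylor_eval] at he
  · rw [add_sub_cancel_right]
    exact Ideal.mul_mem_right _ _ htM

theorem henselian_interior {P : ModPair.Pair.{u}} [IsAffine P.total] [HenselianLocalRing Γ(P.total, ⊤)]
    [IsLocalRing Γ((ModPair.interior P.mod : Scheme.{u}), ⊤)]
    (f : Γ(P.total, ⊤)) (hfn : f ∈ nonZeroDivisors Γ(P.total, ⊤))
    (hU : ModPair.interior P.mod = P.total.basicOpen f) (q : Ideal Γ(P.total, ⊤)) [q.IsPrime] (hfq : f ∉ q)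
    (H : ∀ a ∉ q, ∃ n : ℕ, a ∣ f ^ n)
    (hbij : Set.BijOn (algebraMap Γ(P.total, ⊤) (Localization.AtPrime q)) (q : Set Γ(P.total, ⊤))
      (IsLocalRing.maximalIdeal (Localization.AtPrime q) : Set (Localization.AtPrime q))) :
    HenselianLocalRing Γ((ModPair.interior P.mod : Scheme.{u}), ⊤) := by
  haveI : IsLocalization.Away f Γ(P.total, P.total.basicOpen f) :=
    (isAffineOpen_top P.total).isLocalization_basicOpen f
  let e : Γ(P.total, P.total.basicOpen f) ≃+* Γ((ModPair.interior P.mod : Scheme.{u}), ⊤) :=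
    ((P.total.presheaf.mapIso (eqToIso (congrArg Opposite.op hU))).symm ≪≫
      (Scheme.Opens.topIso _).symm).commRingCatIsoToRingEquiv
  letI := (e.toRingHom.comp
    (algebraMap Γ(P.total, ⊤) Γ(P.total, P.total.basicOpen f))).toAlgebra
  haveI : IsLocalization.Away f Γ((ModPair.interior P.mod : Scheme.{u}), ⊤) :=
    IsLocalization.isLocalization_of_algEquiv (Submonoid.powers f) (AlgEquiv.ofRingEquiv (f := e) fun x => rfl)
  exact henselian_away f hfn q hfq H hbij _

theorem etLocal_of_strictlyHenselian {P : ModPair.Pair.{u}} [IsAffine P.total]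
    (hA : EtCoh.IsStrictlyHenselianLocalRing Γ(P.total, ⊤)) : EtLocal P := by
  obtain ⟨hh, hs⟩ := hA
  haveI := hh; haveI := hs
  intro X ι U v hv hcov g
  let e := P.total.isoSpec
  let c : Spec Γ(P.total, ⊤) := IsLocalRing.closedPoint Γ(P.total, ⊤)
  obtain ⟨i, y, hy⟩ := hcov ((e.inv ≫ g.hom) c)
  haveI := (hv i).2.1
  obtain ⟨x, hx⟩ : c ∈ Set.range (pullback.snd (v i).hom (e.inv ≫ g.hom)) := by
    rw [Scheme.Pullback.range_snd]; exact ⟨y, hy⟩
  obtain ⟨s, hs', -⟩ := Et18.NeronSections.exists_section_mem (R := Γ(P.total, ⊤))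
    (pullback.snd (v i).hom (e.inv ≫ g.hom)) ⊤ x trivial hx
  have hk : (e.hom ≫ s ≫ pullback.fst _ _) ≫ (v i).hom = g.hom := by
    rw [Category.assoc, Category.assoc, pullback.condition, ← Category.assoc s, hs']
    exact (congrArg (e.hom ≫ ·) (Category.id_comp _)).trans (e.hom_inv_id_assoc _)
  refine ⟨i, ⟨e.hom ≫ s ≫ pullback.fst _ _, ?_⟩, ModPair.Pair.Hom.ext hk⟩
  show P.mod ≤ (U i).mod.comap _
  rw [show (U i).mod = X.mod.comap (v i).hom from (hv i).1, ← Scheme.IdealSheafData.comap_comp, hk]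
  exact g.cond

end Groth.Agent.ModPair23
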