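import Groth.Agent.LocImm12.ZMT
import Groth.Agent.ModPairLib.MProd

/-!
# Finite extensions of finite covers of the interior
-/

set_option autoImplicit false
set_option linter.style.haveILetI false
set_option backward.isDefEq.respectTransparency.types false

universe u

open CategoryTheory AlgebraicGeometry TopologicalSpace

namespace Groth.Agent.ModPair23

theorem dense_of_isDenseOpen {X : Scheme.{u}} {U : X.Opens} (hU : ModPairLib.IsDenseOpen U) :
    Dense (U : Set X) := by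
  refine dense_iff_inter_open.2 fun W hW hne => ?_
  by_contra he
  have hb : ModPairLib.res (inf_le_left : (⟨W, hW⟩ : X.Opens) ⊓ U ≤ ⟨W, hW⟩) 1 = 0 := by
    have : ((⟨W, hW⟩ : X.Opens) ⊓ U) = ⊥ := Opens.ext (Set.not_nonempty_iff_eq_empty.1 he)
    haveI : Subsingleton Γ(X, (⟨W, hW⟩ : X.Opens) ⊓ U) := by rw [this]; infer_instance
    exact Subsingleton.elim _ _
  obtain ⟨x, hx⟩ := hne
  have h1 := hU _ _ hb
  have h2 := congrArg (X.presheaf.germ ⟨W, hW⟩ x hx).hom h1
  rw [map_one, map_zero] at h2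
  exact one_ne_zero h2

variable {S : Scheme.{u}} [CompactSpace S] [QuasiSeparatedSpace S]

theorem exists_finite_extension_of_dense (U : S.Opens) [IsAffineHom U.ι] (hd : ModPairLib.IsDenseOpen U)
    {T₀ : Scheme.{u}} (t₀ : T₀ ⟶ (U : Scheme.{u})) [IsFinite t₀] [Surjective t₀] :
    ∃ (T : Scheme.{u}) (t : T ⟶ S) (j : T₀ ⟶ T), IsFinite t ∧ Surjective t ∧
      ModPairLib.IsDenseOpen (t ⁻¹ᵁ U) ∧ IsOpenImmersion j ∧
      Set.range j.base = t.base ⁻¹' (U : Set S) ∧ j ≫ t = t₀ ≫ U.ι := by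
  haveI : LocallyQuasiFinite t₀ := inferInstance
  haveI : LocallyQuasiFinite U.ι := inferInstance
  haveI : LocallyQuasiFinite (t₀ ≫ U.ι) := MorphismProperty.comp_mem _ _ _ ‹LocallyQuasiFinite t₀› ‹LocallyQuasiFinite U.ι›
  obtain ⟨T', j', π, hj, hjc, hπ, hfac⟩ := LocImm12.exists_openImmersion_finite (t₀ ≫ U.ι)
  haveI := hj; haveI := hjc; haveI := hπ
  let t : j'.image ⟶ S := j'.imageι ≫ π
  haveI : IsOpenImmersion j'.toImage := inferInstance
  have hjt : j'.toImage ≫ t = t₀ ≫ U.ι := by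
    show j'.toImage ≫ j'.imageι ≫ π = _
    rw [Scheme.Hom.toImage_imageι_assoc, hfac]
  have hsub : ∀ z, j'.toImage z ∈ t ⁻¹ᵁ U := fun z => by
    show t (j'.toImage z) ∈ U
    rw [← Scheme.Hom.comp_apply, hjt]
    exact (t₀ z).2
  have hle : j'.toImage.opensRange ≤ t ⁻¹ᵁ U := by
    rintro _ ⟨z, rfl⟩
    exact hsub z
  have hdense : ModPairLib.IsDenseOpen (t ⁻¹ᵁ U) :=
    (ModPairLib.IsDenseOpen.of_hom _ (ModPairLib.ker_toImage j')).mono hle
  let l : T₀ ⟶ (t ⁻¹ᵁ U : Scheme.{u}) := IsOpenImmersion.lift (t ⁻¹ᵁ U).ι j'.toImage (by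
    rw [Scheme.Opens.range_ι]; rintro _ ⟨z, rfl⟩; exact hsub z)
  have hl : l ≫ (t ⁻¹ᵁ U).ι = j'.toImage := IsOpenImmersion.lift_fac _ _ _
  haveI : IsFinite l := by
    have e : l ≫ (t ∣_ U) = t₀ := by
      rw [← cancel_mono U.ι, Category.assoc, morphismRestrict_ι, ← Category.assoc, hl, hjt]
    haveI : IsFinite (l ≫ (t ∣_ U)) := e ▸ inferInstance
    exact IsFinite.of_comp l (t ∣_ U)
  have hrange : Set.range j'.toImage.base = t.base ⁻¹' (U : Set S) := by
    refine Set.Subset.antisymm ?_ fun x hx => ?_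
    · rintro _ ⟨z, rfl⟩
      exact hsub z
    · have hd : x ∈ closure (Set.range j'.toImage.base) := j'.toImage.denseRange x
      have hc : (⟨x, hx⟩ : (t ⁻¹ᵁ U : Scheme.{u})) ∈ closure (Set.range l.base) := by
        rw [(t ⁻¹ᵁ U).ι.isOpenEmbedding.isInducing.closure_eq_preimage_closure_image]
        show x ∈ closure _
        rw [← Set.range_comp]
        refine closure_mono ?_ hd
        rintro _ ⟨z, rfl⟩
        exact ⟨z, by rw [← hl]; rfl⟩
      rw [l.isClosedMap.isClosed_range.closure_eq] at hc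
      obtain ⟨z, hz⟩ := hc
      exact ⟨z, by rw [← hl]; exact congrArg Subtype.val hz⟩
  refine ⟨j'.image, t, j'.toImage, inferInstanceAs (IsFinite (j'.imageι ≫ π)), ⟨?_⟩,
    hdense, inferInstance, hrange, hjt⟩
  haveI : IsFinite t := inferInstanceAs (IsFinite (j'.imageι ≫ π))
  have hU : (U : Set S) ⊆ Set.range t.base := fun y hy => by
    obtain ⟨z, hz⟩ := t₀.surjective ⟨y, hy⟩
    exact ⟨j'.toImage z, ((Scheme.Hom.comp_apply j'.toImage t z).symm.trans
      (by rw [hjt]; exact congrArg Subtype.val hz))⟩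
  exact Set.range_eq_univ.1 (Set.eq_univ_of_univ_subset
    ((dense_of_isDenseOpen hd).closure_eq.ge.trans
      (closure_minimal hU t.isClosedMap.isClosed_range)))

theorem exists_finite_extension (I : S.IdealSheafData) (hI : BlowUp.IsEffCartierIdeal I) {T₀ : Scheme.{u}}
    (t₀ : T₀ ⟶ (ModPair.interior I : Scheme.{u})) [IsFinite t₀] [Surjective t₀] :
    ∃ (T : Scheme.{u}) (t : T ⟶ S) (j : T₀ ⟶ T), IsFinite t ∧ Surjective t ∧
      BlowUp.IsEffCartierIdeal (I.comap t) ∧ IsOpenImmersion j ∧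
      Set.range j.base = t.base ⁻¹' (ModPair.interior I : Set S) ∧
      j ≫ t = t₀ ≫ (ModPair.interior I).ι := by
  haveI := ModPairLib.isAffineHom_interior hI
  obtain ⟨T, t, j, h1, h2, h3, h4, h5, h6⟩ :=
    exists_finite_extension_of_dense (ModPair.interior I) (ModPairLib.isDenseOpen_interior hI) t₀
  exact ⟨T, t, j, h1, h2, ModPairLib.isEffCartier_comap_of_dense hI t h3, h4, h5, h6⟩

end Groth.Agent.ModPair23
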