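import Mathlib
import Groth.Prelude.Def_Curves

/-!
# Schemes local for Zariski and finite coverings
-/

set_option autoImplicit false
set_option linter.style.haveILetI false
set_option backward.isDefEq.respectTransparency.types false

universe u

open CategoryTheory CategoryTheory.Limits AlgebraicGeometry TopologicalSpace Polynomial

namespace Groth.Agent.ModPair23

theorem splits_aic {A : Type*} [CommRing A] (h : Curves.IsAIC A) : ∀ (n : ℕ) (p : A[X]), p.Monic →
    p.natDegree = n → ∃ s : Multiset A, p = (s.map fun r => X - C r).prod := by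
  intro n
  induction n with
  | zero => exact fun p hp hn => ⟨0, by simp [(hp.natDegree_eq_zero).1 hn]⟩
  | succ n ih =>
    intro p hp hn
    nontriviality A
    obtain ⟨r, hr⟩ := h p hp (by omega)
    obtain ⟨q, hq⟩ := dvd_iff_isRoot.2 hr
    have hqm : q.Monic := (monic_X_sub_C r).of_mul_monic_left (hq ▸ hp)
    have hqn : q.natDegree = n := by
      have := congrArg natDegree hq
      rw [(monic_X_sub_C r).natDegree_mul hqm, natDegree_X_sub_C, hn] at this
      omega
    obtain ⟨s, hs⟩ := ih q hqm hqn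
    exact ⟨r ::ₘ s, by rw [Multiset.map_cons, Multiset.prod_cons, ← hs, hq]⟩

theorem bijective_of_finite_aic {A B : Type*} [CommRing A] [CommRing B] [IsDomain B] [Algebra A B]
    [Module.Finite A B] (hinj : Function.Injective (algebraMap A B)) (h : Curves.IsAIC A) :
    Function.Bijective (algebraMap A B) := by
  refine ⟨hinj, fun b => ?_⟩
  obtain ⟨p, hp, hpb⟩ := Algebra.IsIntegral.isIntegral (R := A) b
  obtain ⟨s, rfl⟩ := splits_aic h _ p hp rfl
  rw [← aeval_def, map_multiset_prod, Multiset.map_map, Multiset.prod_eq_zero_iff, Multiset.mem_map] at hpb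
  obtain ⟨r, -, hr⟩ := hpb
  refine ⟨r, ?_⟩
  simp only [Function.comp_apply, map_sub, aeval_X, aeval_C, sub_eq_zero] at hr
  exact hr.symm

theorem rqfhLocal_iff (P : Scheme.{u}) [QuasiSeparatedSpace P] :
    ((∀ (X : Scheme.{u}) (R : Presieve X), R ∈ Scheme.precoverage (@IsOpenImmersion ⊓ @QuasiCompact) X →
        ∀ g : P ⟶ X, ∃ (Y : Scheme.{u}) (w : Y ⟶ X) (h : P ⟶ Y), R w ∧ h ≫ w = g) ∧
      (∀ (X : Scheme.{u}) (R : Presieve X), R ∈ Scheme.precoverage @IsFinite X →
        ∀ g : P ⟶ X, ∃ (Y : Scheme.{u}) (w : Y ⟶ X) (h : P ⟶ Y), R w ∧ h ≫ w = g)) ↔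
    (IsAffine P ∧ IsLocalRing Γ(P, ⊤) ∧ IsDomain Γ(P, ⊤) ∧ Curves.IsAIC Γ(P, ⊤)) := by
  constructor
  · rintro ⟨hZ, hF⟩
    have hZ' : ∀ {ι : Type u} (U : ι → P.Opens), (∀ i, IsAffineOpen (U i)) → (∀ x, ∃ i, x ∈ U i) →
        ∃ i, U i = ⊤ := by
      intro ι U hU hcov
      obtain ⟨Y, w, h, ⟨i⟩, hh⟩ := hZ P (Presieve.ofArrows (fun i => (U i).toScheme) fun i => (U i).ι) (by
        rw [Scheme.ofArrows_mem_precoverage_iff]
        refine ⟨fun x => ?_, fun i => ⟨inferInstance, ?_⟩⟩
        · obtain ⟨i, hi⟩ := hcov x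
          exact ⟨i, by rw [Scheme.Opens.range_ι]; exact hi⟩
        · haveI : CompactSpace (U i).toScheme := isCompact_iff_compactSpace.1 (hU i).isCompact
          exact quasiCompact_of_compactSpace _) (𝟙 P)
      refine ⟨i, top_le_iff.1 fun x _ => ?_⟩
      have := congrArg (fun f : P ⟶ P => f x) hh
      exact (show (U i).ι (h x) = x from this) ▸ (h x).2
    obtain ⟨U, hU⟩ := hZ' (fun U : P.affineOpens => U.1) (fun U => U.2) fun x => by
      obtain ⟨U, hU, hx, -⟩ := exists_isAffineOpen_mem_and_subset (x := x) (U := (⊤ : P.Opens)) trivial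
      exact ⟨⟨U, hU⟩, hx⟩
    have haff : IsAffineOpen (⊤ : P.Opens) := hU ▸ U.2
    haveI : IsAffine (⊤ : P.Opens).toScheme := haff
    haveI : IsAffine P := .of_isIso (Scheme.topIso P).inv
    haveI : Nonempty P := by
      by_contra hne
      haveI : IsEmpty P := not_nonempty_iff.1 hne
      obtain ⟨i, -⟩ := hZ' (ι := PEmpty.{u + 1}) (fun i => i.elim) (fun i => i.elim) fun x => isEmptyElim x
      exact i.elim
    haveI : Nontrivial Γ(P, ⊤) := by
      obtain ⟨x⟩ := (inferInstance : Nonempty P)
      exact (P.presheaf.germ ⊤ x trivial).hom.domain_nontrivial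
    have hloc : IsLocalRing Γ(P, ⊤) := .of_isUnit_or_isUnit_one_sub_self fun a => by
      obtain ⟨b, hb⟩ := hZ' (ι := ULift.{u} Bool) (fun b => if b.down then P.basicOpen a else P.basicOpen (1 - a))
        (fun b => by cases b.down <;> exact (isAffineOpen_top P).basicOpen _) fun x => by
          by_contra hx
          simp only [not_exists] at hx
          have h1 : x ∉ P.basicOpen a := hx ⟨true⟩
          have h2 : x ∉ P.basicOpen (1 - a) := hx ⟨false⟩
          rw [Scheme.mem_basicOpen _ _ x (Opens.mem_top x)] at h1 h2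
          rw [map_sub, map_one] at h2
          exact ((IsLocalRing.isUnit_or_isUnit_one_sub_self _).resolve_left h1 |> h2).elim
      have hu : ∀ c : Γ(P, ⊤), P.basicOpen c = ⊤ → IsUnit c := fun c hc =>
        P.toRingedSpace.isUnit_of_isUnit_germ ⊤ c fun x _ => by
          have : x ∈ P.basicOpen c := hc.ge (Opens.mem_top x)
          rwa [Scheme.mem_basicOpen _ _ x (Opens.mem_top x)] at this
      rcases b with ⟨_ | _⟩
      · exact Or.inr (hu _ (by simpa using hb))
      · exact Or.inl (hu _ (by simpa using hb))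
    let e := P.isoSpec
    let A := Γ(P, ⊤)
    have hF' : ∀ {ι : Type u} (B : ι → Type u) [∀ i, CommRing (B i)] [∀ i, Algebra A (B i)]
        [∀ i, Module.Finite A (B i)],
        (∀ p : PrimeSpectrum A, ∃ i, ∃ q : PrimeSpectrum (B i), PrimeSpectrum.comap (algebraMap A (B i)) q = p) →
        ∃ i, Nonempty (B i →ₐ[A] A) := by
      intro ι B _ _ _ hcov
      let f : ∀ i, Spec (CommRingCat.of (B i)) ⟶ Spec A := fun i =>
        Spec.map (CommRingCat.ofHom (algebraMap A (B i)))
      obtain ⟨Y, w, h, ⟨i⟩, hh⟩ := hF (Spec A) (Presieve.ofArrows (fun i => Spec (CommRingCat.of (B i))) f) (by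
        rw [Scheme.ofArrows_mem_precoverage_iff]
        exact ⟨fun x => hcov x, fun i => (IsFinite.SpecMap_iff _).2
          (RingHom.finite_algebraMap.2 inferInstance)⟩) e.hom
      refine ⟨i, ?_⟩
      obtain ⟨φ, hφ⟩ := Spec.map_surjective (e.inv ≫ h)
      have : CommRingCat.ofHom (algebraMap A (B i)) ≫ φ = 𝟙 A := Spec.map_injective (by
        rw [Spec.map_comp, hφ, Category.assoc]
        exact ((congrArg (e.inv ≫ ·) hh).trans e.inv_hom_id).trans (Spec.map_id _).symm)
      exact ⟨{ φ.hom with commutes' := fun r => ConcreteCategory.congr_hom this r }⟩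
    refine ⟨inferInstance, hloc, ?_, fun f hf hd => ?_⟩
    · haveI : NoZeroDivisors A := ⟨fun {a b} hab => by
        obtain ⟨i, ⟨φ⟩⟩ := hF' (ι := ULift.{u} Bool) (fun c => A ⧸ Ideal.span {if c.down then a else b}) fun p => by
          have : a * b ∈ p.asIdeal := by rw [hab]; exact p.asIdeal.zero_mem
          have key : ∀ c : A, c ∈ p.asIdeal → ∃ q : PrimeSpectrum (A ⧸ Ideal.span {c}),
              PrimeSpectrum.comap (algebraMap A _) q = p := fun c hc => by
            have : p ∈ Set.range (PrimeSpectrum.comap (Ideal.Quotient.mk (Ideal.span {c}))) := by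
              rw [range_comap_of_surjective _ _ Ideal.Quotient.mk_surjective, Ideal.mk_ker,
                PrimeSpectrum.mem_zeroLocus, SetLike.coe_subset_coe, Ideal.span_le, Set.singleton_subset_iff]
              exact hc
            exact this
          rcases p.2.mem_or_mem this with h | h
          · exact ⟨⟨true⟩, key a h⟩
          · exact ⟨⟨false⟩, key b h⟩
        have h0 : ∀ c, (if i.down then a else b) = c → c = 0 := fun c hc => by
          have h1 : algebraMap A (A ⧸ Ideal.span {if i.down then a else b}) c = 0 :=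
            Ideal.Quotient.eq_zero_iff_mem.2 (hc ▸ Ideal.subset_span rfl)
          have h2 := congrArg φ h1
          rwa [φ.commutes, map_zero] at h2
        rcases i with ⟨_ | _⟩
        · exact Or.inr (h0 b rfl)
        · exact Or.inl (h0 a rfl)⟩
      haveI : Nontrivial A := inferInstanceAs (Nontrivial Γ(P, ⊤))
      exact NoZeroDivisors.to_isDomain A
    · haveI : Module.Finite A (AdjoinRoot f) := hf.finite_adjoinRoot
      haveI : Module.Free A (AdjoinRoot f) := hf.free_adjoinRoot
      have hinj : Function.Injective (algebraMap A (AdjoinRoot f)) :=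
        (injective_iff_map_eq_zero _).2 fun a ha => by
          by_contra ha0
          rw [AdjoinRoot.algebraMap_eq, ← AdjoinRoot.mk_C, AdjoinRoot.mk_eq_zero] at ha
          refine hf.not_dvd_of_natDegree_lt (C_ne_zero.2 ha0) ?_ ha
          rw [natDegree_C]; exact hd
      obtain ⟨-, ⟨φ⟩⟩ := hF' (ι := PUnit.{u + 1}) (fun _ => AdjoinRoot f) fun p => by
        obtain ⟨q, hq⟩ := (RingHom.IsIntegral.comap_surjective (f := algebraMap A (AdjoinRoot f))
          Algebra.IsIntegral.isIntegral hinj) p
        exact ⟨PUnit.unit, q, hq⟩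
      exact ⟨φ (AdjoinRoot.root f), by
        rw [← coe_aeval_eq_eval, aeval_algHom_apply, AdjoinRoot.aeval_eq, AdjoinRoot.mk_self, map_zero]⟩
  · rintro ⟨haff, hloc, hdom, haic⟩
    let A := Γ(P, ⊤)
    let e := P.isoSpec
    refine ⟨fun X R hR g => ?_, fun X R hR g => ?_⟩
    · obtain ⟨ι, Y, f, rfl⟩ := R.exists_eq_ofArrows
      rw [Scheme.ofArrows_mem_precoverage_iff] at hR
      obtain ⟨i, hi⟩ := hR.1 ((e.inv ≫ g) (IsLocalRing.closedPoint A))
      haveI := (hR.2 i).1
      refine ⟨Y i, f i, e.hom ≫ IsOpenImmersion.lift (f i) (e.inv ≫ g) ?_, ⟨i⟩, ?_⟩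
      · rintro _ ⟨z, rfl⟩
        exact ((IsLocalRing.specializes_closedPoint z).map (e.inv ≫ g).continuous).mem_open
          (f i).isOpenEmbedding.isOpen_range hi
      · rw [Category.assoc, IsOpenImmersion.lift_fac, e.hom_inv_id_assoc]
    · obtain ⟨ι, Y, f, rfl⟩ := R.exists_eq_ofArrows
      rw [Scheme.ofArrows_mem_precoverage_iff] at hR
      let η : Spec A := (⟨⊥, Ideal.isPrime_bot⟩ : PrimeSpectrum A)
      obtain ⟨i, y, hy⟩ := hR.1 ((e.inv ≫ g) η)
      haveI := hR.2 i
      obtain ⟨z, -, hz⟩ := Scheme.Pullback.exists_preimage_pullback (f := f i) (g := e.inv ≫ g) y η hy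
      let Q := pullback (f i) (e.inv ≫ g)
      haveI : IsAffine Q := isAffine_of_isAffineHom (pullback.snd (f i) (e.inv ≫ g))
      let B := Γ(Q, ⊤)
      obtain ⟨φ, hφ⟩ := Spec.map_surjective (Q.isoSpec.inv ≫ pullback.snd (f i) (e.inv ≫ g))
      have hfin : φ.hom.Finite := (IsFinite.SpecMap_iff φ).1 (hφ ▸ inferInstance)
      let q : PrimeSpectrum B := Q.isoSpec.hom z
      have hq : PrimeSpectrum.comap φ.hom q = η := by
        show Spec.map φ (Q.isoSpec.hom z) = η
        rw [hφ, ← Scheme.Hom.comp_apply, Iso.hom_inv_id_assoc]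
        exact hz
      letI := φ.hom.toAlgebra
      haveI : Module.Finite A B := hfin
      haveI : Module.Finite A (B ⧸ q.asIdeal) := Module.Finite.of_surjective
        (Ideal.Quotient.mkₐ A q.asIdeal).toLinearMap Ideal.Quotient.mk_surjective
      have hinj : Function.Injective (algebraMap A (B ⧸ q.asIdeal)) := by
        rw [injective_iff_map_eq_zero]
        intro a ha
        rw [IsScalarTower.algebraMap_apply A B (B ⧸ q.asIdeal), Ideal.Quotient.algebraMap_eq,
          Ideal.Quotient.eq_zero_iff_mem] at ha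
        have : a ∈ (PrimeSpectrum.comap φ.hom q).asIdeal := ha
        rw [hq] at this
        exact (Submodule.mem_bot _).1 this
      let ψ : A ≃+* B ⧸ q.asIdeal := RingEquiv.ofBijective _ (bijective_of_finite_aic hinj haic)
      let χ : B ⟶ A := CommRingCat.ofHom (ψ.symm.toRingHom.comp (Ideal.Quotient.mk q.asIdeal))
      have hχ : φ ≫ χ = 𝟙 A := by
        ext a
        exact ψ.symm_apply_apply a
      refine ⟨Y i, f i, e.hom ≫ Spec.map χ ≫ Q.isoSpec.inv ≫ pullback.fst _ _, ⟨i⟩, ?_⟩
      simp only [Category.assoc, pullback.condition]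
      rw [← Category.assoc Q.isoSpec.inv, ← hφ, ← Spec.map_comp_assoc, hχ, Spec.map_id, Category.id_comp,
        e.hom_inv_id_assoc]

end Groth.Agent.ModPair23
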