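import Groth.Agent.ModPair23.ValLocal
import Groth.Agent.ModPair23.RqfhLocal
import Groth.Agent.FSchLib.IdealSheaf

/-!
# Modulus pairs local for finite coverings
-/

set_option autoImplicit false
set_option linter.style.haveILetI false
set_option backward.isDefEq.respectTransparency.types false

universe u

open CategoryTheory CategoryTheory.Limits AlgebraicGeometry TopologicalSpace ModPair Polynomial

namespace Groth.Agent.ModPair23

/-- Every morphism out of `P` factors through a member of every finite covering. -/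
abbrev FinLocal (P : ModPair.Pair.{u}) : Prop :=
  ∀ (X : ModPair.Pair.{u}) (ι : Type u) (U : ι → ModPair.Pair.{u}) (v : ∀ i, U i ⟶ X),
    (∀ i, ModPair.IsMinimal (U i).mod X.mod (v i).hom ∧ IsFinite (v i).hom) →
    (∀ x : X.total, ∃ (i : ι) (y : (U i).total), (v i).hom.base y = x) →
    ∀ g : P ⟶ X, ∃ (i : ι) (h : P ⟶ U i), h ≫ v i = g

theorem isAIC_of_isLocalization {A L : Type u} [CommRing A] [CommRing L] [Algebra A L] (M : Submonoid A)
    [IsLocalization M L] (h : Curves.IsAIC A) : Curves.IsAIC L := by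
  intro g hg hd
  classical
  obtain ⟨s, hs⟩ := IsLocalization.exist_integer_multiples M g.support g.coeff
  have hlift : g.scaleRoots (algebraMap A L s) ∈ Polynomial.lifts (algebraMap A L) := by
    rw [Polynomial.lifts_iff_coeff_lifts]
    intro i
    rw [coeff_scaleRoots]
    rcases lt_trichotomy i g.natDegree with hi | hi | hi
    · by_cases hsupp : i ∈ g.support
      · obtain ⟨a, ha⟩ := hs i hsupp
        refine ⟨a * (s : A) ^ (g.natDegree - i - 1), ?_⟩
        rw [map_mul, ha, map_pow, Algebra.smul_def, mul_right_comm, ← pow_succ', mul_comm]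
        congr 2; omega
      · rw [notMem_support_iff.1 hsupp, zero_mul]; exact ⟨0, map_zero _⟩
    · rw [hi, hg.coeff_natDegree, Nat.sub_self, pow_zero, one_mul]; exact ⟨1, map_one _⟩
    · rw [coeff_eq_zero_of_natDegree_lt hi, zero_mul]; exact ⟨0, map_zero _⟩
  obtain ⟨g', hg', hdeg, hgm⟩ := lifts_and_natDegree_eq_and_monic hlift ((monic_scaleRoots_iff _).2 hg)
  obtain ⟨r, hr⟩ := h g' hgm (by rw [hdeg, natDegree_scaleRoots]; exact hd)
  have hu : IsUnit (algebraMap A L s) := IsLocalization.map_units L s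
  refine ⟨hu.unit⁻¹ * algebraMap A L r, ?_⟩
  have h1 : (g.scaleRoots (algebraMap A L s)).eval (algebraMap A L r) = 0 := by
    rw [← hg', Polynomial.eval_map, eval₂_at_apply, hr, map_zero]
  have h2 : algebraMap A L r = algebraMap A L s * (↑hu.unit⁻¹ * algebraMap A L r) := by
    rw [← mul_assoc, IsUnit.mul_val_inv hu, one_mul]
  rw [h2, scaleRoots_eval_mul] at h1
  exact (hu.pow _).mul_right_eq_zero.1 h1

theorem isAIC_of_surjective {A B : Type u} [CommRing A] [CommRing B] [Nontrivial B] (φ : A →+* B)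
    (hφ : Function.Surjective φ) (h : Curves.IsAIC A) : Curves.IsAIC B := by
  intro g hg hd
  obtain ⟨g', hg', hdeg, hgm⟩ := lifts_and_natDegree_eq_and_monic
    ((Polynomial.lifts_iff_coeff_lifts g).2 fun i => hφ _) hg
  obtain ⟨r, hr⟩ := h g' hgm (hdeg ▸ hd)
  exact ⟨φ r, by rw [← hg', Polynomial.eval_map, eval₂_at_apply, hr, map_zero]⟩

theorem exists_retraction {P : ModPair.Pair.{u}} [IsAffine P.total] (hF : FinLocal P) (f : Γ(P.total, ⊤))
    (hf : P.mod.ideal ⟨⊤, isAffineOpen_top _⟩ = Ideal.span {f}) {ι : Type u} (B : ι → Type u)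
    [∀ i, CommRing (B i)] [∀ i, Algebra Γ(P.total, ⊤) (B i)] [∀ i, Module.Finite Γ(P.total, ⊤) (B i)]
    (hB : ∀ i, algebraMap Γ(P.total, ⊤) (B i) f ∈ nonZeroDivisors (B i))
    (hcov : ∀ p : PrimeSpectrum Γ(P.total, ⊤), ∃ i, ∃ q : PrimeSpectrum (B i),
      PrimeSpectrum.comap (algebraMap Γ(P.total, ⊤) (B i)) q = p) :
    ∃ i, Nonempty (B i →ₐ[Γ(P.total, ⊤)] Γ(P.total, ⊤)) := by
  let A : CommRingCat.{u} := Γ(P.total, ⊤)
  let e := P.total.isoSpec
  let m : ∀ i, Spec (CommRingCat.of (B i)) ⟶ P.total := fun i =>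
    Spec.map (CommRingCat.ofHom (algebraMap A (B i))) ≫ e.inv
  have heff : ∀ i, BlowUp.IsEffCartierIdeal (P.mod.comap (m i)) := fun i x => by
    refine ⟨⟨⊤, isAffineOpen_top _⟩, trivial, ((m i).appLE ⊤ ⊤ le_rfl) f, ?_, ?_⟩
    · have : (m i).appTop f = (Scheme.ΓSpecIso (CommRingCat.of (B i))).inv (algebraMap A (B i) f) := by
        have h2 : e.hom.appTop ((Scheme.ΓSpecIso A).inv f) = f := by
          rw [show e.hom.appTop = (Scheme.ΓSpecIso A).hom from Scheme.toSpecΓ_appTop P.total]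
          exact (Scheme.ΓSpecIso A).inv_hom_id_apply f
        have h3 : m i ≫ e.hom = Spec.map (CommRingCat.ofHom (algebraMap A (B i))) := by
          simp only [m, Category.assoc]
          exact (congrArg (_ ≫ ·) e.inv_hom_id).trans (Category.comp_id _)
        have h4 := congrArg (fun φ : Spec (CommRingCat.of (B i)) ⟶ Spec A => φ.appTop ((Scheme.ΓSpecIso A).inv f)) h3
        simp only [Scheme.Hom.comp_appTop, CommRingCat.comp_apply] at h4
        rw [h2] at h4
        exact h4.trans (ConcreteCategory.congr_hom (Scheme.ΓSpecIso_inv_naturality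
          (CommRingCat.ofHom (algebraMap A (B i)))) f).symm
      rw [show (m i).appLE ⊤ ⊤ le_rfl = (m i).appTop from (Scheme.Hom.appLE_eq_app _), this]
      exact MulEquivClass.map_nonZeroDivisors ((Scheme.ΓSpecIso (CommRingCat.of (B i))).symm.commRingCatIsoToRingEquiv.toMulEquiv) ▸
        Submonoid.mem_map_of_mem _ (hB i)
    · rw [FSchLib.ideal_comap_eq_map (m i) P.mod ⟨⊤, isAffineOpen_top _⟩ ⟨⊤, isAffineOpen_top _⟩ le_rfl,
        hf, Ideal.map_span, Set.image_singleton]
  obtain ⟨i, h, hh⟩ := hF P ι (fun i => ⟨_, _, heff i⟩) (fun i => ⟨m i, le_rfl⟩)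
    (fun i => ⟨rfl, by
      haveI : IsFinite (Spec.map (CommRingCat.ofHom (algebraMap A (B i)))) :=
        (IsFinite.SpecMap_iff _).2 (RingHom.finite_algebraMap.2 inferInstance)
      exact inferInstanceAs (IsFinite (Spec.map _ ≫ e.inv))⟩)
    (fun x => by
      obtain ⟨i, q, hq⟩ := hcov (e.hom x)
      refine ⟨i, q, ?_⟩
      show e.inv (Spec.map (CommRingCat.ofHom (algebraMap A (B i))) q) = x
      rw [show Spec.map (CommRingCat.ofHom (algebraMap A (B i))) q = e.hom x from hq]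
      exact congrArg (fun φ : P.total ⟶ P.total => φ x) e.hom_inv_id) (𝟙 P)
  refine ⟨i, ?_⟩
  have hh' : h.hom ≫ m i = 𝟙 _ := congrArg ModPair.Pair.Hom.hom hh
  obtain ⟨φ, hφ⟩ := Spec.map_surjective (e.inv ≫ h.hom)
  have : CommRingCat.ofHom (algebraMap A (B i)) ≫ φ = 𝟙 A := Spec.map_injective (by
    rw [Spec.map_comp, hφ, Category.assoc, ← cancel_mono e.inv, Category.assoc, Category.assoc]
    exact ((congrArg (e.inv ≫ ·) hh').trans (Category.comp_id _)).trans
      ((congrArg (· ≫ e.inv) (Spec.map_id A)).trans (Category.id_comp _)).symm)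
  exact ⟨{ φ.hom with commutes' := fun r => ConcreteCategory.congr_hom this r }⟩

theorem noZeroDivisors_of_finLocal {P : ModPair.Pair.{u}} [IsAffine P.total] (hF : FinLocal P)
    (f : Γ(P.total, ⊤)) (hfn : f ∈ nonZeroDivisors Γ(P.total, ⊤))
    (hf : P.mod.ideal ⟨⊤, isAffineOpen_top _⟩ = Ideal.span {f}) : NoZeroDivisors Γ(P.total, ⊤) := by
  let J : Γ(P.total, ⊤) → Ideal Γ(P.total, ⊤) := fun a =>
    { carrier := {x | ∃ n : ℕ, f ^ n * x ∈ Ideal.span {a}}
      add_mem' := by
        rintro x y ⟨n, hn⟩ ⟨k, hk⟩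
        refine ⟨n + k, ?_⟩
        rw [mul_add, pow_add]
        exact add_mem (by rw [mul_comm (f ^ n), mul_assoc]; exact Ideal.mul_mem_left _ _ hn)
          (by rw [mul_assoc]; exact Ideal.mul_mem_left _ _ hk)
      zero_mem' := ⟨0, by simp⟩
      smul_mem' := by
        rintro c x ⟨n, hn⟩
        exact ⟨n, by rw [smul_eq_mul, mul_left_comm]; exact Ideal.mul_mem_left _ _ hn⟩ }
  refine ⟨fun {a b} hab => ?_⟩
  obtain ⟨i, ⟨φ⟩⟩ := exists_retraction hF f hf (ι := ULift.{u} Bool)
    (fun c => Γ(P.total, ⊤) ⧸ J (if c.down then a else b)) (fun c => by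
      rw [mem_nonZeroDivisors_iff_right]
      intro z hz
      obtain ⟨x, rfl⟩ := Ideal.Quotient.mk_surjective z
      rw [Ideal.Quotient.algebraMap_eq, ← map_mul, Ideal.Quotient.eq_zero_iff_mem] at hz
      obtain ⟨n, hn⟩ := hz
      exact Ideal.Quotient.eq_zero_iff_mem.2 ⟨n + 1, by rwa [pow_succ, mul_assoc, mul_comm f x]⟩)
    (fun p => by
      obtain ⟨m, hm, hmp⟩ := Ideal.exists_minimalPrimes_le (I := (⊥ : Ideal Γ(P.total, ⊤))) (J := p.asIdeal) bot_le
      have hmP := hm.1.1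
      have hfm : f ∉ m := fun h =>
        Set.disjoint_left.1 (Ideal.disjoint_nonZeroDivisors_of_mem_minimalPrimes hm) h hfn
      have key : ∀ c, c ∈ m → ∃ q : PrimeSpectrum (Γ(P.total, ⊤) ⧸ J c),
          PrimeSpectrum.comap (algebraMap _ (Γ(P.total, ⊤) ⧸ J c)) q = p := fun c hc => by
        have : p ∈ Set.range (PrimeSpectrum.comap (Ideal.Quotient.mk (J c))) := by
          rw [range_comap_of_surjective _ _ Ideal.Quotient.mk_surjective, Ideal.mk_ker,
            PrimeSpectrum.mem_zeroLocus, SetLike.coe_subset_coe]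
          rintro x ⟨n, hn⟩
          refine hmp ((hmP.mem_or_mem ((Ideal.span_le.2 (Set.singleton_subset_iff.2 hc)) hn)).resolve_left ?_)
          exact fun h => hfm (hmP.mem_of_pow_mem n h)
        exact this
      rcases hmP.mem_or_mem (show a * b ∈ m by rw [hab]; exact m.zero_mem) with h | h
      · exact ⟨⟨true⟩, key a h⟩
      · exact ⟨⟨false⟩, key b h⟩)
  have h0 : ∀ c, (if i.down then a else b) = c → c = 0 := fun c hc => by
    have h1 : algebraMap _ (Γ(P.total, ⊤) ⧸ J (if i.down then a else b)) c = 0 :=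
      Ideal.Quotient.eq_zero_iff_mem.2 (hc ▸ ⟨0, by simp⟩)
    have h2 := congrArg φ h1
    rwa [φ.commutes, map_zero] at h2
  rcases i with ⟨_ | _⟩
  · exact Or.inr (h0 b rfl)
  · exact Or.inl (h0 a rfl)

theorem isAIC_of_finLocal {P : ModPair.Pair.{u}} [IsAffine P.total] [IsDomain Γ(P.total, ⊤)] (hF : FinLocal P)
    (f : Γ(P.total, ⊤)) (hf0 : f ≠ 0)
    (hf : P.mod.ideal ⟨⊤, isAffineOpen_top _⟩ = Ideal.span {f}) : Curves.IsAIC Γ(P.total, ⊤) := by
  intro g hg hd
  haveI : Module.Finite Γ(P.total, ⊤) (AdjoinRoot g) := hg.finite_adjoinRoot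
  haveI : Module.Free Γ(P.total, ⊤) (AdjoinRoot g) := hg.free_adjoinRoot
  have hdeg : g.degree ≠ 0 := by rw [degree_eq_natDegree hg.ne_zero]; exact_mod_cast hd.ne'
  obtain ⟨-, ⟨φ⟩⟩ := exists_retraction hF f hf (ι := PUnit.{u + 1}) (fun _ => AdjoinRoot g)
    (fun _ => by
      rw [mem_nonZeroDivisors_iff_right]
      intro z hz
      rw [mul_comm, ← Algebra.smul_def] at hz
      exact (smul_eq_zero.1 hz).resolve_left hf0)
    fun p => by
      obtain ⟨q, hq⟩ := (RingHom.IsIntegral.comap_surjective (f := algebraMap Γ(P.total, ⊤) (AdjoinRoot g))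
        Algebra.IsIntegral.isIntegral (AdjoinRoot.of.injective_of_degree_ne_zero hdeg)) p
      exact ⟨PUnit.unit, q, hq⟩
  exact ⟨φ (AdjoinRoot.root g), by
    rw [← coe_aeval_eq_eval, aeval_algHom_apply, AdjoinRoot.aeval_eq, AdjoinRoot.mk_self, map_zero]⟩

theorem finLocal_of_aic {P : ModPair.Pair.{u}} [QuasiSeparatedSpace P.total] (h1 : IsAffine P.total)
    (h2 : IsLocalRing Γ(P.total, ⊤)) (h3 : IsDomain Γ(P.total, ⊤)) (h4 : Curves.IsAIC Γ(P.total, ⊤)) :
    FinLocal P := by
  intro X ι U v hv hcov g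
  obtain ⟨Y, w, h, ⟨i⟩, hh⟩ := ((rqfhLocal_iff P.total).2 ⟨h1, h2, h3, h4⟩).2 X.total
    (Presieve.ofArrows (fun i => (U i).total) fun i => (v i).hom) (by
      rw [Scheme.ofArrows_mem_precoverage_iff]
      exact ⟨fun x => hcov x, fun i => (hv i).2⟩) g.hom
  refine ⟨i, ⟨h, ?_⟩, ModPair.Pair.Hom.ext hh⟩
  show P.mod ≤ (U i).mod.comap h
  rw [show (U i).mod = X.mod.comap (v i).hom from (hv i).1, ← Scheme.IdealSheafData.comap_comp, hh]
  exact g.cond

theorem isAlgClosed_fractionRing {A : Type u} [CommRing A] (q : Ideal A) [q.IsPrime] (h : Curves.IsAIC A) :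
    IsAlgClosed (FractionRing (A ⧸ q)) :=
  IsAlgClosed.of_exists_root _ fun g hg hirr =>
    isAIC_of_isLocalization (nonZeroDivisors (A ⧸ q)) (isAIC_of_surjective (Ideal.Quotient.mk q) Ideal.Quotient.mk_surjective h)
      g hg hirr.natDegree_pos

end Groth.Agent.ModPair23
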