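import Groth.Agent.ModPair23.EtLocal
import Groth.Agent.ModPair23.ValFinite
import Groth.Agent.FlatMor12.EtaleSlice

/-!
# Modulus pairs local for fppf coverings
-/

set_option autoImplicit false
set_option linter.style.haveILetI false
set_option backward.isDefEq.respectTransparency.types false

universe u

open CategoryTheory CategoryTheory.Limits AlgebraicGeometry TopologicalSpace ModPair Polynomial

namespace Groth.Agent.ModPair23

/-- Every morphism out of `P` factors through a member of every fppf covering. -/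
abbrev FppfLocal (P : ModPair.Pair.{u}) : Prop :=
  ∀ (X : ModPair.Pair.{u}) (ι : Type u) (U : ι → ModPair.Pair.{u}) (v : ∀ i, U i ⟶ X),
    (∀ i, ModPair.IsMinimal (U i).mod X.mod (v i).hom ∧ Flat (v i).hom ∧
      LocallyOfFinitePresentation (v i).hom ∧ QuasiCompact (v i).hom ∧
      QuasiSeparated (v i).hom) →
    (∀ x : X.total, ∃ (i : ι) (y : (U i).total), (v i).hom.base y = x) →
    ∀ g : P ⟶ X, ∃ (i : ι) (h : P ⟶ U i), h ≫ v i = g

/-- Every morphism out of `T` factors through a member of every fppf covering. -/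
abbrev SchFppfLocal (T : Scheme.{u}) : Prop :=
  ∀ (X : Scheme.{u}) (R : Presieve X),
    R ∈ Scheme.precoverage (@Flat ⊓ @LocallyOfFinitePresentation ⊓ @QuasiCompact ⊓ @QuasiSeparated) X →
    ∀ g : T ⟶ X, ∃ (Y : Scheme.{u}) (w : Y ⟶ X) (h : T ⟶ Y), R w ∧ h ≫ w = g

theorem FppfLocal.etLocal {P : ModPair.Pair.{u}} (h : FppfLocal P) : EtLocal P :=
  fun X ι U v hv hc g => h X ι U v (fun i => by
    haveI := (hv i).2.1
    exact ⟨(hv i).1, inferInstance, inferInstance, (hv i).2.2.1, (hv i).2.2.2⟩) hc g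

theorem fppfLocal_of_sch {P : ModPair.Pair.{u}} (h : SchFppfLocal P.total) : FppfLocal P := by
  intro X ι U v hv hcov g
  obtain ⟨_, _, k, ⟨i⟩, hk⟩ := h X.total (Presieve.ofArrows (fun i => (U i).total) fun i => (v i).hom) (by
    rw [Scheme.ofArrows_mem_precoverage_iff]
    exact ⟨fun x => hcov x, fun i => ⟨⟨⟨(hv i).2.1, (hv i).2.2.1⟩, (hv i).2.2.2.1⟩, (hv i).2.2.2.2⟩⟩) g.hom
  refine ⟨i, ⟨k, ?_⟩, ModPair.Pair.Hom.ext hk⟩
  show P.mod ≤ (U i).mod.comap k
  rw [show (U i).mod = X.mod.comap (v i).hom from (hv i).1, ← Scheme.IdealSheafData.comap_comp, hk]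
  exact g.cond

theorem schFppfLocal_of_fppfLocal {P : ModPair.Pair.{u}} (h : FppfLocal P) : SchFppfLocal P.total := by
  intro X R hR g
  obtain ⟨E, rfl⟩ := R.exists_eq_preZeroHypercover
  rw [Scheme.presieve₀_mem_precoverage_iff] at hR
  choose c hc using hR.1
  have hp : ∀ x, Flat (pullback.snd (E.f (c x)) g) ∧ LocallyOfFinitePresentation (pullback.snd (E.f (c x)) g) ∧
      QuasiCompact (pullback.snd (E.f (c x)) g) ∧ QuasiSeparated (pullback.snd (E.f (c x)) g) := fun x => by
    obtain ⟨⟨⟨h1, h2⟩, h3⟩, h4⟩ := hR.2 (c x)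
    exact ⟨inferInstance, inferInstance, inferInstance, inferInstance⟩
  obtain ⟨x, k, hk⟩ := h P X
    (fun x => haveI := (hp x).1; ⟨pullback (E.f (c x)) g, P.mod.comap (pullback.snd _ g),
      SDiv28.isEffCartier_comap_of_flat P.isEffCartier _⟩)
    (fun x => ⟨pullback.snd (E.f (c x)) g, le_rfl⟩) (fun x => ⟨rfl, hp x⟩) (fun z => by
      obtain ⟨y, hy⟩ : z ∈ Set.range (pullback.snd (E.f (c (g z))) g) := by
        rw [Scheme.Pullback.range_snd]; exact hc (g z)
      exact ⟨g z, y, hy⟩) (𝟙 P)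
  refine ⟨_, E.f (c x), k.hom ≫ pullback.fst _ _, ⟨c x⟩, ?_⟩
  rw [Category.assoc, pullback.condition, ← Category.assoc]
  exact (congrArg (· ≫ g) (congrArg ModPair.Pair.Hom.hom hk)).trans (Category.id_comp g)

theorem exists_retraction_flat {P : ModPair.Pair.{u}} [IsAffine P.total] (h : FppfLocal P) (C : Type u)
    [CommRing C] [Algebra Γ(P.total, ⊤) C] [Module.Flat Γ(P.total, ⊤) C] [Algebra.FinitePresentation Γ(P.total, ⊤) C]
    (hs : Function.Surjective (PrimeSpectrum.comap (algebraMap Γ(P.total, ⊤) C))) :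
    Nonempty (C →ₐ[Γ(P.total, ⊤)] Γ(P.total, ⊤)) := by
  let e := P.total.isoSpec
  let b : Spec (CommRingCat.of C) ⟶ Spec Γ(P.total, ⊤) := Spec.map (CommRingCat.ofHom (algebraMap Γ(P.total, ⊤) C))
  haveI : Flat b := (HasRingHomProperty.Spec_iff (P := @Flat)).2 (RingHom.flat_algebraMap_iff.2 inferInstance)
  haveI : LocallyOfFinitePresentation b := (HasRingHomProperty.Spec_iff (P := @LocallyOfFinitePresentation)).2
    (RingHom.finitePresentation_algebraMap.2 inferInstance)
  let U : ModPair.Pair.{u} := ⟨Spec (CommRingCat.of C), P.mod.comap (b ≫ e.inv),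
    SDiv28.isEffCartier_comap_of_flat P.isEffCartier (b ≫ e.inv)⟩
  let v : U ⟶ P := ⟨b ≫ e.inv, le_rfl⟩
  obtain ⟨-, k, hk⟩ := h P PUnit.{u + 1} (fun _ => U) (fun _ => v)
    (fun _ => ⟨rfl, inferInstanceAs (Flat (b ≫ e.inv)),
      inferInstanceAs (LocallyOfFinitePresentation (b ≫ e.inv)),
      quasiCompact_of_compactSpace (b ≫ e.inv), inferInstanceAs (QuasiSeparated (b ≫ e.inv))⟩)
    (fun x => by
      obtain ⟨y, hy⟩ := hs (e.hom x)
      refine ⟨PUnit.unit, y, ?_⟩
      show e.inv (b y) = x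
      rw [show b y = e.hom x from hy, ← Scheme.Hom.comp_apply, e.hom_inv_id]
      rfl)
    (𝟙 P)
  have hk' : k.hom ≫ b ≫ e.inv = 𝟙 _ := congrArg ModPair.Pair.Hom.hom hk
  obtain ⟨φ, hφ⟩ := Spec.map_surjective (e.inv ≫ k.hom)
  have : CommRingCat.ofHom (algebraMap Γ(P.total, ⊤) C) ≫ φ = 𝟙 _ := Spec.map_injective (by
    rw [Spec.map_comp, hφ, Spec.map_id, ← cancel_mono e.inv, Category.assoc, Category.assoc, hk']
    exact (Category.comp_id _).trans (Category.id_comp _).symm)
  exact ⟨{ φ.hom with commutes' := fun a => ConcreteCategory.congr_hom this a }⟩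

/-- Every finite free nonzero algebra has a retraction. -/
abbrev FreeRetr (A : Type u) [CommRing A] : Prop :=
  ∀ (C : Type u) [CommRing C] [Algebra A C] [Module.Finite A C] [Module.Free A C] [Nontrivial C],
    Nonempty (C →ₐ[A] A)

theorem freeRetr_of_fppfLocal {P : ModPair.Pair.{u}} [IsAffine P.total] (h : FppfLocal P) :
    FreeRetr Γ(P.total, ⊤) := by
  intro C _ _ _ _ _
  haveI : Module.FinitePresentation Γ(P.total, ⊤) C := Module.finitePresentation_of_projective _ _
  haveI : Algebra.FinitePresentation Γ(P.total, ⊤) C := inferInstance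
  exact exists_retraction_flat h C PrimeSpectrum.comap_surjective_of_faithfullyFlat

theorem isAIC_of_freeRetr {A : Type u} [CommRing A] [Nontrivial A] (h : FreeRetr A) : Curves.IsAIC A := by
  intro g hg hd
  haveI := hg.finite_adjoinRoot
  haveI := hg.free_adjoinRoot
  haveI : Nontrivial (AdjoinRoot g) :=
    (AdjoinRoot.powerBasis' hg).basis.repr.toEquiv.nontrivial_congr.2
      (by haveI : Nonempty (Fin (AdjoinRoot.powerBasis' hg).dim) := ⟨⟨0, by simpa using hd⟩⟩; infer_instance)
  obtain ⟨φ⟩ := h (AdjoinRoot g)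
  exact ⟨φ (AdjoinRoot.root g), by
    rw [← coe_aeval_eq_eval, aeval_algHom_apply, AdjoinRoot.aeval_eq, AdjoinRoot.mk_self, map_zero]⟩

theorem exists_basis_one {B F : Type u} [CommRing B] [IsLocalRing B] [CommRing F] [Algebra B F]
    [Module.Finite B F] [Module.Free B F] [Nontrivial F] :
    ∃ (κ : Type u) (_ : Finite κ) (b : Module.Basis (Option κ) B F), b none = 1 := by
  classical
  obtain ⟨φ, hφ⟩ : ∃ φ : F →ₗ[B] B, φ 1 = 1 := by
    let b₀ := Module.Free.chooseBasis B F
    obtain ⟨j, hj⟩ : ∃ j, IsUnit (b₀.repr 1 j) := by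
      by_contra hc
      push Not at hc
      have h1 : (1 : F) ∈ IsLocalRing.maximalIdeal B • (⊤ : Submodule B F) := by
        rw [← b₀.sum_repr 1]
        exact Submodule.sum_mem _ fun i _ => Submodule.smul_mem_smul
          ((IsLocalRing.mem_maximalIdeal _).2 (hc i)) trivial
      have h2 : (⊤ : Submodule B F) ≤ IsLocalRing.maximalIdeal B • ⊤ := fun x _ => by
        have : ∀ y ∈ IsLocalRing.maximalIdeal B • (⊤ : Submodule B F),
            x * y ∈ IsLocalRing.maximalIdeal B • (⊤ : Submodule B F) := fun y hy => by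
          refine Submodule.smul_induction_on hy (fun r hr n _ => ?_) (fun a c ha hc => ?_)
          · rw [mul_smul_comm]; exact Submodule.smul_mem_smul hr trivial
          · rw [mul_add]; exact add_mem ha hc
        simpa using this 1 h1
      have := Submodule.eq_bot_of_le_smul_of_le_jacobson_bot (IsLocalRing.maximalIdeal B) ⊤
        Module.Finite.fg_top h2 (by rw [IsLocalRing.jacobson_eq_maximalIdeal _ bot_ne_top])
      exact top_ne_bot this
    exact ⟨(↑hj.unit⁻¹ : B) • b₀.coord j, by simp [IsUnit.val_inv_mul]⟩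
  let p : F →ₗ[B] LinearMap.ker φ :=
    (LinearMap.id - φ.smulRight 1).codRestrict _ fun x => by simp [hφ]
  haveI : Module.Projective B (LinearMap.ker φ) :=
    Module.Projective.of_split (LinearMap.ker φ).subtype p (by
      ext x; simp [p, LinearMap.mem_ker.1 x.2])
  haveI : Module.Finite B (LinearMap.ker φ) := .of_surjective p fun x => ⟨x, by
    apply Subtype.ext; simp [p, LinearMap.mem_ker.1 x.2]⟩
  haveI : Module.Free B (LinearMap.ker φ) := Module.free_of_flat_of_isLocalRing
  let bk := Module.Free.chooseBasis B (LinearMap.ker φ)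
  refine ⟨Module.Free.ChooseBasisIndex B (LinearMap.ker φ), inferInstance,
    Module.Basis.mk (v := fun o => o.elim (1 : F) fun i => ((bk i : LinearMap.ker φ) : F)) ?_ ?_, ?_⟩
  · rw [Fintype.linearIndependent_iff]
    intro g hg
    rw [Fintype.sum_option] at hg
    have hnone : g none = 0 := by
      have := congrArg φ hg
      simpa [hφ, fun i => LinearMap.mem_ker.1 (bk i).2] using this
    rintro (_ | i)
    · exact hnone
    · refine Fintype.linearIndependent_iff.1 bk.linearIndependent (fun i => g (some i)) ?_ i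
      apply Subtype.ext
      rw [hnone, zero_smul, zero_add] at hg
      simpa using hg
  · intro x _
    rw [show x = φ x • (1 : F) + (p x : F) by simp [p]]
    refine add_mem (Submodule.smul_mem _ _ (Submodule.subset_span ⟨none, rfl⟩)) ?_
    rw [← bk.sum_repr (p x), Submodule.coe_sum]
    exact Submodule.sum_mem _ fun i _ => Submodule.smul_mem _ _ (Submodule.subset_span ⟨some i, rfl⟩)
  · rw [Module.Basis.mk_apply]; rfl

theorem freeRetr_away {A : Type u} [CommRing A] (f : A) (hfn : f ∈ nonZeroDivisors A) (h : FreeRetr A)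
    (B : Type u) [CommRing B] [Algebra A B] [IsLocalization.Away f B] [IsLocalRing B] : FreeRetr B := by
  intro F _ _ _ _ _
  classical
  letI : Algebra A F := ((algebraMap B F).comp (algebraMap A B)).toAlgebra
  haveI : IsScalarTower A B F := IsScalarTower.of_algebraMap_eq fun _ => rfl
  obtain ⟨κ, _, b, hb⟩ := exists_basis_one (B := B) (F := F)
  haveI := Fintype.ofFinite κ
  obtain ⟨⟨_, N, rfl⟩, hN⟩ := IsLocalization.exist_integer_multiples_of_finite (Submonoid.powers f)
    (fun t : Option κ × Option κ × Option κ => b.repr (b t.1 * b t.2.1) t.2.2)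
  have hu : IsUnit (algebraMap A B (f ^ N)) := by
    rw [map_pow]; exact (IsLocalization.Away.algebraMap_isUnit f).pow N
  let w : Option κ → Bˣ := fun o => o.elim 1 fun _ => hu.unit
  let g : Module.Basis (Option κ) B F := b.unitsSMul w
  have hg0 : g none = 1 := by simp [g, Module.Basis.unitsSMul_apply, w, hb]
  have hgs : ∀ i, g (some i) = algebraMap A B (f ^ N) • b (some i) := fun i => by
    simp [g, Module.Basis.unitsSMul_apply, w, Units.smul_def]
  let M : Submodule A F := Submodule.span A (Set.range g)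
  have h1 : (1 : F) ∈ M := hg0 ▸ Submodule.subset_span ⟨none, rfl⟩
  have hint : ∀ t : Option κ × Option κ × Option κ, ∃ a : A,
      algebraMap A B a = algebraMap A B (f ^ N) * b.repr (b t.1 * b t.2.1) t.2.2 := fun t => by
    obtain ⟨a, ha⟩ := hN t
    exact ⟨a, by rw [ha, Algebra.smul_def]⟩
  have hmul : ∀ o o', g o * g o' ∈ M := by
    rintro (_ | i) o'
    · rw [hg0, one_mul]; exact Submodule.subset_span ⟨o', rfl⟩
    rcases o' with _ | j
    · rw [hg0, mul_one]; exact Submodule.subset_span ⟨some i, rfl⟩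
    rw [hgs, hgs, smul_mul_smul_comm, ← b.sum_repr (b (some i) * b (some j)), Finset.smul_sum]
    refine Submodule.sum_mem _ fun o _ => ?_
    obtain ⟨a, ha⟩ := hint (some i, some j, o)
    rcases o with _ | k
    · have : (algebraMap A B (f ^ N) * algebraMap A B (f ^ N)) • b.repr (b (some i) * b (some j)) none • b none =
          (f ^ N * a) • g none := by
        rw [hg0, hb, smul_smul, mul_assoc, ← ha, ← map_mul, algebraMap_smul]
      rw [this]
      exact Submodule.smul_mem _ _ (Submodule.subset_span ⟨none, rfl⟩)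
    · have : (algebraMap A B (f ^ N) * algebraMap A B (f ^ N)) •
          b.repr (b (some i) * b (some j)) (some k) • b (some k) = a • g (some k) := by
        rw [hgs, ← algebraMap_smul B a (algebraMap A B (f ^ N) • b (some k)), smul_smul, smul_smul, ha]
        congr 1; ring
      rw [this]
      exact Submodule.smul_mem _ _ (Submodule.subset_span ⟨some k, rfl⟩)
  let C : Subalgebra A F := M.toSubalgebra h1 fun x y hx hy => by
    induction hx, hy using Submodule.span_induction₂ with
    | mem_mem x y hx hy => obtain ⟨o, rfl⟩ := hx; obtain ⟨o', rfl⟩ := hy; exact hmul o o'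
    | zero_left y hy => rw [zero_mul]; exact zero_mem _
    | zero_right x hx => rw [mul_zero]; exact zero_mem _
    | add_left x y z _ _ _ hx hy => rw [add_mul]; exact add_mem hx hy
    | add_right x y z _ _ _ hx hy => rw [mul_add]; exact add_mem hx hy
    | smul_left r x y _ _ hx => rw [smul_mul_assoc]; exact Submodule.smul_mem _ _ hx
    | smul_right r x y _ _ hx => rw [mul_smul_comm]; exact Submodule.smul_mem _ _ hx
  have hli : LinearIndependent A g := g.linearIndependent.restrict_scalars fun x y hxy => by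
    simp only [← Algebra.algebraMap_eq_smul_one] at hxy
    exact IsLocalization.injective B (Submonoid.powers_le.2 hfn) hxy
  let bC : Module.Basis (Option κ) A C := (Module.Basis.span hli :)
  haveI : Module.Free A C := .of_basis bC
  haveI : Module.Finite A C := .of_basis bC
  haveI : Nontrivial C := ⟨⟨0, 1, fun hc => zero_ne_one (α := F) (congrArg Subtype.val hc)⟩⟩
  obtain ⟨σ⟩ := h C
  have hmem : ∀ o, g o ∈ C := fun o => Submodule.subset_span ⟨o, rfl⟩
  let τ : F →ₗ[B] B := g.constr B fun o => algebraMap A B (σ ⟨g o, hmem o⟩)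
  have hτ : (τ.restrictScalars A) ∘ₗ C.toSubmodule.subtype = (Algebra.linearMap A B) ∘ₗ σ.toLinearMap := by
    refine bC.ext fun o => ?_
    have ho : bC o = ⟨g o, hmem o⟩ := Subtype.ext (Module.Basis.coe_span_apply hli o)
    rw [ho]
    exact g.constr_basis B _ o
  have hτ' : ∀ x : C, τ (x : F) = algebraMap A B (σ x) := fun x => LinearMap.congr_fun hτ x
  refine ⟨AlgHom.ofLinearMap τ ?_ ?_⟩
  · rw [show (1 : F) = ((1 : C) : F) from rfl, hτ', map_one, map_one]
  · intro x y
    have : (LinearMap.mul B F).compr₂ τ = (LinearMap.mul B B).compl₁₂ τ τ := by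
      refine LinearMap.ext_basis g g fun o o' => ?_
      simp only [LinearMap.compr₂_apply, LinearMap.mul_apply', LinearMap.compl₁₂_apply]
      rw [show g o * g o' = ((⟨g o, hmem o⟩ * ⟨g o', hmem o'⟩ : C) : F) from rfl, hτ', map_mul, map_mul,
        ← hτ', ← hτ']
    exact LinearMap.congr_fun (LinearMap.congr_fun this x) y

theorem schFppfLocal_of_freeRetr {T : Scheme.{u}} [IsAffine T] (hsh : EtCoh.IsStrictlyHenselianLocalRing Γ(T, ⊤))
    (h : FreeRetr Γ(T, ⊤)) : SchFppfLocal T := by
  obtain ⟨hh, hs⟩ := hsh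
  haveI := hh; haveI := hs
  intro X R hR g
  obtain ⟨E, rfl⟩ := R.exists_eq_preZeroHypercover
  rw [Scheme.presieve₀_mem_precoverage_iff] at hR
  let e := T.isoSpec
  let c : Spec Γ(T, ⊤) := IsLocalRing.closedPoint Γ(T, ⊤)
  obtain ⟨i, hi⟩ := hR.1 ((e.inv ≫ g) c)
  obtain ⟨⟨⟨h1, h2⟩, -⟩, -⟩ := hR.2 i
  obtain ⟨x, hx⟩ : c ∈ Set.range (pullback.snd (E.f i) (e.inv ≫ g)) := by
    rw [Scheme.Pullback.range_snd]; exact hi
  obtain ⟨S', V, a, π, ha, ⟨s₀, hs₀⟩, hsurj, hfin, hflat, hfp, r, hr⟩ :=
    FlatMor12.exists_etale_finite_slice (pullback.snd (E.f i) (e.inv ≫ g)) c x hx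
  haveI := ha; haveI := hsurj; haveI := hfin; haveI := hflat; haveI := hfp
  obtain ⟨t, ht, -⟩ := Et18.NeronSections.exists_section_mem (R := Γ(T, ⊤)) a ⊤ s₀ trivial hs₀
  let ρ : pullback π t ⟶ Spec Γ(T, ⊤) := pullback.snd π t
  haveI : IsAffine (pullback π t) := isAffine_of_isAffineHom ρ
  obtain ⟨φ, hφ⟩ := Spec.map_surjective ((pullback π t).isoSpec.inv ≫ ρ)
  algebraize [φ.hom]
  have hfinC : IsFinite (Spec.map φ) := hφ ▸ inferInstance
  haveI : Module.Finite Γ(T, ⊤) Γ(pullback π t, ⊤) := (IsFinite.SpecMap_iff _).1 hfinC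
  haveI : Module.Flat Γ(T, ⊤) Γ(pullback π t, ⊤) :=
    (HasRingHomProperty.Spec_iff (P := @Flat)).1 (hφ ▸ inferInstance : Flat (Spec.map φ))
  haveI : Module.Free Γ(T, ⊤) Γ(pullback π t, ⊤) := Module.free_of_flat_of_isLocalRing
  haveI : Nontrivial Γ(pullback π t, ⊤) := by
    obtain ⟨z, -⟩ := ρ.surjective c
    exact ((pullback π t).presheaf.germ ⊤ z trivial).hom.domain_nontrivial
  obtain ⟨σ⟩ := h Γ(pullback π t, ⊤)
  let σ' : Spec Γ(T, ⊤) ⟶ Spec Γ(pullback π t, ⊤) := Spec.map (CommRingCat.ofHom σ.toRingHom)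
  have hσ : σ' ≫ Spec.map φ = 𝟙 _ := by
    rw [← Spec.map_comp, ← Spec.map_id]
    congr 1
    ext x
    exact σ.commutes x
  let k : Spec Γ(T, ⊤) ⟶ pullback (E.f i) (e.inv ≫ g) :=
    σ' ≫ (pullback π t).isoSpec.inv ≫ pullback.fst π t ≫ r
  have hk : k ≫ pullback.snd _ _ = 𝟙 _ := by
    rw [← hσ, hφ]
    simp only [k, Category.assoc, hr]
    rw [← Category.assoc (pullback.fst π t), pullback.condition, Category.assoc, ht]
    simp only [ρ]
    exact congrArg (σ' ≫ (pullback π t).isoSpec.inv ≫ ·) (Category.comp_id _)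
  refine ⟨_, E.f i, e.hom ≫ k ≫ pullback.fst _ _, ⟨i⟩, ?_⟩
  rw [Category.assoc, Category.assoc, pullback.condition, ← Category.assoc k, hk]
  exact (congrArg (e.hom ≫ ·) (Category.id_comp _)).trans (e.hom_inv_id_assoc _)

end Groth.Agent.ModPair23
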