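import Groth.Agent.ModPairLib.EffCartier
import Groth.Agent.SDiv28.BlowUp
import Mathlib.RingTheory.Smooth.IntegralClosure

/-!
# Being integrally closed in the interior is stable under étale morphisms
-/

set_option autoImplicit false
set_option linter.style.haveILetI false
set_option backward.isDefEq.respectTransparency.types false

universe u

open CategoryTheory CategoryTheory.Limits AlgebraicGeometry TopologicalSpace Opposite
open scoped TensorProduct

namespace Groth.Agent.ModPair23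

theorem mem_range_of_isIntegral_away {A B Af Bf : Type*} [CommRing A] [CommRing B] [CommRing Af] [CommRing Bf]
    [Algebra A B] [Algebra.Smooth A B] (f : A) [Algebra A Af] [IsLocalization.Away f Af]
    [Algebra B Bf] [IsLocalization.Away (algebraMap A B f) Bf]
    (h : ∀ a : Af, IsIntegral A a → a ∈ Set.range (algebraMap A Af)) {t : Bf} (ht : IsIntegral B t) :
    t ∈ Set.range (algebraMap B Bf) := by
  haveI : IsLocalization (Algebra.algebraMapSubmonoid B (Submonoid.powers f)) Bf := by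
    rw [Algebra.algebraMapSubmonoid, Submonoid.map_powers]
    assumption
  let e : B ⊗[A] Af ≃ₐ[B] Bf :=
    IsLocalization.algEquiv (Algebra.algebraMapSubmonoid B (Submonoid.powers f)) _ _
  obtain ⟨z, hz⟩ := (TensorProduct.toIntegralClosure_bijective_of_smooth (R := A) (S := B) (B := Af)).2
    ⟨e.symm t, ht.map e.symm⟩
  have hrange : ∀ z : B ⊗[A] integralClosure A Af, ∃ b : B,
      ((TensorProduct.toIntegralClosure A B Af z : integralClosure B (B ⊗[A] Af)) : B ⊗[A] Af) =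
        algebraMap B _ b := by
    intro z
    induction z with
    | zero => exact ⟨0, by simp⟩
    | tmul b a =>
      obtain ⟨r, hr⟩ := h a.1 a.2
      refine ⟨r • b, ?_⟩
      show b ⊗ₜ[A] (a : Af) = (r • b) ⊗ₜ[A] (1 : Af)
      rw [← hr, TensorProduct.smul_tmul, ← Algebra.algebraMap_eq_smul_one]
    | add x y hx hy =>
      obtain ⟨a, ha⟩ := hx
      obtain ⟨b, hb⟩ := hy
      exact ⟨a + b, by simp only [map_add, ← ha, ← hb]; rfl⟩
  obtain ⟨b, hb⟩ := hrange z
  rw [hz] at hb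
  refine ⟨b, ?_⟩
  rw [← e.commutes b, ← hb]
  exact e.apply_symm_apply t

theorem isIntegralElem_map {A B A' B' : Type*} [CommRing A] [CommRing B] [CommRing A'] [CommRing B']
    {φ : A →+* B} {φ' : A' →+* B'} (α : A →+* A') (β : B →+* B') (h : φ'.comp α = β.comp φ) {x : B}
    (hx : φ.IsIntegralElem x) : φ'.IsIntegralElem (β x) := by
  obtain ⟨p, hp, hpx⟩ := hx
  exact ⟨p.map α, hp.map α, by rw [Polynomial.eval₂_map, h, ← Polynomial.hom_eval₂, hpx, map_zero]⟩

theorem integrallyClosed_interior_of_etale {X Y : Scheme.{u}} (IX : X.IdealSheafData) (hX : BlowUp.IsEffCartierIdeal IX)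
    (hint : ∀ U ∈ X.affineOpens, ∀ s : Γ(X, U ⊓ ModPair.interior IX),
      (X.presheaf.map (homOfLE (inf_le_left : U ⊓ ModPair.interior IX ≤ U)).op).hom.IsIntegralElem s →
        s ∈ Set.range (X.presheaf.map (homOfLE (inf_le_left : U ⊓ ModPair.interior IX ≤ U)).op).hom)
    (g : Y ⟶ X) [Smooth g] (V : Y.Opens) (t : Γ(Y, V ⊓ g ⁻¹ᵁ ModPair.interior IX))
    (ht : (ModPairLib.res (inf_le_left : V ⊓ g ⁻¹ᵁ ModPair.interior IX ≤ V)).IsIntegralElem t) :
    t ∈ Set.range (ModPairLib.res (inf_le_left : V ⊓ g ⁻¹ᵁ ModPair.interior IX ≤ V)) := by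
  classical
  let U := ModPair.interior IX
  have hdense : ModPairLib.IsDenseOpen (g ⁻¹ᵁ U) :=
    (ModPairLib.isEffCartier_comap_iff hX g).1 (SDiv28.isEffCartier_comap_of_flat hX g)
  have hlocal : ∀ y : V, ∃ (V' : Y.Opens) (hle : V' ≤ V) (b : Γ(Y, V')), y.1 ∈ V' ∧
      ModPairLib.res (inf_le_left : V' ⊓ g ⁻¹ᵁ U ≤ V') b = ModPairLib.res (inf_le_inf_right _ hle) t := by
    rintro ⟨y, hy⟩
    obtain ⟨W, hyW, f, -, hfW⟩ := hX (g y)
    obtain ⟨_, ⟨V', hV', rfl⟩, hyV', hV'le⟩ := Y.isBasis_affineOpens.exists_subset_of_mem_open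
      (show y ∈ V ⊓ g ⁻¹ᵁ W.1 from ⟨hy, hyW⟩) (V ⊓ g ⁻¹ᵁ W.1).isOpen
    have hle : V' ≤ V := fun z hz => (hV'le hz).1
    have hleW : V' ≤ g ⁻¹ᵁ W.1 := fun z hz => (hV'le hz).2
    have hWU : W.1 ⊓ U = X.basicOpen f := ModPairLib.inf_interior hfW
    let fB : Γ(Y, V') := g.appLE W.1 V' hleW f
    have hVU : V' ⊓ g ⁻¹ᵁ U = Y.basicOpen fB := by
      show _ = Y.basicOpen ((Y.presheaf.map (homOfLE hleW).op) (g.app W.1 f))
      rw [Scheme.basicOpen_res, ← Scheme.preimage_basicOpen, ← hWU]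
      ext z
      exact ⟨fun h => ⟨h.1, hleW h.1, h.2⟩, fun h => ⟨h.1, h.2.2⟩⟩
    letI : Algebra Γ(X, W.1) Γ(Y, V') := (g.appLE W.1 V' hleW).hom.toAlgebra
    haveI : Algebra.Smooth Γ(X, W.1) Γ(Y, V') := g.smooth_appLE W.2 hV' hleW
    haveI := W.2.isLocalization_basicOpen f
    haveI : IsLocalization.Away (algebraMap Γ(X, W.1) Γ(Y, V') f) Γ(Y, Y.basicOpen fB) :=
      hV'.isLocalization_basicOpen fB
    have ht' : IsIntegral Γ(Y, V') (ModPairLib.res ((hVU.ge).trans (inf_le_inf_right _ hle)) t) :=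
      isIntegralElem_map (φ' := algebraMap Γ(Y, V') Γ(Y, Y.basicOpen fB)) (ModPairLib.res hle)
        (ModPairLib.res ((hVU.ge).trans (inf_le_inf_right _ hle))) (by
          ext z
          exact (ModPairLib.res_res _ _ z).trans (ModPairLib.res_res _ _ z).symm) ht
    obtain ⟨b, hb⟩ := mem_range_of_isIntegral_away (Af := Γ(X, X.basicOpen f)) f (fun a ha => by
      obtain ⟨r, hr⟩ := hint W.1 W.2 (ModPairLib.res hWU.le a)
        (isIntegralElem_map (φ := algebraMap Γ(X, W.1) Γ(X, X.basicOpen f)) (RingHom.id _) (ModPairLib.res hWU.le)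
          (by ext z; exact (ModPairLib.res_res _ _ z).symm) ha)
      refine ⟨r, ?_⟩
      have h2 := congrArg (ModPairLib.res hWU.ge) hr
      erw [ModPairLib.res_res] at h2
      refine h2.trans ?_
      rw [ModPairLib.res_res]
      show (X.presheaf.map (homOfLE _).op) a = a
      rw [show (homOfLE (le_refl (X.basicOpen f))).op = 𝟙 _ from rfl, CategoryTheory.Functor.map_id]
      rfl) ht'
    refine ⟨V', hle, b, hyV', ?_⟩
    have h2 := congrArg (ModPairLib.res hVU.le) hb
    rw [ModPairLib.res_res] at h2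
    exact (ModPairLib.res_res (Y.basicOpen_le fB) hVU.le b).symm.trans h2
  choose V' hle b hy hb using hlocal
  obtain ⟨s, hs, -⟩ := Y.sheaf.existsUnique_gluing' V' V (fun y => homOfLE (hle y))
    (fun z hz => Opens.mem_iSup.2 ⟨⟨z, hz⟩, hy ⟨z, hz⟩⟩) b (fun y z => by
      show ModPairLib.res inf_le_left (b y) = ModPairLib.res inf_le_right (b z)
      rw [← sub_eq_zero]
      refine hdense _ _ ?_
      rw [map_sub, sub_eq_zero, ModPairLib.res_res, ModPairLib.res_res]
      have h1 := congrArg (ModPairLib.res (inf_le_inf_right (g ⁻¹ᵁ U) (inf_le_left : V' y ⊓ V' z ≤ V' y))) (hb y)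
      have h2 := congrArg (ModPairLib.res (inf_le_inf_right (g ⁻¹ᵁ U) (inf_le_right : V' y ⊓ V' z ≤ V' z))) (hb z)
      rw [ModPairLib.res_res, ModPairLib.res_res] at h1 h2
      exact h1.trans h2.symm)
  refine ⟨s, ?_⟩
  refine Y.sheaf.eq_of_locally_eq' (fun y => V' y ⊓ g ⁻¹ᵁ U) _ (fun y => homOfLE (inf_le_inf_right _ (hle y)))
    (fun z hz => Opens.mem_iSup.2 ⟨⟨z, hz.1⟩, hy ⟨z, hz.1⟩, hz.2⟩) _ _ fun y => ?_
  refine ((ModPairLib.res_res _ _ s).trans (ModPairLib.res_res (hle y) inf_le_left s).symm).trans ?_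
  exact (congrArg (ModPairLib.res inf_le_left) (hs y)).trans (hb y)

end Groth.Agent.ModPair23
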