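import Groth.Agent.ModPair23.BlowupSystem
import Groth.Agent.ModPairLib.Pair
import Groth.Agent.ModPair23.DominantLimit
import Mathlib.CategoryTheory.Localization.CalculusOfFractions
import Mathlib.CategoryTheory.Filtered.Final

/-!
# Morphisms in the localization out of a limit of modulus pairs
-/

set_option autoImplicit false
set_option linter.style.haveILetI false
set_option backward.isDefEq.respectTransparency.types false

universe u

open CategoryTheory CategoryTheory.Limits AlgebraicGeometry TopologicalSpace ModPair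

namespace Groth.Agent.ModPair23

open Groth.Agent.ModPairLib

variable {I : Type u} [SmallCategory I] [IsCofiltered I]

theorem isSys_of_isLimit {S : Pair.{u}} (D : I ⥤ Over S) (c : Cone D) (hc : IsLimit c)
    [∀ (i j : I) (t : i ⟶ j), IsAffineHom (D.map t).left.hom]
    (hmin : ∀ (i j : I) (t : i ⟶ j), IsMinimal (D.obj i).left.mod (D.obj j).left.mod (D.map t).left.hom)
    [∀ i, CompactSpace (D.obj i).left.total] [∀ i, QuasiSeparatedSpace (D.obj i).left.total] :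
    IsSys (D ⋙ Over.forget S) ((Over.forget S).mapCone c) := by
  let E := D ⋙ Over.forget S ⋙ Pair.forget
  haveI haff : ∀ {i j : I} (t : i ⟶ j), IsAffineHom (E.map t) := fun {i j} t =>
    inferInstanceAs (IsAffineHom (D.map t).left.hom)
  haveI : HasLimit E := H8Lim.hasLimit_of_affine_transition E
  let π : ∀ i, limit E ⟶ (D.obj i).left.total := fun i => limit.π E i
  have hπ : ∀ {i j : I} (t : i ⟶ j), π i ≫ (D.map t).left.hom = π j := fun t => limit.w E t
  obtain ⟨i₀⟩ := IsCofiltered.nonempty (C := I)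
  have hmod : ∀ i, (D.obj i).left.mod.comap (π i) = (D.obj i₀).left.mod.comap (π i₀) := fun i => by
    obtain ⟨k, t, t₀, -⟩ : ∃ (k : I) (_ : k ⟶ i) (_ : k ⟶ i₀), True :=
      ⟨IsCofiltered.min i i₀, IsCofiltered.minToLeft _ _, IsCofiltered.minToRight _ _, trivial⟩
    rw [← hπ t, ← hπ t₀, Scheme.IdealSheafData.comap_comp, Scheme.IdealSheafData.comap_comp,
      show ((D.obj i).left.mod.comap (D.map t).left.hom) = (D.obj k).left.mod from (hmin k i t).symm,
      show ((D.obj i₀).left.mod.comap (D.map t₀).left.hom) = (D.obj k).left.mod from (hmin k i₀ t₀).symm]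
  let L : Pair.{u} := ⟨limit E, (D.obj i₀).left.mod.comap (π i₀),
    S18744.result E (limit.cone E) (limit.isLimit E) (fun i => (D.obj i).left.mod)
      (fun i => (D.obj i).left.isEffCartier) (fun i j t => hmin i j t) i₀⟩
  let p : ∀ i, L ⟶ (D.obj i).left := fun i => ⟨π i, (hmod i).ge⟩
  have hp : ∀ {i j : I} (t : i ⟶ j), p i ≫ (D.map t).left = p j := fun t => Pair.Hom.ext (hπ t)
  let cand : Cone D :=
    { pt := Over.mk (p i₀ ≫ (D.obj i₀).hom)
      π := { app := fun i => Over.homMk (p i) (by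
               obtain ⟨k, t, t₀, -⟩ : ∃ (k : I) (_ : k ⟶ i) (_ : k ⟶ i₀), True :=
                 ⟨IsCofiltered.min i i₀, IsCofiltered.minToLeft _ _, IsCofiltered.minToRight _ _, trivial⟩
               show p i ≫ _ = p i₀ ≫ _
               rw [← hp t, ← hp t₀, Category.assoc, Category.assoc, Over.w, Over.w])
             naturality := fun i j t => (Category.id_comp _).trans (Over.OverMorphism.ext (hp t).symm) } }
  let v : L ⟶ c.pt.left := (hc.lift cand).left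
  have hv : ∀ i, v ≫ (c.π.app i).left = p i := fun i => congrArg CommaMorphism.left (hc.fac cand i)
  let κ : Cone E :=
    { pt := c.pt.left.total
      π := { app := fun i => (c.π.app i).left.hom
             naturality := fun i j t => (Category.id_comp _).trans
               (congrArg (fun f : c.pt ⟶ D.obj j => f.left.hom) (c.w t)).symm } }
  let u₀ : c.pt.left.total ⟶ limit E := (limit.isLimit E).lift κ
  have hu₀ : ∀ i, u₀ ≫ π i = (c.π.app i).left.hom := fun i => (limit.isLimit E).fac κ i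
  let u : c.pt.left ⟶ L := ⟨u₀, by
    show _ ≤ ((D.obj i₀).left.mod.comap (π i₀)).comap u₀
    rw [← Scheme.IdealSheafData.comap_comp, hu₀]
    exact (c.π.app i₀).left.cond⟩
  have hu : ∀ i, u ≫ p i = (c.π.app i).left := fun i => Pair.Hom.ext (hu₀ i)
  have h1 : u ≫ v = 𝟙 c.pt.left := by
    let w : c.pt ⟶ cand.pt := Over.homMk u (by
      show u ≫ p i₀ ≫ _ = c.pt.hom
      rw [← Category.assoc, hu]
      exact Over.w (c.π.app i₀))
    exact congrArg CommaMorphism.left (hc.hom_ext (f := w ≫ hc.lift cand) (f' := 𝟙 _) fun i => by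
      rw [Category.assoc, hc.fac, Category.id_comp]
      exact Over.OverMorphism.ext (hu i))
  have h2 : v.hom ≫ u₀ = 𝟙 (limit E) := (limit.isLimit E).hom_ext fun i => by
    show (v.hom ≫ u₀) ≫ π i = 𝟙 _ ≫ π i
    rw [Category.assoc, hu₀, Category.id_comp]
    exact congrArg Pair.Hom.hom (hv i)
  refine ⟨⟨(limit.isLimit E).ofIsoLimit (Cone.ext ⟨v.hom, u₀, h2, congrArg Pair.Hom.hom h1⟩ fun i =>
    (congrArg Pair.Hom.hom (hv i)).symm)⟩, fun t => haff t, fun {i j} t => hmin i j t, fun i => ?_,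
    fun i => inferInstanceAs (CompactSpace (D.obj i).left.total),
    fun i => inferInstanceAs (QuasiSeparatedSpace (D.obj i).left.total)⟩
  refine le_antisymm (c.π.app i).left.cond ?_
  show (D.obj i).left.mod.comap (c.π.app i).left.hom ≤ c.pt.left.mod
  rw [← hu₀ i, Scheme.IdealSheafData.comap_comp, hmod i]
  refine (Scheme.IdealSheafData.comap_mono _ v.cond).trans ?_
  dsimp only
  rw [← Scheme.IdealSheafData.comap_comp, show u₀ ≫ v.hom = 𝟙 _ from congrArg Pair.Hom.hom h1]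
  exact (Scheme.IdealSheafData.comap_id c.pt.left.mod).le

variable {D : I ⥤ Pair.{u}} {c : Cone D}

theorem exists_hom_stage (hD : IsSys D c) {S Y : Pair.{u}} [QuasiSeparatedSpace S.total]
    [CompactSpace Y.total] [QuasiSeparatedSpace Y.total] (σ : D ⟶ (Functor.const I).obj S) (σ₀ : c.pt ⟶ S)
    (hσ : ∀ i, c.π.app i ≫ σ.app i = σ₀) (q : Y ⟶ S) [LocallyOfFiniteType q.hom]
    (h : IsDomSys D ∨ LocallyOfFinitePresentation q.hom) (f : c.pt ⟶ Y) (hf : f ≫ q = σ₀) :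
    ∃ (i : I) (fi : D.obj i ⟶ Y), fi ≫ q = σ.app i ∧ c.π.app i ≫ fi = f := by
  let D' : I ⥤ Over S.total :=
    { obj := fun i => Over.mk (σ.app i).hom
      map := fun {i j} t => Over.homMk (D.map t).hom
        (congrArg Pair.Hom.hom ((σ.naturality t).trans (Category.comp_id _)))
      map_id := fun i => Over.OverMorphism.ext (congrArg Pair.Hom.hom (D.map_id i))
      map_comp := fun t t' => Over.OverMorphism.ext (congrArg Pair.Hom.hom (D.map_comp t t')) }
  let c' : Cone D' :=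
    { pt := Over.mk σ₀.hom
      π := { app := fun i => Over.homMk (c.π.app i).hom (congrArg Pair.Hom.hom (hσ i))
             naturality := fun i j t => Over.OverMorphism.ext
               (congrArg Pair.Hom.hom (c.π.naturality t)) } }
  haveI : IsConnected I := IsCofiltered.isConnected _
  have hc : IsLimit c' := isLimitOfReflects (Over.forget S.total)
    (hD.nonempty_isLimit.some.ofIsoLimit (Cone.ext (Iso.refl _) fun i => (Category.id_comp _).symm))
  haveI : ∀ (i j : I) (t : i ⟶ j), IsAffineHom (D'.map t).left := fun i j t => hD.affine t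
  haveI : ∀ i, CompactSpace (D'.obj i).left := hD.compact
  haveI : ∀ i, QuasiSeparatedSpace (D'.obj i).left := hD.qs
  let Y' : Over S.total := Over.mk q.hom
  haveI : LocallyOfFiniteType Y'.hom := inferInstanceAs (LocallyOfFiniteType q.hom)
  haveI : CompactSpace Y'.left := inferInstanceAs (CompactSpace Y.total)
  haveI : QuasiSeparatedSpace Y'.left := inferInstanceAs (QuasiSeparatedSpace Y.total)
  obtain ⟨i, φ, hφ, hφf⟩ := exists_descend_ambient D' c' hc (fun i => (D.obj i).mod)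
    (fun i => (D.obj i).isEffCartier) (fun i j t => hD.min t) c.pt.mod (fun i => hD.minπ i) Y' Y.mod h
    (Over.homMk f.hom (congrArg Pair.Hom.hom hf)) f.cond
  exact ⟨i, ⟨φ.left, hφ⟩, Pair.Hom.ext (Over.w φ), Pair.Hom.ext (congrArg CommaMorphism.left hφf)⟩

theorem exists_hom_eq (hD : IsSys D c) {S Y : Pair.{u}} (σ : D ⟶ (Functor.const I).obj S)
    (q : Y ⟶ S) [LocallyOfFiniteType q.hom] {i : I}
    (f g : D.obj i ⟶ Y) (hf : f ≫ q = σ.app i) (hg : g ≫ q = σ.app i) (h : c.π.app i ≫ f = c.π.app i ≫ g) :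
    ∃ (j : I) (t : j ⟶ i), D.map t ≫ f = D.map t ≫ g := by
  let E := D ⋙ Pair.forget
  haveI : ∀ {i j : I} (t : i ⟶ j), IsAffineHom (E.map t) := fun t => hD.affine t
  haveI : ∀ i, CompactSpace (E.obj i) := hD.compact
  haveI : ∀ i, QuasiSeparatedSpace (E.obj i) := hD.qs
  let τ : E ⟶ (Functor.const I).obj S.total :=
    { app := fun i => (σ.app i).hom
      naturality := fun i j t => congrArg Pair.Hom.hom (σ.naturality t) }
  obtain ⟨k, t, ht⟩ := Scheme.exists_hom_comp_eq_comp_of_locallyOfFiniteType E τ q.hom (Pair.forget.mapCone c)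
    hD.nonempty_isLimit.some f.hom g.hom (congrArg Pair.Hom.hom hf).symm (congrArg Pair.Hom.hom hg).symm
    (congrArg Pair.Hom.hom h)
  exact ⟨k, t, Pair.Hom.ext ht⟩

/-- An admissible blow-up of the limit is dominated by the pull-back of one of a stage. -/
theorem exists_sys_descend (hD : IsSys D c) {X' : Pair.{u}} (s : X' ⟶ c.pt) (hs : Pair.admBlowup s) :
    ∃ (i : I) (T : Pair.{u}) (sT : T ⟶ D.obj i) (_ : Pair.admBlowup sT)
      (e : bp (c.π.app i) sT ⟶ X'), e ≫ s = bpFst (c.π.app i) sT := by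
  let E := D ⋙ Pair.forget
  haveI : ∀ (i j : I) (t : i ⟶ j), IsAffineHom (E.map t) := fun i j t => hD.affine t
  haveI : ∀ i, CompactSpace (E.obj i) := hD.compact
  haveI : ∀ i, QuasiSeparatedSpace (E.obj i) := hD.qs
  obtain ⟨hsmin, hsp, hsi⟩ := hs
  have hX' : BlowUp.IsEffCartierIdeal (c.pt.mod.comap s.hom) := hsmin ▸ X'.isEffCartier
  obtain ⟨i, Yi, IYi, si, hIYi, hadm, e, he⟩ := exists_descend_admBlowup E (Pair.forget.mapCone c)
    hD.nonempty_isLimit.some (fun i => (D.obj i).mod) (fun i => (D.obj i).isEffCartier) (fun i j t => hD.min t)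
    c.pt.mod (fun i => hD.minπ i) s.hom hX' ⟨rfl, hsp, hsi⟩
  let T : Pair.{u} := ⟨Yi, IYi, hIYi⟩
  let sT : T ⟶ D.obj i := ⟨si, le_of_eq hadm.1⟩
  have hinv : e.inv ≫ s.hom = (bpFst (c.π.app i) sT).hom := by
    rw [Iso.inv_comp_eq]; exact he.symm
  refine ⟨i, T, sT, hadm, ⟨e.inv, ?_⟩, Pair.Hom.ext hinv⟩
  refine le_of_eq ?_
  refine Eq.trans ?_ (congrArg (fun K => Scheme.IdealSheafData.comap K e.inv) hsmin).symm
  show c.pt.mod.comap (bpFst (c.π.app i) sT).hom = (c.pt.mod.comap s.hom).comap e.inv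
  rw [← Scheme.IdealSheafData.comap_comp]
  exact congrArg (c.pt.mod.comap ·) hinv.symm



/-- `φ` is defined at a stage if it is given on a pulled back blow-up by a morphism. -/
theorem hom_surjective_aux (hD : IsSys D c) {B T S Y : Pair.{u}} [QuasiSeparatedSpace S.total]
    [CompactSpace Y.total] [QuasiSeparatedSpace Y.total] (b : D ⟶ (Functor.const I).obj B) (b₀ : c.pt ⟶ B)
    (hb₀ : ∀ i, c.π.app i ≫ b.app i = b₀) (sT : T ⟶ B) (hsT : (ModPair.Pair.admBlowup.{u}) sT)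
    (σ : D ⟶ (Functor.const I).obj S) (σ₀ : c.pt ⟶ S) (hσ : ∀ i, c.π.app i ≫ σ.app i = σ₀)
    (q : Y ⟶ S) [LocallyOfFiniteType q.hom] (h : IsDomSys D ∨ LocallyOfFinitePresentation q.hom)
    (f : bp b₀ sT ⟶ Y) (hf : f ≫ q = bpFst b₀ sT ≫ σ₀)
    (φ : (ModPair.Pair.admBlowup.{u}).Q.obj c.pt ⟶ (ModPair.Pair.admBlowup.{u}).Q.obj Y)
    (hφ : (ModPair.Pair.admBlowup.{u}).Q.map (bpFst b₀ sT) ≫ φ = (ModPair.Pair.admBlowup.{u}).Q.map f) :
    ∃ (i : I) (φi : (ModPair.Pair.admBlowup.{u}).Q.obj (D.obj i) ⟶ (ModPair.Pair.admBlowup.{u}).Q.obj Y),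
      φi ≫ (ModPair.Pair.admBlowup.{u}).Q.map q = (ModPair.Pair.admBlowup.{u}).Q.map (σ.app i) ∧
        (ModPair.Pair.admBlowup.{u}).Q.map (c.π.app i) ≫ φi = φ := by
  have hE := isSys_bpSys b b₀ hb₀ sT hsT.1 hD hsT.2.1
  let σE : bpSys b sT hsT.1 ⟶ (Functor.const I).obj S :=
    { app := fun j => bpFst (b.app j) sT ≫ σ.app j
      naturality := fun j k a => by
        show bpMap (b.app k) (b.app j) sT hsT.1 (D.map a) (app_comp b a) ≫ bpFst (b.app k) sT ≫ σ.app k =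
          (bpFst (b.app j) sT ≫ σ.app j) ≫ 𝟙 _
        rw [← Category.assoc, bpMap_fst, Category.assoc, Category.comp_id]
        exact congrArg (bpFst (b.app j) sT ≫ ·) ((σ.naturality a).trans (Category.comp_id _)) }
  have hσE : ∀ j, (bpCone b b₀ hb₀ sT hsT.1).π.app j ≫ σE.app j = bpFst b₀ sT ≫ σ₀ := fun j => by
    show bpMap (b.app j) b₀ sT hsT.1 (c.π.app j) (hb₀ j) ≫ bpFst (b.app j) sT ≫ σ.app j = _
    rw [← Category.assoc, bpMap_fst, Category.assoc, hσ]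
  obtain ⟨j, fj, hfq, hfj⟩ := exists_hom_stage hE σE _ hσE q
    (h.imp (fun hd => isDomSys_bpSys b sT hD hd hsT) id) f hf
  obtain ⟨fj', hfq', hfj'⟩ : ∃ fj' : bp (b.app j) sT ⟶ Y, fj' ≫ q = bpFst (b.app j) sT ≫ σ.app j ∧
      bpMap (b.app j) b₀ sT hsT.1 (c.π.app j) (hb₀ j) ≫ fj' = f := ⟨fj, hfq, hfj⟩
  haveI := Localization.inverts (ModPair.Pair.admBlowup.{u}).Q (ModPair.Pair.admBlowup.{u}) (bpFst (b.app j) sT) (admBlowup_bpFst _ _ hsT)
  haveI := Localization.inverts (ModPair.Pair.admBlowup.{u}).Q (ModPair.Pair.admBlowup.{u}) (bpFst b₀ sT) (admBlowup_bpFst _ _ hsT)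
  refine ⟨j, inv ((ModPair.Pair.admBlowup.{u}).Q.map (bpFst (b.app j) sT)) ≫ (ModPair.Pair.admBlowup.{u}).Q.map fj', ?_, ?_⟩
  · rw [Category.assoc, ← Functor.map_comp, hfq', Functor.map_comp, IsIso.inv_hom_id_assoc]
  · rw [← cancel_epi ((ModPair.Pair.admBlowup.{u}).Q.map (bpFst b₀ sT)), ← Category.assoc ((ModPair.Pair.admBlowup.{u}).Q.map _), ← Functor.map_comp,
      ← bpMap_fst (b.app j) b₀ sT hsT.1 (c.π.app j) (hb₀ j), Functor.map_comp, Category.assoc,
      IsIso.hom_inv_id_assoc, ← Functor.map_comp, hφ]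
    exact congrArg (ModPair.Pair.admBlowup.{u}).Q.map hfj'

theorem hom_surjective (hD : IsSys D c) {S Y : Pair.{u}} [QuasiSeparatedSpace S.total]
    [CompactSpace Y.total] [QuasiSeparatedSpace Y.total] (σ : D ⟶ (Functor.const I).obj S) (σ₀ : c.pt ⟶ S)
    (hσ : ∀ i, c.π.app i ≫ σ.app i = σ₀) (q : Y ⟶ S) [LocallyOfFiniteType q.hom]
    (h : IsDomSys D ∨ LocallyOfFinitePresentation q.hom)
    (φ : (ModPair.Pair.admBlowup.{u}).Q.obj c.pt ⟶ (ModPair.Pair.admBlowup.{u}).Q.obj Y)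
    (hφ : φ ≫ (ModPair.Pair.admBlowup.{u}).Q.map q = (ModPair.Pair.admBlowup.{u}).Q.map σ₀) :
    ∃ (i : I) (φi : (ModPair.Pair.admBlowup.{u}).Q.obj (D.obj i) ⟶ (ModPair.Pair.admBlowup.{u}).Q.obj Y),
      φi ≫ (ModPair.Pair.admBlowup.{u}).Q.map q = (ModPair.Pair.admBlowup.{u}).Q.map (σ.app i) ∧
        (ModPair.Pair.admBlowup.{u}).Q.map (c.π.app i) ≫ φi = φ := by
  obtain ⟨z, hz⟩ := Localization.exists_rightFraction (ModPair.Pair.admBlowup.{u}).Q (ModPair.Pair.admBlowup.{u}) φ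
  have hzs : (ModPair.Pair.admBlowup.{u}).Q.map z.s ≫ φ = (ModPair.Pair.admBlowup.{u}).Q.map z.f := by
    rw [hz]; exact MorphismProperty.RightFraction.map_s_comp_map _ _ _
  have h0 : (ModPair.Pair.admBlowup.{u}).Q.map (z.f ≫ q) = (ModPair.Pair.admBlowup.{u}).Q.map (z.s ≫ σ₀) := by
    rw [Functor.map_comp, Functor.map_comp, ← hzs, Category.assoc, hφ]
  obtain ⟨X₂, t, ht, hte⟩ := (MorphismProperty.map_eq_iff_precomp (ModPair.Pair.admBlowup.{u}).Q (ModPair.Pair.admBlowup.{u}) _ _).1 h0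
  obtain ⟨i, T, sT, hsT, e, he⟩ := exists_sys_descend hD (t ≫ z.s) ((ModPair.Pair.admBlowup.{u}).comp_mem _ _ ht z.hs)
  let D₁ := Over.forget i ⋙ D
  let c₁ : Cone D₁ := c.whisker (Over.forget i)
  let b : D₁ ⟶ (Functor.const (Over i)).obj (D.obj i) :=
    { app := fun j => D.map j.hom
      naturality := fun j k a => by
        show D.map a.left ≫ D.map k.hom = D.map j.hom ≫ 𝟙 _
        rw [← D.map_comp, Over.w, Category.comp_id] }
  have hf : (e ≫ t ≫ z.f) ≫ q = bpFst (c.π.app i) sT ≫ σ₀ := by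
    rw [← he, Category.assoc, Category.assoc, Category.assoc, Category.assoc, hte]
  have hφ' : (ModPair.Pair.admBlowup.{u}).Q.map (bpFst (c.π.app i) sT) ≫ φ = (ModPair.Pair.admBlowup.{u}).Q.map (e ≫ t ≫ z.f) := by
    rw [← he]; simp only [Functor.map_comp, Category.assoc, hzs]
  obtain ⟨j, φj, h1, h2⟩ := hom_surjective_aux (D := D₁) (c := c₁) (hD.whisker (Over.forget i)) b (c.π.app i)
    (fun j => c.w j.hom) sT hsT (Functor.whiskerLeft (Over.forget i) σ) σ₀ (fun j => hσ j.left) q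
    (h.imp (fun hd a c t => hd _ _ _) id) (e ≫ t ≫ z.f) hf φ hφ'
  exact ⟨j.left, φj, h1, h2⟩

theorem exists_eq_of_precomp_aux (hD : IsSys D c) {B T' T S Y : Pair.{u}} (b : D ⟶ (Functor.const I).obj B)
    (b₀ : c.pt ⟶ B) (hb₀ : ∀ i, c.π.app i ≫ b.app i = b₀) (sT : T' ⟶ B) (hsT : (ModPair.Pair.admBlowup.{u}) sT)
    (p : D ⟶ (Functor.const I).obj T) (p₀ : c.pt ⟶ T) (hp₀ : ∀ i, c.π.app i ≫ p.app i = p₀)
    (q : Y ⟶ S) [LocallyOfFiniteType q.hom] (f g : T ⟶ Y) (hfg : f ≫ q = g ≫ q)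
    (h : bpFst b₀ sT ≫ p₀ ≫ f = bpFst b₀ sT ≫ p₀ ≫ g) :
    ∃ (j : I) (U : Pair.{u}) (u : U ⟶ D.obj j), (ModPair.Pair.admBlowup.{u}) u ∧ u ≫ p.app j ≫ f = u ≫ p.app j ≫ g := by
  have hE := isSys_bpSys b b₀ hb₀ sT hsT.1 hD hsT.2.1
  let pE : ∀ j, (bpSys b sT hsT.1).obj j ⟶ T := fun j => bpFst (b.app j) sT ≫ p.app j
  have hpE : ∀ {j k : I} (a : j ⟶ k), (bpSys b sT hsT.1).map a ≫ pE k = pE j := fun {j k} a => by
    show bpMap (b.app k) (b.app j) sT hsT.1 (D.map a) (app_comp b a) ≫ bpFst (b.app k) sT ≫ p.app k = _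
    rw [← Category.assoc, bpMap_fst, Category.assoc]
    exact congrArg (bpFst (b.app j) sT ≫ ·) ((p.naturality a).trans (Category.comp_id _))
  let σE : bpSys b sT hsT.1 ⟶ (Functor.const I).obj S :=
    { app := fun j => pE j ≫ f ≫ q
      naturality := fun j k a => by
        refine (Category.assoc _ _ _).symm.trans ?_
        rw [hpE]; exact (Category.comp_id _).symm }
  obtain ⟨i⟩ := IsCofiltered.nonempty (C := I)
  obtain ⟨j, a, ha⟩ := exists_hom_eq hE σE q (i := i) (pE i ≫ f) (pE i ≫ g) (Category.assoc _ _ _)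
    (by rw [Category.assoc, ← hfg]) (by
      show bpMap (b.app i) b₀ sT hsT.1 (c.π.app i) (hb₀ i) ≫ (bpFst (b.app i) sT ≫ p.app i) ≫ f =
        bpMap (b.app i) b₀ sT hsT.1 (c.π.app i) (hb₀ i) ≫ (bpFst (b.app i) sT ≫ p.app i) ≫ g
      simp only [← Category.assoc, bpMap_fst]
      simp only [Category.assoc, ← hp₀ i] at h ⊢
      exact h)
  rw [← Category.assoc, hpE, ← Category.assoc, hpE] at ha
  refine ⟨j, _, bpFst (b.app j) sT, admBlowup_bpFst _ _ hsT, ?_⟩
  simp only [pE, Category.assoc] at ha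
  exact ha

theorem exists_eq_of_precomp (hD : IsSys D c) {T S Y : Pair.{u}} (p : D ⟶ (Functor.const I).obj T) (p₀ : c.pt ⟶ T)
    (hp₀ : ∀ i, c.π.app i ≫ p.app i = p₀) (q : Y ⟶ S) [LocallyOfFiniteType q.hom] (f g : T ⟶ Y)
    (hfg : f ≫ q = g ≫ q) {X' : Pair.{u}} (t : X' ⟶ c.pt) (ht : (ModPair.Pair.admBlowup.{u}) t)
    (h : t ≫ p₀ ≫ f = t ≫ p₀ ≫ g) :
    ∃ (j : I) (U : Pair.{u}) (u : U ⟶ D.obj j), (ModPair.Pair.admBlowup.{u}) u ∧ u ≫ p.app j ≫ f = u ≫ p.app j ≫ g := by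
  obtain ⟨k, T', sT', hsT', e, he⟩ := exists_sys_descend hD t ht
  let b : Over.forget k ⋙ D ⟶ (Functor.const (Over k)).obj (D.obj k) :=
    { app := fun j => D.map j.hom
      naturality := fun j l a => by
        show D.map a.left ≫ D.map l.hom = D.map j.hom ≫ 𝟙 _
        rw [← D.map_comp, Over.w, Category.comp_id] }
  obtain ⟨j, U, u, hu, hue⟩ := exists_eq_of_precomp_aux (D := Over.forget k ⋙ D) (c := c.whisker (Over.forget k))
    (hD.whisker (Over.forget k)) b (c.π.app k) (fun j => c.w j.hom) sT' hsT'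
    (Functor.whiskerLeft (Over.forget k) p) p₀ (fun j => hp₀ j.left) q f g hfg
    (by rw [← he, Category.assoc, Category.assoc, h])
  exact ⟨j.left, U, u, hu, hue⟩

theorem hom_injective_aux (hD : IsSys D c) {B T S Y : Pair.{u}} (b : D ⟶ (Functor.const I).obj B) (b₀ : c.pt ⟶ B)
    (hb₀ : ∀ i, c.π.app i ≫ b.app i = b₀) (sT : T ⟶ B) (hsT : (ModPair.Pair.admBlowup.{u}) sT)
    (q : Y ⟶ S) [LocallyOfFiniteType q.hom] (f g : T ⟶ Y) (hfg : f ≫ q = g ≫ q)
    (φ ψ : (ModPair.Pair.admBlowup.{u}).Q.obj B ⟶ (ModPair.Pair.admBlowup.{u}).Q.obj Y)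
    (hfφ : (ModPair.Pair.admBlowup.{u}).Q.map sT ≫ φ = (ModPair.Pair.admBlowup.{u}).Q.map f)
    (hgψ : (ModPair.Pair.admBlowup.{u}).Q.map sT ≫ ψ = (ModPair.Pair.admBlowup.{u}).Q.map g)
    (h : (ModPair.Pair.admBlowup.{u}).Q.map b₀ ≫ φ = (ModPair.Pair.admBlowup.{u}).Q.map b₀ ≫ ψ) :
    ∃ j : I, (ModPair.Pair.admBlowup.{u}).Q.map (b.app j) ≫ φ = (ModPair.Pair.admBlowup.{u}).Q.map (b.app j) ≫ ψ := by
  have hE := isSys_bpSys b b₀ hb₀ sT hsT.1 hD hsT.2.1
  let pE : bpSys b sT hsT.1 ⟶ (Functor.const I).obj T :=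
    { app := fun j => bpSnd (b.app j) sT hsT.1
      naturality := fun j k a => by
        show bpMap (b.app k) (b.app j) sT hsT.1 (D.map a) (app_comp b a) ≫ bpSnd (b.app k) sT hsT.1 = _ ≫ 𝟙 _
        rw [bpMap_snd]; exact (Category.comp_id _).symm }
  have h3 : (ModPair.Pair.admBlowup.{u}).Q.map (bpSnd b₀ sT hsT.1 ≫ f) = (ModPair.Pair.admBlowup.{u}).Q.map (bpSnd b₀ sT hsT.1 ≫ g) := by
    rw [Functor.map_comp, Functor.map_comp, ← hfφ, ← hgψ, ← Category.assoc, ← Category.assoc, ← Functor.map_comp,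
      bp_condition, Functor.map_comp, Category.assoc, Category.assoc, h]
  obtain ⟨X₅, t, ht, hte⟩ := (MorphismProperty.map_eq_iff_precomp (ModPair.Pair.admBlowup.{u}).Q (ModPair.Pair.admBlowup.{u}) _ _).1 h3
  obtain ⟨j, U, w, hw, hwe⟩ := exists_eq_of_precomp hE pE (bpSnd b₀ sT hsT.1)
    (fun j => bpMap_snd (b.app j) b₀ sT hsT.1 (c.π.app j) (hb₀ j)) q f g hfg t ht hte
  haveI := Localization.inverts (ModPair.Pair.admBlowup.{u}).Q (ModPair.Pair.admBlowup.{u}) (w ≫ bpFst (b.app j) sT)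
    ((ModPair.Pair.admBlowup.{u}).comp_mem _ _ hw (admBlowup_bpFst _ _ hsT))
  refine ⟨j, ?_⟩
  have e : (w ≫ bpFst (b.app j) sT) ≫ b.app j = w ≫ bpSnd (b.app j) sT hsT.1 ≫ sT := by
    rw [Category.assoc]
    exact congrArg (w ≫ ·) (bp_condition (b.app j) sT hsT.1).symm
  rw [← cancel_epi ((ModPair.Pair.admBlowup.{u}).Q.map (w ≫ bpFst (b.app j) sT)), ← Category.assoc,
    ← Category.assoc _ _ ψ, ← Functor.map_comp, e]
  simp only [Functor.map_comp, Category.assoc, hfφ, hgψ]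
  simp only [← Functor.map_comp]
  exact congrArg (ModPair.Pair.admBlowup.{u}).Q.map hwe

theorem hom_injective (hD : IsSys D c) {S Y : Pair.{u}} (σ : D ⟶ (Functor.const I).obj S)
    (q : Y ⟶ S) [LocallyOfFiniteType q.hom] (i : I)
    (φ ψ : (ModPair.Pair.admBlowup.{u}).Q.obj (D.obj i) ⟶ (ModPair.Pair.admBlowup.{u}).Q.obj Y)
    (hφ : φ ≫ (ModPair.Pair.admBlowup.{u}).Q.map q = (ModPair.Pair.admBlowup.{u}).Q.map (σ.app i))
    (hψ : ψ ≫ (ModPair.Pair.admBlowup.{u}).Q.map q = (ModPair.Pair.admBlowup.{u}).Q.map (σ.app i))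
    (h : (ModPair.Pair.admBlowup.{u}).Q.map (c.π.app i) ≫ φ = (ModPair.Pair.admBlowup.{u}).Q.map (c.π.app i) ≫ ψ) :
    ∃ (j : I) (t : j ⟶ i), (ModPair.Pair.admBlowup.{u}).Q.map (D.map t) ≫ φ = (ModPair.Pair.admBlowup.{u}).Q.map (D.map t) ≫ ψ := by
  obtain ⟨z₁, hz₁⟩ := Localization.exists_rightFraction (ModPair.Pair.admBlowup.{u}).Q (ModPair.Pair.admBlowup.{u}) φ
  obtain ⟨z₂, hz₂⟩ := Localization.exists_rightFraction (ModPair.Pair.admBlowup.{u}).Q (ModPair.Pair.admBlowup.{u}) ((ModPair.Pair.admBlowup.{u}).Q.map z₁.s ≫ ψ)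
  have e₁ : (ModPair.Pair.admBlowup.{u}).Q.map z₁.s ≫ φ = (ModPair.Pair.admBlowup.{u}).Q.map z₁.f := by
    rw [hz₁]; exact MorphismProperty.RightFraction.map_s_comp_map _ _ _
  have e₂ : (ModPair.Pair.admBlowup.{u}).Q.map z₂.s ≫ (ModPair.Pair.admBlowup.{u}).Q.map z₁.s ≫ ψ = (ModPair.Pair.admBlowup.{u}).Q.map z₂.f := by
    rw [hz₂]; exact MorphismProperty.RightFraction.map_s_comp_map _ _ _
  have h1 : (ModPair.Pair.admBlowup.{u}).Q.map ((z₂.s ≫ z₁.f) ≫ q) = (ModPair.Pair.admBlowup.{u}).Q.map ((z₂.s ≫ z₁.s) ≫ σ.app i) := by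
    simp only [Functor.map_comp, Category.assoc, ← hφ, ← e₁]
  obtain ⟨X₃, t₃, ht₃, ht₃e⟩ := (MorphismProperty.map_eq_iff_precomp (ModPair.Pair.admBlowup.{u}).Q (ModPair.Pair.admBlowup.{u}) _ _).1 h1
  have h2 : (ModPair.Pair.admBlowup.{u}).Q.map (t₃ ≫ z₂.f ≫ q) = (ModPair.Pair.admBlowup.{u}).Q.map (t₃ ≫ (z₂.s ≫ z₁.s) ≫ σ.app i) := by
    simp only [Functor.map_comp, Category.assoc, ← hψ, ← e₂]
  obtain ⟨T, t₄, ht₄, ht₄e⟩ := (MorphismProperty.map_eq_iff_precomp (ModPair.Pair.admBlowup.{u}).Q (ModPair.Pair.admBlowup.{u}) _ _).1 h2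
  simp only [Category.assoc] at ht₃e ht₄e
  let b : Over.forget i ⋙ D ⟶ (Functor.const (Over i)).obj (D.obj i) :=
    { app := fun j => D.map j.hom
      naturality := fun j k a => by
        show D.map a.left ≫ D.map k.hom = D.map j.hom ≫ 𝟙 _
        rw [← D.map_comp, Over.w, Category.comp_id] }
  obtain ⟨j, hj⟩ := hom_injective_aux (D := Over.forget i ⋙ D) (c := c.whisker (Over.forget i))
    (hD.whisker (Over.forget i)) b (c.π.app i) (fun j => c.w j.hom) (t₄ ≫ t₃ ≫ z₂.s ≫ z₁.s)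
    ((ModPair.Pair.admBlowup.{u}).comp_mem _ _ ht₄ ((ModPair.Pair.admBlowup.{u}).comp_mem _ _ ht₃
      ((ModPair.Pair.admBlowup.{u}).comp_mem _ _ z₂.hs z₁.hs)))
    q (t₄ ≫ t₃ ≫ z₂.s ≫ z₁.f) (t₄ ≫ t₃ ≫ z₂.f) (by simp only [Category.assoc, ht₃e, ht₄e]) φ ψ
    (by simp only [Functor.map_comp, Category.assoc, e₁])
    (by simp only [Functor.map_comp, Category.assoc, e₂]) h
  exact ⟨j.left, j.hom, hj⟩

end Groth.Agent.ModPair23
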