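import Groth.Agent.ModPair23.ZariskiRefine
import Groth.Agent.SDiv28.BlowUp
import Groth.Agent.BlowUpLib.Proper
import Groth.Agent.ProjLib.BlowUpBasics
import Mathlib.AlgebraicGeometry.ValuativeCriterion

/-!
# Modulus pairs local for Zariski coverings and admissible blow-ups
-/

set_option autoImplicit false
set_option linter.style.haveILetI false
set_option backward.isDefEq.respectTransparency.types false

universe u

open CategoryTheory CategoryTheory.Limits AlgebraicGeometry TopologicalSpace ModPair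

namespace Groth.Agent.ModPair23

/-- Every morphism out of `P` lifts along admissible blow-ups. -/
abbrev AdmLocal (P : ModPair.Pair.{u}) : Prop :=
  ∀ (Q X : ModPair.Pair.{u}) (q : Q ⟶ X), ModPair.Pair.admBlowup q → ∀ g : P ⟶ X, ∃ h : P ⟶ Q, h ≫ q = g

/-- Every morphism out of `P` factors through a member of every Zariski covering. -/
abbrev ZarLocal (P : ModPair.Pair.{u}) : Prop :=
  ∀ (X : ModPair.Pair.{u}) (ι : Type u) (U : ι → ModPair.Pair.{u}) (v : ∀ i, U i ⟶ X),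
    (∀ i, ModPair.IsMinimal (U i).mod X.mod (v i).hom ∧ IsOpenImmersion (v i).hom ∧
      QuasiCompact (v i).hom) →
    (∀ x : X.total, ∃ (i : ι) (y : (U i).total), (v i).hom.base y = x) →
    ∀ g : P ⟶ X, ∃ (i : ι) (h : P ⟶ U i), h ≫ v i = g

/-- The open subpair. -/
@[reducible] noncomputable def openPair (P : ModPair.Pair.{u}) (V : P.total.Opens) : ModPair.Pair.{u} :=
  ⟨V.toScheme, P.mod.comap V.ι, SDiv28.isEffCartier_comap_of_flat P.isEffCartier V.ι⟩

theorem affine_local_of_cover (X : Scheme.{u})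
    (hc : ∀ {ι : Type u} (W : ι → X.Opens), (∀ i, IsAffineOpen (W i)) → (∀ x, ∃ i, x ∈ W i) → ∃ i, W i = ⊤) :
    IsAffine X ∧ IsLocalRing Γ(X, ⊤) := by
  obtain ⟨U, hU⟩ := hc (fun U : X.affineOpens => U.1) (fun U => U.2) fun x => by
    obtain ⟨U, hU, hx, -⟩ := exists_isAffineOpen_mem_and_subset (x := x) (U := (⊤ : X.Opens)) trivial
    exact ⟨⟨U, hU⟩, hx⟩
  have haff : IsAffineOpen (⊤ : X.Opens) := hU ▸ U.2
  haveI : IsAffine (⊤ : X.Opens).toScheme := haff
  haveI : IsAffine X := .of_isIso (Scheme.topIso X).inv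
  haveI : Nonempty X := by
    by_contra hne
    haveI : IsEmpty X := not_nonempty_iff.1 hne
    obtain ⟨i, -⟩ := hc (ι := PEmpty.{u + 1}) (fun i => i.elim) (fun i => i.elim) fun x => isEmptyElim x
    exact i.elim
  haveI : Nontrivial Γ(X, ⊤) := by
    obtain ⟨x⟩ := (inferInstance : Nonempty X)
    exact (X.presheaf.germ ⊤ x trivial).hom.domain_nontrivial
  refine ⟨inferInstance, .of_isUnit_or_isUnit_one_sub_self fun a => ?_⟩
  obtain ⟨b, hb⟩ := hc (ι := ULift.{u} Bool) (fun b => if b.down then X.basicOpen a else X.basicOpen (1 - a))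
    (fun b => by cases b.down <;> exact (isAffineOpen_top X).basicOpen _) fun x => by
      by_contra hx
      simp only [not_exists] at hx
      have h1 : x ∉ X.basicOpen a := hx ⟨true⟩
      have h2 : x ∉ X.basicOpen (1 - a) := hx ⟨false⟩
      rw [Scheme.mem_basicOpen _ _ x (Opens.mem_top x)] at h1 h2
      rw [map_sub, map_one] at h2
      exact h2 ((IsLocalRing.isUnit_or_isUnit_one_sub_self _).resolve_left h1)
  have hu : ∀ c : Γ(X, ⊤), X.basicOpen c = ⊤ → IsUnit c := fun c hc =>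
    X.toRingedSpace.isUnit_of_isUnit_germ ⊤ c fun x _ => by
      have : x ∈ X.basicOpen c := hc.ge (Opens.mem_top x)
      rwa [Scheme.mem_basicOpen _ _ x (Opens.mem_top x)] at this
  rcases b with ⟨_ | _⟩
  · exact Or.inr (hu _ (by simpa using hb))
  · exact Or.inl (hu _ (by simpa using hb))

theorem mem_basicOpen_iff {X : Scheme.{u}} (r : Γ(X, ⊤)) (x : X) :
    x ∈ X.basicOpen r ↔ r ∉ (X.toSpecΓ x).asIdeal := by
  rw [← Scheme.toSpecΓ_preimage_basicOpen]; rfl

theorem specializes_closed {X : Scheme.{u}} [IsAffine X] [IsLocalRing Γ(X, ⊤)] (z : X) :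
    z ⤳ X.isoSpec.inv (IsLocalRing.closedPoint Γ(X, ⊤)) := by
  have := (IsLocalRing.specializes_closedPoint (X.isoSpec.hom z)).map X.isoSpec.inv.continuous
  simpa using this

theorem exists_generator {X : Scheme.{u}} [IsAffine X] [IsLocalRing Γ(X, ⊤)] {I : X.IdealSheafData}
    (hI : BlowUp.IsEffCartierIdeal I) :
    ∃ f ∈ nonZeroDivisors Γ(X, ⊤), I.ideal ⟨⊤, isAffineOpen_top X⟩ = Ideal.span {f} := by
  obtain ⟨U, hU, f, hf, hfI⟩ := hI (X.isoSpec.inv (IsLocalRing.closedPoint Γ(X, ⊤)))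
  obtain rfl : U = ⟨⊤, isAffineOpen_top X⟩ :=
    Subtype.ext (top_le_iff.1 fun z _ => (specializes_closed z).mem_open U.1.2 hU)
  exact ⟨f, hf, hfI⟩

theorem interior_eq_basicOpen {X : Scheme.{u}} [IsAffine X] {I : X.IdealSheafData} {f : Γ(X, ⊤)}
    (hf : I.ideal ⟨⊤, isAffineOpen_top X⟩ = Ideal.span {f}) : ModPair.interior I = X.basicOpen f := by
  rw [← ModPairLib.inf_interior (U := ⟨⊤, isAffineOpen_top X⟩) hf, top_inf_eq]

theorem zarLocal_cover {P : ModPair.Pair.{u}} [QuasiSeparatedSpace P.total] (hZ : ZarLocal P) {ι : Type u}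
    (W : ι → P.total.Opens) (hW : ∀ i, IsAffineOpen (W i)) (hcov : ∀ x, ∃ i, x ∈ W i) : ∃ i, W i = ⊤ := by
  obtain ⟨i, h, hh⟩ := hZ P ι (fun i => openPair P (W i)) (fun i => ⟨(W i).ι, le_rfl⟩) (fun i => by
      haveI : CompactSpace (W i).toScheme := isCompact_iff_compactSpace.1 (hW i).isCompact
      exact ⟨rfl, inferInstanceAs (IsOpenImmersion (W i).ι), quasiCompact_of_compactSpace (W i).ι⟩)
    (fun x => by
      obtain ⟨i, hi⟩ := hcov x
      exact ⟨i, ⟨x, hi⟩, rfl⟩) (𝟙 P)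
  refine ⟨i, top_le_iff.1 fun x _ => ?_⟩
  have := congrArg (fun f : P.total ⟶ P.total => f x) (congrArg ModPair.Pair.Hom.hom hh)
  exact (show (W i).ι (h.hom x) = x from this) ▸ (h.hom x).2

theorem exists_section {P : ModPair.Pair.{u}} (hA : AdmLocal P) {F : P.total.IdealSheafData} {Y : Scheme.{u}}
    {b : Y ⟶ P.total} (hb : BlowUp.IsBlowUp b F) (hF : BlowUp.IsFiniteTypeIdeal F)
    (hdisj : Disjoint (F.support : Set P.total) (ModPair.interior P.mod : Set P.total))
    (heff : BlowUp.IsEffCartierIdeal (P.mod.comap b)) :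
    ∃ h : P.total ⟶ Y, h ≫ b = 𝟙 P.total := by
  obtain ⟨h, hh⟩ := hA ⟨Y, P.mod.comap b, heff⟩ P ⟨b, le_rfl⟩
    ⟨rfl, BlowUpLib.isProper_of_isBlowUp hb hF, ProjLib.isIso_morphismRestrict hb _ hdisj⟩ (𝟙 P)
  exact ⟨h.hom, congrArg ModPair.Pair.Hom.hom hh⟩

theorem interior_cover {P : ModPair.Pair.{u}} [CompactSpace P.total] [QuasiSeparatedSpace P.total]
    (hZ : ZarLocal P) (hA : AdmLocal P) {ι : Type u} (V : ι → P.total.Opens)
    (hVU : ∀ i, V i ≤ ModPair.interior P.mod) (hVc : ∀ i, IsCompact (V i : Set P.total))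
    (hcov : ModPair.interior P.mod ≤ ⨆ i, V i) : ∃ i, V i = ModPair.interior P.mod := by
  obtain ⟨F, Y, b, κ, W, hF, hb, heff, -, hW, hWV⟩ :=
    exists_zariski_refinement P.mod P.isEffCartier V hVU hVc hcov
  obtain ⟨h, hh⟩ := exists_section hA hb hF.1 hF.2 heff
  obtain ⟨⟨A, k, hAk⟩, hAtop⟩ := zarLocal_cover hZ
    (fun A : {A : P.total.affineOpens // ∃ k, A.1 ≤ h ⁻¹ᵁ W k} => A.1.1) (fun A => A.1.2) fun x => by
      obtain ⟨k, hk⟩ := Opens.mem_iSup.1 (hW.ge (Opens.mem_top (h x)))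
      obtain ⟨_, ⟨A, hA, rfl⟩, hxA, hAk⟩ := P.total.isBasis_affineOpens.exists_subset_of_mem_open
        (show x ∈ h ⁻¹ᵁ W k from hk) (h ⁻¹ᵁ W k).2
      exact ⟨⟨⟨A, hA⟩, k, hAk⟩, hxA⟩
  obtain ⟨i, hi⟩ := hWV k
  refine ⟨i, le_antisymm (hVU i) fun z hz => ?_⟩
  have hbz : b (h z) = z := by rw [← Scheme.Hom.comp_apply, hh]; rfl
  have := hi (show h z ∈ W k ⊓ b ⁻¹ᵁ ModPair.interior P.mod from
    ⟨hAk (hAtop.ge (Opens.mem_top z)), show b (h z) ∈ _ by rwa [hbz]⟩)
  rwa [show (h z ∈ b ⁻¹ᵁ V i) = (b (h z) ∈ V i) from rfl, hbz] at this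

theorem interior_affine_local {P : ModPair.Pair.{u}} [CompactSpace P.total] [QuasiSeparatedSpace P.total]
    (hZ : ZarLocal P) (hA : AdmLocal P) :
    IsAffine (ModPair.interior P.mod : Scheme.{u}) ∧
      IsLocalRing Γ((ModPair.interior P.mod : Scheme.{u}), ⊤) := by
  refine affine_local_of_cover _ fun {ι} W hW hcov => ?_
  obtain ⟨i, hi⟩ := interior_cover hZ hA (fun i => (ModPair.interior P.mod).ι ''ᵁ W i)
    (fun i => by rintro _ ⟨z, -, rfl⟩; exact z.2)
    (fun i => ((hW i).image_of_isOpenImmersion _).isCompact) fun z hz => by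
      obtain ⟨i, hi⟩ := hcov ⟨z, hz⟩
      exact Opens.mem_iSup.2 ⟨i, ⟨z, hz⟩, hi, rfl⟩
  refine ⟨i, top_le_iff.1 fun z _ => ?_⟩
  obtain ⟨z', hz', e⟩ := hi.ge z.2
  obtain rfl := Subtype.ext (e : z'.1 = z.1)
  exact hz'

theorem dvd_or_dvd {P : ModPair.Pair.{u}} [IsAffine P.total] [IsLocalRing Γ(P.total, ⊤)] (hA : AdmLocal P)
    (f : Γ(P.total, ⊤)) (hfn : f ∈ nonZeroDivisors Γ(P.total, ⊤))
    (hf : P.mod.ideal ⟨⊤, isAffineOpen_top _⟩ = Ideal.span {f}) (a b : Γ(P.total, ⊤)) (n : ℕ)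
    (hab : f ^ n ∈ Ideal.span {a, b}) : a ∣ b ∨ b ∣ a := by
  let I₀ : Ideal Γ(P.total, ⊤) := Ideal.span {a * f, b * f}
  let F : P.total.IdealSheafData := Scheme.IdealSheafData.ofIdealTop I₀
  have hFtop : F.ideal ⟨⊤, isAffineOpen_top _⟩ = I₀ :=
    (Scheme.IdealSheafData.equivOfIsAffine (X := P.total)).apply_symm_apply I₀
  have hF : BlowUp.IsFiniteTypeIdeal F := fun U => by
    rw [Scheme.IdealSheafData.ofIdealTop_ideal]
    exact Ideal.FG.map (Submodule.fg_span (by simp)) _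
  have hU : ModPair.interior P.mod = P.total.basicOpen f := interior_eq_basicOpen hf
  have hsupp : ∀ y, y ∈ F.support ↔ y ∉ P.total.basicOpen f := fun y => by
    rw [Scheme.IdealSheafData.mem_support_iff_of_mem (U := ⟨⊤, isAffineOpen_top _⟩) (Opens.mem_top y),
      hFtop, Scheme.zeroLocus_span, Scheme.mem_zeroLocus_iff]
    simp only [Set.mem_insert_iff, Set.mem_singleton_iff, forall_eq_or_imp, forall_eq, mem_basicOpen_iff, not_not]
    refine ⟨fun ⟨h1, h2⟩ => ?_, fun h => ⟨Ideal.mul_mem_left _ _ h, Ideal.mul_mem_left _ _ h⟩⟩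
    refine (P.total.toSpecΓ y).2.mem_of_pow_mem (n + 1) ?_
    obtain ⟨s, t, hst⟩ := Ideal.mem_span_pair.1 hab
    rw [pow_succ, ← hst, add_mul, mul_assoc, mul_assoc]
    exact add_mem (Ideal.mul_mem_left _ _ h1) (Ideal.mul_mem_left _ _ h2)
  obtain ⟨Y, π, hπ⟩ := BlowUpLib.exists_isBlowUp F
  have heff : BlowUp.IsEffCartierIdeal (P.mod.comap π) :=
    ModPairLib.isEffCartier_comap_of_dense P.isEffCartier π
      (ModPairLib.IsDenseOpen.mono (ModPairLib.isDenseOpen_interior hπ.1) fun y hy => by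
        show π y ∈ ModPair.interior P.mod
        rw [hU]
        by_contra h
        refine hy ?_
        rw [Scheme.IdealSheafData.support_comap]
        exact (hsupp _).2 h)
  obtain ⟨h, hh⟩ := exists_section hA hπ hF
    (Set.disjoint_left.2 fun y hy hy' => (hsupp y).1 hy (hU.le hy')) heff
  have hFc : BlowUp.IsEffCartierIdeal F := by
    have h0 : (F.comap π).comap h = F := by
      rw [← Scheme.IdealSheafData.comap_comp, hh, Scheme.IdealSheafData.comap_id]
    rw [← h0]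
    refine ModPairLib.isEffCartier_comap_of_dense hπ.1 h
      (ModPairLib.IsDenseOpen.mono (ModPairLib.isDenseOpen_interior P.isEffCartier) fun y hy => ?_)
    show h y ∉ (F.comap π).support
    rw [Scheme.IdealSheafData.support_comap]
    intro h'
    have h'' : π (h y) ∈ F.support := h'
    rw [← Scheme.Hom.comp_apply, hh] at h''
    exact (hsupp y).1 h'' (hU.le hy)
  obtain ⟨d, hdn, hd⟩ := exists_generator hFc
  rw [hFtop] at hd
  obtain ⟨a', ha'⟩ := Ideal.mem_span_singleton'.1 (hd.le (Ideal.subset_span (Set.mem_insert _ _)))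
  obtain ⟨b', hb'⟩ := Ideal.mem_span_singleton'.1 (hd.le (Ideal.subset_span (Set.mem_insert_of_mem _ rfl)))
  obtain ⟨s, t, hst⟩ := Ideal.mem_span_pair.1 (hd.ge (Ideal.mem_span_singleton_self d))
  have h1 : s * a' + t * b' = 1 := by
    refine (mul_cancel_right_mem_nonZeroDivisors hdn).1 ?_
    rw [one_mul, add_mul, mul_assoc, mul_assoc, ha', hb', hst]
  rcases IsLocalRing.isUnit_or_isUnit_of_add_one h1 with hu | hu
  · obtain ⟨v, hv⟩ := (isUnit_of_mul_isUnit_right hu).exists_left_inv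
    exact Or.inl ⟨b' * v, (mul_cancel_right_mem_nonZeroDivisors hfn).1
      (by linear_combination (b' * v) * ha' - (b' * d) * hv - hb')⟩
  · obtain ⟨v, hv⟩ := (isUnit_of_mul_isUnit_right hu).exists_left_inv
    exact Or.inr ⟨a' * v, (mul_cancel_right_mem_nonZeroDivisors hfn).1
      (by linear_combination (a' * v) * hb' - (a' * d) * hv - ha')⟩

theorem valuation_conditions {A : Type u} [CommRing A] (f : A) (hfn : f ∈ nonZeroDivisors A) (q : Ideal A)
    [q.IsPrime] (hfq : f ∉ q) (H : ∀ a ∉ q, ∃ n : ℕ, a ∣ f ^ n)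
    (hdvd : ∀ (a b : A) (n : ℕ), f ^ n ∈ Ideal.span {a, b} → a ∣ b ∨ b ∣ a) :
    ValuationRing (A ⧸ q) ∧ Set.BijOn (algebraMap A (Localization.AtPrime q)) (q : Set A)
      (IsLocalRing.maximalIdeal (Localization.AtPrime q) : Set (Localization.AtPrime q)) := by
  have key : ∀ a b : A, a ∉ q → a ∣ b ∨ b ∣ a := fun a b ha => by
    obtain ⟨n, c, hc⟩ := H a ha
    exact hdvd a b n (hc ▸ Ideal.mul_mem_right c _ (Ideal.subset_span (Set.mem_insert _ _)))
  refine ⟨ValuationRing.iff_dvd_total.2 ⟨fun x y => ?_⟩, ?_, ?_, ?_⟩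
  · obtain ⟨a, rfl⟩ := Ideal.Quotient.mk_surjective x
    obtain ⟨b, rfl⟩ := Ideal.Quotient.mk_surjective y
    by_cases ha : a ∈ q
    · rw [Ideal.Quotient.eq_zero_iff_mem.2 ha]
      exact Or.inr (dvd_zero _)
    · exact (key a b ha).imp (map_dvd _) (map_dvd _)
  · exact fun x hx => (IsLocalization.AtPrime.to_map_mem_maximal_iff _ q x).2 hx
  · intro x _ y _ hxy
    obtain ⟨⟨s, hs⟩, hs'⟩ := (IsLocalization.eq_iff_exists q.primeCompl _).1 hxy
    obtain ⟨n, c, hc⟩ := H s hs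
    have hn : f ^ n * x = f ^ n * y := by
      rw [hc, mul_right_comm, mul_right_comm s c y, show s * x = s * y from hs']
    exact (mul_cancel_left_mem_nonZeroDivisors (pow_mem hfn n)).1 hn
  · intro y hy
    obtain ⟨x, s, rfl⟩ := IsLocalization.exists_mk'_eq q.primeCompl y
    have hx : x ∈ q := (IsLocalization.AtPrime.mk'_mem_maximal_iff _ q x s).1 hy
    rcases key s.1 x s.2 with ⟨z, hz⟩ | ⟨z, hz⟩
    · refine ⟨z, ((‹q.IsPrime›).mem_or_mem (hz ▸ hx : s.1 * z ∈ q)).resolve_left s.2, ?_⟩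
      rw [eq_comm, IsLocalization.mk'_eq_iff_eq_mul, ← map_mul, hz, mul_comm]
    · exact absurd (hz ▸ Ideal.mul_mem_right z q hx) s.2

theorem exists_dvd_pow {P : ModPair.Pair.{u}} [IsAffine P.total]
    [IsAffine (ModPair.interior P.mod : Scheme.{u})] [IsLocalRing Γ((ModPair.interior P.mod : Scheme.{u}), ⊤)]
    (f : Γ(P.total, ⊤)) (hU : ModPair.interior P.mod = P.total.basicOpen f)
    (p : (ModPair.interior P.mod : Scheme.{u})) (hp : IsClosed ({p} : Set (ModPair.interior P.mod : Scheme.{u})))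
    (a : Γ(P.total, ⊤)) (ha : a ∉ (P.total.toSpecΓ ((ModPair.interior P.mod).ι p)).asIdeal) :
    ∃ n : ℕ, a ∣ f ^ n := by
  have hle : ModPair.interior P.mod ≤ P.total.basicOpen a := fun z hz => by
    let U : Scheme.{u} := (ModPair.interior P.mod : Scheme.{u})
    let c : U := U.isoSpec.inv (IsLocalRing.closedPoint Γ(U, ⊤))
    have hc : c = p := (specializes_closed p).mem_closed hp rfl
    have hz' : (⟨z, hz⟩ : U) ⤳ p := hc ▸ (specializes_closed (X := U) (⟨z, hz⟩ : U) : (⟨z, hz⟩ : U) ⤳ c)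
    exact (hz'.map (ModPair.interior P.mod).ι.continuous).mem_open (P.total.basicOpen a).2
      ((mem_basicOpen_iff a _).2 ha)
  have : f ∈ (Ideal.span {a}).radical := by
    rw [Ideal.radical_eq_sInf, Submodule.mem_sInf]
    rintro r ⟨hr, hrp⟩
    let z := P.total.isoSpec.inv (⟨r, hrp⟩ : PrimeSpectrum Γ(P.total, ⊤))
    have hz : P.total.toSpecΓ z = (⟨r, hrp⟩ : PrimeSpectrum Γ(P.total, ⊤)) := by
      rw [← Scheme.Hom.comp_apply, Scheme.isoSpec_inv_toSpecΓ]; rfl
    by_contra hf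
    have h1 : z ∈ P.total.basicOpen f := (mem_basicOpen_iff f z).2 (by rw [hz]; exact hf)
    have h2 := (mem_basicOpen_iff a z).1 (hle (hU.ge h1))
    rw [hz] at h2
    exact h2 (hr (Ideal.mem_span_singleton_self a))
  obtain ⟨n, hn⟩ := this
  exact ⟨n, Ideal.mem_span_singleton.1 hn⟩

set_option maxHeartbeats 1600000 in
theorem admLocal_of_valuation {P : ModPair.Pair.{u}} [IsAffine P.total] [IsLocalRing Γ(P.total, ⊤)]
    (f : Γ(P.total, ⊤)) (hfn : f ∈ nonZeroDivisors Γ(P.total, ⊤))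
    (hU : ModPair.interior P.mod = P.total.basicOpen f) (q : Ideal Γ(P.total, ⊤)) [q.IsPrime] (hfq : f ∉ q)
    (H : ∀ a ∉ q, ∃ n : ℕ, a ∣ f ^ n) [ValuationRing (Γ(P.total, ⊤) ⧸ q)]
    (hbij : Set.BijOn (algebraMap Γ(P.total, ⊤) (Localization.AtPrime q)) (q : Set Γ(P.total, ⊤))
      (IsLocalRing.maximalIdeal (Localization.AtPrime q) : Set (Localization.AtPrime q))) :
    AdmLocal P := by
  intro Q X s hs g
  obtain ⟨hmin, hprop, hiso⟩ := hs
  haveI := hprop; haveI := hiso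
  haveI : IsLocalRing (Γ(P.total, ⊤) ⧸ q) := IsLocalRing.of_surjective' (Ideal.Quotient.mk q) Ideal.Quotient.mk_surjective
  let A : CommRingCat.{u} := Γ(P.total, ⊤)
  haveI : IsDomain (A ⧸ q) := inferInstanceAs (IsDomain (Γ(P.total, ⊤) ⧸ q))
  haveI : IsLocalRing (A ⧸ q) := inferInstanceAs (IsLocalRing (Γ(P.total, ⊤) ⧸ q))
  haveI : ValuationRing (A ⧸ q) := inferInstanceAs (ValuationRing (Γ(P.total, ⊤) ⧸ q))
  let e := P.total.isoSpec
  let Af := Localization.Away f
  let K := FractionRing (A ⧸ q)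
  let π : A →+* K := (algebraMap (A ⧸ q) K).comp (Ideal.Quotient.mk q)
  have hπ : ∀ a, π a = 0 ↔ a ∈ q := fun a => by
    show algebraMap (A ⧸ q) K (Ideal.Quotient.mk q a) = 0 ↔ _
    rw [map_eq_zero_iff _ (IsFractionRing.injective _ _), Ideal.Quotient.eq_zero_iff_mem]
  have hu : IsUnit (π f) := isUnit_iff_ne_zero.2 fun h => hfq ((hπ f).1 h)
  let ψ : Af →+* K := IsLocalization.Away.lift f hu
  have hψa : ∀ a, ψ (algebraMap A Af a) = π a := fun a => IsLocalization.Away.lift_eq f hu a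
  let pn : ℕ → Submonoid.powers f := fun n => ⟨f ^ n, n, rfl⟩
  have hψ : ∀ y : Af, ψ y ≠ 0 → IsUnit y := fun y hy => by
    obtain ⟨x, ⟨_, n, rfl⟩, rfl⟩ := IsLocalization.exists_mk'_eq (Submonoid.powers f) y
    have hx : x ∉ q := fun hx => hy (by
      have h1 : ψ (IsLocalization.mk' Af x (pn n)) * π (f ^ n) = π x := by
        rw [← hψa (f ^ n), ← map_mul, IsLocalization.mk'_spec Af x (pn n), hψa]
      rw [(hπ x).2 hx] at h1
      refine (mul_eq_zero.1 h1).resolve_right ?_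
      rw [map_pow]; exact (hu.pow n).ne_zero)
    obtain ⟨m, c, hc⟩ := H x hx
    refine isUnit_of_mul_isUnit_left (y := algebraMap A Af (f ^ n)) ?_
    rw [IsLocalization.mk'_spec Af x (pn n)]
    refine isUnit_of_mul_isUnit_left (y := algebraMap A Af c) ?_
    rw [← map_mul, ← hc, map_pow]
    exact (IsLocalization.Away.algebraMap_isUnit f).pow m
  let j : Spec (CommRingCat.of Af) ⟶ P.total := Spec.map (CommRingCat.ofHom (algebraMap A Af)) ≫ e.inv
  haveI : IsOpenImmersion (Spec.map (CommRingCat.ofHom (algebraMap A Af))) := IsOpenImmersion.of_isLocalization f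
  have hj : ∀ z, z ∈ ModPair.interior P.mod ↔ ∃ w, j w = z := fun z => by
    have hez : P.total.toSpecΓ z ∈ PrimeSpectrum.basicOpen f ↔ z ∈ ModPair.interior P.mod := by
      rw [hU, mem_basicOpen_iff]; rfl
    rw [← hez]
    constructor
    · intro hz
      obtain ⟨w₀, hw⟩ := (PrimeSpectrum.localization_away_comap_range Af f).ge hz
      let w : Spec (CommRingCat.of Af) := w₀
      refine ⟨w, ?_⟩
      show e.inv (Spec.map _ w) = z
      rw [show Spec.map (CommRingCat.ofHom (algebraMap A Af)) w = P.total.toSpecΓ z from hw]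
      exact ((Scheme.Hom.comp_apply _ _ _).symm.trans
        (congrArg (fun φ : P.total ⟶ P.total => φ z) e.hom_inv_id))
    · rintro ⟨w, rfl⟩
      refine (PrimeSpectrum.localization_away_comap_range Af f).le ⟨w, ?_⟩
      show Spec.map (CommRingCat.ofHom (algebraMap A Af)) w = P.total.toSpecΓ (j w)
      rw [← Scheme.Hom.comp_apply j, show j ≫ P.total.toSpecΓ = Spec.map (CommRingCat.ofHom (algebraMap A Af)) from by
        simp only [j, e, Category.assoc, Scheme.isoSpec_inv_toSpecΓ]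
        exact Category.comp_id _]
  let W₀ := ModPair.interior X.mod
  have hrange : Set.range (j ≫ g.hom) ⊆ Set.range W₀.ι := by
    rintro _ ⟨w, rfl⟩
    rw [Scheme.Opens.range_ι]
    exact ModPairLib.interior_comp g.cond ((hj _).2 ⟨w, rfl⟩)
  let s₀ : Spec (CommRingCat.of Af) ⟶ Q.total :=
    IsOpenImmersion.lift W₀.ι (j ≫ g.hom) hrange ≫ inv (s.hom ∣_ W₀) ≫ (s.hom ⁻¹ᵁ W₀).ι
  have hs₀ : s₀ ≫ s.hom = j ≫ g.hom := by
    simp only [s₀, Category.assoc, ← morphismRestrict_ι, IsIso.inv_hom_id_assoc, IsOpenImmersion.lift_fac]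
  obtain ⟨Xo, hXo, hoX, -⟩ := exists_isAffineOpen_mem_and_subset (U := (⊤ : X.total.Opens))
    (Opens.mem_top (g.hom (e.inv (IsLocalRing.closedPoint A))))
  have hgX : ∀ z, g.hom z ∈ Xo := fun z =>
    ((specializes_closed z).map g.hom.continuous).mem_open Xo.2 hoX
  have hval : ValuativeCriterion.Existence s.hom := by
    have h1 : UniversallyClosed s.hom := inferInstance
    rw [UniversallyClosed.eq_valuativeCriterion] at h1
    exact h1.1
  obtain ⟨l, hl₁, hl₂⟩ := (hval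
    { R := A ⧸ q, K := K, i₁ := Spec.map (CommRingCat.ofHom ψ) ≫ s₀,
      i₂ := Spec.map (CommRingCat.ofHom (Ideal.Quotient.mk q)) ≫ e.inv ≫ g.hom,
      commSq := ⟨by
        rw [Category.assoc, hs₀]
        simp only [j, Category.assoc]
        rw [← Spec.map_comp_assoc, ← Spec.map_comp_assoc]
        congr 2
        ext a
        exact hψa a⟩ }).exists_lift
  dsimp only at hl₁ hl₂
  obtain ⟨_, ⟨W, hW, rfl⟩, hzW, hWX⟩ := Q.total.isBasis_affineOpens.exists_subset_of_mem_open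
    (show l (IsLocalRing.closedPoint (A ⧸ q)) ∈ s.hom ⁻¹ᵁ Xo from by
      show s.hom (l _) ∈ Xo
      rw [← Scheme.Hom.comp_apply, hl₂]
      exact hgX _) (s.hom ⁻¹ᵁ Xo).2
  have hlW : ∀ z, l z ∈ W := fun z =>
    ((IsLocalRing.specializes_closedPoint z).map l.continuous).mem_open W.2 hzW
  have hsW : ∀ w, s₀ w ∈ W := fun w => by
    let c := Spec.map (CommRingCat.ofHom ψ) (IsLocalRing.closedPoint K)
    have hwc : w ⤳ c := by
      refine (PrimeSpectrum.le_iff_specializes w _).1 fun y hy => ?_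
      show ψ y ∈ IsLocalRing.maximalIdeal K
      rw [IsLocalRing.maximalIdeal_eq_bot, Ideal.mem_bot]
      by_contra h
      exact w.2.ne_top (Ideal.eq_top_of_isUnit_mem _ hy (hψ y h))
    refine (hwc.map s₀.continuous).mem_open W.2 ?_
    show s₀ (Spec.map (CommRingCat.ofHom ψ) _) ∈ W
    rw [← Scheme.Hom.comp_apply, ← hl₁]
    exact hlW _
  let sW : Spec (CommRingCat.of Af) ⟶ Spec Γ(Q.total, W) :=
    IsOpenImmersion.lift hW.fromSpec s₀ (by rintro _ ⟨w, rfl⟩; rw [hW.range_fromSpec]; exact hsW w)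
  let lW : Spec (CommRingCat.of (A ⧸ q)) ⟶ Spec Γ(Q.total, W) :=
    IsOpenImmersion.lift hW.fromSpec l (by rintro _ ⟨w, rfl⟩; rw [hW.range_fromSpec]; exact hlW w)
  obtain ⟨β, hβ⟩ := Spec.map_surjective sW
  obtain ⟨α, hα⟩ := Spec.map_surjective lW
  have hαβ : ∀ r, algebraMap (A ⧸ q) K (α r) = ψ (β r) := fun r => by
    have : α ≫ CommRingCat.ofHom (algebraMap (A ⧸ q) K) = β ≫ CommRingCat.ofHom ψ := Spec.map_injective (by
      rw [Spec.map_comp, Spec.map_comp, hα, hβ, ← cancel_mono hW.fromSpec, Category.assoc, Category.assoc,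
        IsOpenImmersion.lift_fac, IsOpenImmersion.lift_fac]
      exact hl₁)
    exact ConcreteCategory.congr_hom this r
  have hinj : Function.Injective (algebraMap A Af) :=
    IsLocalization.injective Af (Submonoid.powers_le.2 hfn)
  have hrng : ∀ r, ∃ a, algebraMap A Af a = β r := fun r => by
    obtain ⟨a₀, ha₀⟩ := Ideal.Quotient.mk_surjective (α r)
    obtain ⟨x, ⟨_, n, rfl⟩, hx⟩ := IsLocalization.exists_mk'_eq (Submonoid.powers f) (β r - algebraMap A Af a₀)
    have hxq : x ∈ q := by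
      rw [← hπ, ← hψa, ← IsLocalization.mk'_spec Af x (pn n), hx, map_mul, map_sub, hψa,
        ← hαβ r, ← ha₀]
      simp [π]
    obtain ⟨z, -, hz⟩ := hbij.surjOn ((IsLocalization.AtPrime.mk'_mem_maximal_iff (Localization.AtPrime q) q x
      ⟨f ^ n, fun h => hfq (‹q.IsPrime›.mem_of_pow_mem n h)⟩).2 hxq)
    rw [eq_comm, IsLocalization.mk'_eq_iff_eq_mul, ← map_mul, IsLocalization.eq_iff_exists q.primeCompl] at hz
    obtain ⟨⟨c, hc⟩, hcz⟩ := hz
    obtain ⟨m, d, hd⟩ := H c hc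
    have hzx : x = z * f ^ n := by
      refine (mul_cancel_left_mem_nonZeroDivisors (pow_mem hfn m)).1 ?_
      rw [hd, mul_right_comm c d x, mul_right_comm c d, show c * x = c * (z * f ^ n) from hcz]
    refine ⟨a₀ + z, ?_⟩
    have hy : β r - algebraMap A Af a₀ = algebraMap A Af z := by
      rw [← hx, IsLocalization.mk'_eq_iff_eq_mul, hzx, map_mul]
    rw [map_add, ← hy]; ring
  choose γ₀ hγ₀ using hrng
  let γ : Γ(Q.total, W) →+* A :=
    { toFun := γ₀
      map_one' := hinj (by rw [hγ₀, map_one, map_one])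
      map_mul' := fun r r' => hinj (by rw [hγ₀, map_mul, map_mul, hγ₀, hγ₀])
      map_zero' := hinj (by rw [hγ₀, map_zero, map_zero])
      map_add' := fun r r' => hinj (by rw [hγ₀, map_add, map_add, hγ₀, hγ₀]) }
  let h : P.total ⟶ Q.total := e.hom ≫ Spec.map (CommRingCat.ofHom γ) ≫ hW.fromSpec
  have hjh : j ≫ h = s₀ := by
    simp only [j, h, Category.assoc, e.inv_hom_id_assoc]
    rw [← Spec.map_comp_assoc, show CommRingCat.ofHom γ ≫ CommRingCat.ofHom (algebraMap A Af) = β by ext r; exact hγ₀ r,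
      hβ, IsOpenImmersion.lift_fac]
  have hhX : ∀ z, (h ≫ s.hom) z ∈ Xo := fun z => hWX (hW.range_fromSpec.le ⟨_, rfl⟩)
  have hcomp : h ≫ s.hom = g.hom := by
    let a' := IsOpenImmersion.lift Xo.ι (h ≫ s.hom) (by rintro _ ⟨z, rfl⟩; rw [Scheme.Opens.range_ι]; exact hhX z)
    let b' := IsOpenImmersion.lift Xo.ι g.hom (by rintro _ ⟨z, rfl⟩; rw [Scheme.Opens.range_ι]; exact hgX z)
    haveI : IsAffine Xo.toScheme := hXo
    haveI : IsAffineHom (specULiftZIsTerminal.from Xo.toScheme) := isAffineHom_of_isAffine _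
    haveI : IsOpenImmersion j := inferInstanceAs (IsOpenImmersion (Spec.map _ ≫ e.inv))
    suffices a' = b' by
      rw [← IsOpenImmersion.lift_fac Xo.ι (h ≫ s.hom) (by rintro _ ⟨z, rfl⟩; rw [Scheme.Opens.range_ι]; exact hhX z)]
      show a' ≫ Xo.ι = _
      rw [this, IsOpenImmersion.lift_fac]
    let i := IsOpenImmersion.isoOfRangeEq (ModPair.interior P.mod).ι j (by
      ext z; rw [Scheme.Opens.range_ι, SetLike.mem_coe, hj, Set.mem_range])
    refine (ModPairLib.isDenseOpen_interior P.isEffCartier).hom_ext (specULiftZIsTerminal.from Xo.toScheme)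
      (specULiftZIsTerminal.hom_ext _ _) ?_
    rw [← IsOpenImmersion.isoOfRangeEq_hom_fac (ModPair.interior P.mod).ι j (by
      ext z; rw [Scheme.Opens.range_ι, SetLike.mem_coe, hj, Set.mem_range]), Category.assoc, Category.assoc,
      ← cancel_mono Xo.ι, Category.assoc, Category.assoc, Category.assoc, Category.assoc,
      IsOpenImmersion.lift_fac, IsOpenImmersion.lift_fac]
    have key : j ≫ h ≫ s.hom = j ≫ g.hom := by rw [← Category.assoc, hjh, hs₀]
    simp only [j, Category.assoc] at key ⊢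
    rw [key]
  refine ⟨⟨h, ?_⟩, ModPair.Pair.Hom.ext hcomp⟩
  show P.mod ≤ Q.mod.comap h
  rw [show Q.mod = X.mod.comap s.hom from hmin, ← Scheme.IdealSheafData.comap_comp, hcomp]
  exact g.cond

theorem zarLocal_of_affine_local {P : ModPair.Pair.{u}} [IsAffine P.total] [IsLocalRing Γ(P.total, ⊤)] :
    ZarLocal P := by
  intro X ι U v hv hcov g
  obtain ⟨i, y, hy⟩ := hcov (g.hom (P.total.isoSpec.inv (IsLocalRing.closedPoint Γ(P.total, ⊤))))
  haveI := (hv i).2.1
  have hr : Set.range g.hom ⊆ Set.range (v i).hom := by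
    rintro _ ⟨z, rfl⟩
    exact ((specializes_closed z).map g.hom.continuous).mem_open (v i).hom.isOpenEmbedding.isOpen_range ⟨y, hy⟩
  refine ⟨i, ⟨IsOpenImmersion.lift (v i).hom g.hom hr, ?_⟩, ModPair.Pair.Hom.ext (IsOpenImmersion.lift_fac _ _ _)⟩
  show P.mod ≤ (U i).mod.comap _
  rw [show (U i).mod = X.mod.comap (v i).hom from (hv i).1, ← Scheme.IdealSheafData.comap_comp,
    IsOpenImmersion.lift_fac]
  exact g.cond

end Groth.Agent.ModPair23
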