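import Groth.Agent.ModPairLib.Colon
import Groth.Agent.ModPairLib.AmbProd
import Groth.Agent.BlowUpLib.Separate
import Groth.Agent.BlowUpLib.Exists

/-!
# Zariski coverings of the interior extend after an admissible blow-up
-/

set_option autoImplicit false
set_option linter.style.haveILetI false
set_option backward.isDefEq.respectTransparency.types false

universe u

open CategoryTheory CategoryTheory.Limits AlgebraicGeometry TopologicalSpace

namespace Groth.Agent.ModPair23

theorem mem_support_sup {X : Scheme.{u}} {ι : Type*} (s : Finset ι) (G : ι → X.IdealSheafData) (y : X)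
    (h : ∀ i ∈ s, y ∈ (G i).support) : y ∈ (s.sup G).support := by
  let Z : Closeds X := .closure {y}
  have hZ : ∀ (A : X.IdealSheafData), y ∈ A.support → A ≤ Scheme.IdealSheafData.vanishingIdeal Z := fun A hA =>
    Scheme.IdealSheafData.le_support_iff_le_vanishingIdeal.1
      (Closeds.closure_le.2 (Set.singleton_subset_iff.2 hA))
  exact Scheme.IdealSheafData.le_support_iff_le_vanishingIdeal.2 (Finset.sup_le fun i hi => hZ _ (h i hi))
    (subset_closure rfl)

theorem exists_zariski_refinement {S : Scheme.{u}} [CompactSpace S] [QuasiSeparatedSpace S]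
    (I : S.IdealSheafData) (hI : BlowUp.IsEffCartierIdeal I) {ι : Type u} (V : ι → S.Opens)
    (hVU : ∀ i, V i ≤ ModPair.interior I) (hVqc : ∀ i, IsCompact (V i : Set S))
    (hcov : ModPair.interior I ≤ ⨆ i, V i) :
    ∃ (F : S.IdealSheafData) (Y : Scheme.{u}) (b : Y ⟶ S) (κ : Type u) (W : κ → Y.Opens),
      BlowUp.IsAdmissibleFor (ModPair.interior I) F ∧ BlowUp.IsBlowUp b F ∧
        BlowUp.IsEffCartierIdeal (I.comap b) ∧ (∀ k, IsCompact (W k : Set Y)) ∧
        (⨆ k, W k) = ⊤ ∧ ∀ k, ∃ i, W k ⊓ b ⁻¹ᵁ ModPair.interior I ≤ b ⁻¹ᵁ V i := by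
  classical
  haveI := ModPairLib.isAffineHom_interior hI
  have hU : IsCompact (ModPair.interior I : Set S) := by
    have := (ModPair.interior I).ι.isCompact_preimage (U := (⊤ : S.Opens)) isCompact_univ
    have := this.image (ModPair.interior I).ι.continuous
    convert this
    ext y
    exact ⟨fun hy => ⟨⟨y, hy⟩, trivial, rfl⟩, fun ⟨z, _, e⟩ => e ▸ z.2⟩
  obtain ⟨t, ht⟩ := hU.elim_finite_subcover (fun i => (V i : Set S)) (fun i => (V i).2) (by
    intro x hx
    obtain ⟨i, hi⟩ := Opens.mem_iSup.1 (hcov hx)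
    exact Set.mem_iUnion.2 ⟨i, hi⟩)
  choose G hG hGs using fun i => BlowUpLib.exists_finiteType_support_eq (X := S) (V i : Set S)ᶜ
    (V i).2.isClosed_compl (by rw [compl_compl]; exact hVqc i)
  let F : S.IdealSheafData := t.sup G
  have hF : BlowUp.IsFiniteTypeIdeal F := Finset.sup_induction
    (p := BlowUp.IsFiniteTypeIdeal)
    (fun U => by rw [Scheme.IdealSheafData.ideal_bot]; exact Submodule.fg_bot)
    (fun a ha b hb => ModPairLib.isFiniteType_sup ha hb) (fun i _ => hG i)
  have hFs : ∀ y : S, y ∈ F.support ↔ y ∉ ModPair.interior I := fun y => by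
    refine ⟨fun hy hyU => ?_, fun hy => mem_support_sup t G y fun i _ => ?_⟩
    · obtain ⟨i, hi, hyi⟩ := Set.mem_iUnion₂.1 (ht hyU)
      have := Scheme.IdealSheafData.support_antitone (Finset.le_sup (f := G) hi) hy
      rw [← SetLike.mem_coe, hGs] at this
      exact this hyi
    · rw [← SetLike.mem_coe, hGs]
      exact fun h => hy (hVU i h)
  obtain ⟨Y, b, hb⟩ := BlowUpLib.exists_isBlowUp F
  let E := F.comap b
  have hEs : ∀ y : Y, y ∈ E.support ↔ b y ∉ ModPair.interior I := fun y => by
    rw [show E = F.comap b from rfl, Scheme.IdealSheafData.support_comap]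
    exact hFs (b y)
  have hle : ∀ i ∈ t, (G i).comap b ≤ E := fun i hi =>
    Scheme.IdealSheafData.comap_mono b (Finset.le_sup (f := G) hi)
  let C : ι → Y.IdealSheafData := fun i =>
    ModPairLib.colon ((G i).comap b) E (ModPairLib.isFiniteType_of_effCartier hb.1)
  have hC : ∀ i ∈ t, C i * E = (G i).comap b := fun i hi => ModPairLib.colon_mul hb.1 (hle i hi)
  have hK : t.sup C = ⊤ := by
    refine top_le_iff.1 (ModPairLib.le_of_mul_le_mul hb.1 ?_)
    rw [Scheme.IdealSheafData.top_mul]
    refine Scheme.IdealSheafData.le_map_iff_comap_le.1 (Finset.sup_le fun i hi =>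
      Scheme.IdealSheafData.le_map_iff_comap_le.2 ?_)
    rw [← hC i hi]
    intro U
    simp only [Scheme.IdealSheafData.ideal_mul, Pi.mul_apply]
    exact Ideal.mul_mono_left (Finset.le_sup (f := C) hi U)
  refine ⟨F, Y, b, {W : Y.affineOpens // ∃ i ∈ t, ∀ y ∈ W.1, y ∉ (C i).support}, fun W => W.1.1,
    ⟨hF, Set.disjoint_left.2 fun y hy hy' => (hFs y).1 hy hy'⟩, hb, ?_, fun W => W.1.2.isCompact, ?_, ?_⟩
  · refine ModPairLib.isEffCartier_comap_of_dense hI b
      (ModPairLib.IsDenseOpen.mono (ModPairLib.isDenseOpen_interior hb.1) fun y hy => ?_)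
    by_contra hyU
    exact hy ((hEs y).2 hyU)
  · refine top_le_iff.1 fun y _ => ?_
    obtain ⟨i, hi, hyi⟩ : ∃ i ∈ t, y ∉ (C i).support := by
      by_contra! hall
      have := mem_support_sup t C y hall
      rw [hK, Scheme.IdealSheafData.support_top] at this
      exact this
    obtain ⟨_, ⟨W, hW, rfl⟩, hyW, hWle⟩ := Y.isBasis_affineOpens.exists_subset_of_mem_open
      (show y ∈ (C i).support.compl from hyi) (C i).support.compl.2
    exact Opens.mem_iSup.2 ⟨⟨⟨W, hW⟩, i, hi, fun z hz => hWle hz⟩, hyW⟩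
  · rintro ⟨W, i, hi, hW⟩
    refine ⟨i, fun y hy => ?_⟩
    by_contra hyV
    have : y ∈ ((G i).comap b).support := by
      rw [Scheme.IdealSheafData.support_comap]
      show b y ∈ ((G i).support : Set S)
      rw [hGs]; exact hyV
    rw [← hC i hi, Scheme.IdealSheafData.support_mul] at this
    rcases this with h | h
    · exact hW y hy.1 h
    · exact (hEs y).1 h hy.2

end Groth.Agent.ModPair23
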